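import Mathlib
import Cfsg.Agent.Lib.PermCode
import Cfsg.Agent.H173.PresSix
import Cfsg.Prelude.Def_GeometricClasses
import Cfsg.Agent.H95.StemCover
import Cfsg.Agent.S2116
import Cfsg.Agent.H906.Cover_m3
import Cfsg.Agent.H920.NineBase
import Cfsg.Agent.Classification.PSLThreeRecog
import Cfsg.Agent.ClassicalGeometry.PSL2Basic
import Cfsg.Agent.H937.T2Rep_m3
import Cfsg.Agent.S0277
import Cfsg.Agent.ClassicalGeometry.GUBasic
import Cfsg.Agent.FastGrp
import Cfsg.Agent.Prune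
set_option linter.all false

section
prune_inst 0x7f00000000000000000000000000000000000000000000000000000000000000000000000000000000000000000000000000000000000000000000000000000000000000000000000000000000000000003fffffffffffffffffffffffffffbeffbdffffffff

-- part: H793/TA/Num
section
prune_inst 0xffefffbffefbffffff7fffafdedffdfbbfbffff6dff9cbffe06fffebdf7f9aebc5fbaf8fe8fafe5ef7e2b4d4f87b13ffffffffeb6bfc7ffffd5ff41ffbffdfffffb50d51ddb8be1ffc6ffe93f0778e7f000000000000000000000000000000004200000000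
set_option linter.all false
open scoped Cfsg.Agent.FastGrp

-- part: H793/TA/Grp
section
/-!
# Perfect central extensions of `A₆` by `3`-groups (helper793, S5830/S5833)
-/

set_option autoImplicit false

namespace Cfsg.Agent.H793.TA

open Equiv Equiv.Perm

/-- the alternating group of degree six -/
abbrev A6 := alternatingGroup (Fin 6)

def p1 : Perm (Fin 6) := swap (0 : Fin 6) 1 * swap (1 : Fin 6) 2
def p2 : Perm (Fin 6) := swap (3 : Fin 6) 4 * swap (4 : Fin 6) 5
def b1 : Perm (Fin 6) := swap (0 : Fin 6) 1 * swap (2 : Fin 6) 3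
def b2 : Perm (Fin 6) := swap (0 : Fin 6) 2 * swap (1 : Fin 6) 3
def b3 : Perm (Fin 6) := swap (0 : Fin 6) 3 * swap (1 : Fin 6) 2
def bs : Perm (Fin 6) := swap (0 : Fin 6) 1 * swap (4 : Fin 6) 5

/-- `(0 1 2)` -/
def c1 : A6 := ⟨p1, mem_alternatingGroup.2 (by decide)⟩
/-- `(3 4 5)` -/
def c2 : A6 := ⟨p2, mem_alternatingGroup.2 (by decide)⟩
def a1 : A6 := ⟨b1, mem_alternatingGroup.2 (by decide)⟩
def a2 : A6 := ⟨b2, mem_alternatingGroup.2 (by decide)⟩
def a3 : A6 := ⟨b3, mem_alternatingGroup.2 (by decide)⟩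
def as : A6 := ⟨bs, mem_alternatingGroup.2 (by decide)⟩

set_option maxRecDepth 100000 in
theorem dec_cent : ∀ g : Perm (Fin 6), g * p1 = p1 * g → g * p2 = p2 * g →
    ∃ i j : Fin 3, g = p1 ^ (i : ℕ) * p2 ^ (j : ℕ) := by (simp only [↓Cfsg.Agent.PermCode.M, Cfsg.Agent.PermCode.P6.R, Cfsg.Agent.PermCode.B]; decide +kernel)

set_option maxRecDepth 100000 in
theorem dec_card : Fintype.card {g : Perm (Fin 6) // sign g = 1 ∧ g * p1 = p1 * g ∧ g * p2 = p2 * g} = 9 := by
  simp only [↓Cfsg.Agent.PermCode.M, Cfsg.Agent.PermCode.P6.R, Cfsg.Agent.PermCode.B]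
  decide +kernel

/-- The transfer into an abelian subgroup. -/
theorem pow_index_eq_one {G : Type*} [Group G] (H : Subgroup G) [H.FiniteIndex]
    (hc : ∀ a ∈ H, ∀ b ∈ H, a * b = b * a) {z : G} (hzc : ∀ g, z * g = g * z) (hz : z ∈ commutator G) :
    z ^ H.index = 1 := by
  let _ : CommGroup H := { (inferInstance : Group H) with mul_comm := fun a b => Subtype.ext (hc a a.2 b b.2) }
  have key : ∀ (k : ℕ) (g₀ : G), g₀⁻¹ * z ^ k * g₀ ∈ H → g₀⁻¹ * z ^ k * g₀ = z ^ k := by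
    intro k g₀ _
    have h1 : z ^ k * g₀ = g₀ * z ^ k := ((show Commute z g₀ from hzc g₀).pow_left k).eq
    rw [mul_assoc, h1, inv_mul_cancel_left]
  have h1 := MonoidHom.transfer_eq_pow (MonoidHom.id H) z key
  have h2 : MonoidHom.transfer (MonoidHom.id H) z = 1 := by
    have h3 : commutator G ≤ (MonoidHom.transfer (MonoidHom.id H)).ker := Abelianization.commutator_subset_ker _
    exact h3 hz
  rw [h2] at h1
  exact (congrArg Subtype.val h1).symm

/-- Perfect central extensions of `A₆` with kernel of exponent dividing nine. -/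
structure Ext {P : Type*} [Group P] (π : P →* A6) : Prop where
  surj : Function.Surjective π
  cent : ∀ z, π z = 1 → ∀ g, z * g = g * z
  nine : ∀ z, π z = 1 → z ^ 9 = 1
  perf : commutator P = ⊤
  ex : ∃ z, π z = 1 ∧ z ≠ 1

namespace Ext

variable {P : Type*} [Group P] {π : P →* A6} (h : Ext π)

include h

theorem eq_of_sq {x y : P} (hx : x * x = 1) (hy : y * y = 1) (hxy : π x = π y) : x = y := by
  have h1 : π (x * y⁻¹) = 1 := by rw [map_mul, map_inv, hxy, mul_inv_cancel]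
  have h2 := h.cent _ h1
  have h3 := h.nine _ h1
  have hy' : y⁻¹ = y := inv_eq_of_mul_eq_one_left hy
  have h4 : (x * y⁻¹) ^ 2 = 1 := by
    have h5 : x * y⁻¹ * y = x := inv_mul_cancel_right x y
    calc (x * y⁻¹) ^ 2 = (x * y⁻¹) * (x * y⁻¹) * (y * y) := by rw [hy, mul_one, pow_two]
      _ = (x * y⁻¹) * ((x * y⁻¹ * y) * y) := by group
      _ = (x * y⁻¹) * (x * y) := by rw [h5]
      _ = (x * y⁻¹) * x * y := by group
      _ = x * (x * y⁻¹) * y := by rw [h2]
      _ = (x * x) := by group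
      _ = 1 := hx
  have h5 : x * y⁻¹ = 1 := by
    calc x * y⁻¹ = (x * y⁻¹) ^ 9 * ((x * y⁻¹) ^ 2)⁻¹ ^ 4 := by group
      _ = 1 := by rw [h3, h4]; simp
  exact mul_inv_eq_one.1 h5

theorem exists_sq {g : A6} (hg : g * g = 1) : ∃ x, π x = g ∧ x * x = 1 := by
  obtain ⟨y, hy⟩ := h.surj g
  refine ⟨y ^ 9, ?_, ?_⟩
  · rw [map_pow, hy]
    calc g ^ 9 = (g * g) ^ 4 * g := by rw [← pow_two, ← pow_mul, ← pow_succ]
      _ = g := by rw [hg]; simp
  · have h1 : π (y * y) = 1 := by rw [map_mul, hy, hg]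
    calc y ^ 9 * y ^ 9 = (y * y) ^ 9 := by rw [← pow_two y, ← pow_mul, ← pow_add]
      _ = 1 := h.nine _ h1

/-- an element inverted by an involution -/
theorem cube_eq_one {u x : P} (hu : u * x * u⁻¹ = x⁻¹) (hx : π x ^ 3 = 1) : x ^ 3 = 1 := by
  have h1 : π (x ^ 3) = 1 := by rw [map_pow, hx]
  have h2 := h.cent _ h1 u
  have h3 := h.nine _ h1
  have h4 : u * x ^ 3 * u⁻¹ = (x ^ 3)⁻¹ := by
    rw [← inv_pow, ← hu, conj_pow]
  rw [← h2, mul_inv_cancel_right] at h4
  have h5 : (x ^ 3) ^ 2 = 1 := by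
    rw [pow_two]
    nth_rewrite 1 [h4]
    exact inv_mul_cancel _
  calc x ^ 3 = (x ^ 3) ^ 9 * ((x ^ 3) ^ 2)⁻¹ ^ 4 := by group
    _ = 1 := by rw [h3, h5]; simp

/-- a lift inverted by `u` -/
theorem exists_inv {u : P} {g : A6} (hu : π u * g * (π u)⁻¹ = g⁻¹) : ∃ x, π x = g ∧ u * x * u⁻¹ = x⁻¹ := by
  obtain ⟨y, hy⟩ := h.surj g
  set z := u * y * u⁻¹ * y with hz
  have h1 : π z = 1 := by
    rw [hz, map_mul, map_mul, map_mul, map_inv, hy, hu, inv_mul_cancel]
  have h2 := h.cent z h1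
  have h3 := h.nine z h1
  have hz4 : ∀ g, z ^ 4 * g = g * z ^ 4 := fun g => ((show Commute z g from h2 g).pow_left 4).eq
  have h5 : u * y * u⁻¹ = z * y⁻¹ := by rw [hz]; group
  refine ⟨y * z ^ 4, by rw [map_mul, map_pow, h1, hy, one_pow, mul_one], ?_⟩
  have h6 : z ^ 5 = (z ^ 4)⁻¹ := by
    rw [eq_inv_iff_mul_eq_one, ← pow_add]
    exact h3
  calc u * (y * z ^ 4) * u⁻¹ = u * y * (z ^ 4 * u⁻¹) := by group
    _ = u * y * (u⁻¹ * z ^ 4) := by rw [hz4]
    _ = (u * y * u⁻¹) * z ^ 4 := by group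
    _ = z * y⁻¹ * z ^ 4 := by rw [h5]
    _ = z * (y⁻¹ * z ^ 4) := by group
    _ = z * (z ^ 4 * y⁻¹) := by rw [hz4]
    _ = z ^ 5 * y⁻¹ := by group
    _ = (z ^ 4)⁻¹ * y⁻¹ := by rw [h6]
    _ = (y * z ^ 4)⁻¹ := by group

/-- `P` is not abelian on the preimage of a Sylow `3`-subgroup -/
theorem not_comm {x y : P} (hx : π x = c1) (hy : π y = c2) : x * y ≠ y * x := by
  intro hxy
  let H9 : Subgroup A6 :=
    { carrier := {g | (g : Perm (Fin 6)) * p1 = p1 * g ∧ (g : Perm (Fin 6)) * p2 = p2 * g}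
      one_mem' := by simp only [_root_.Set.mem_ofPred_eq, _root_.OneMemClass.coe_one, _root_.one_mul, _root_.mul_one, _root_.and_self]
      mul_mem' := by
        rintro a b ⟨ha, ha'⟩ ⟨hb, hb'⟩
        constructor
        · show (a : Perm (Fin 6)) * b * p1 = p1 * (a * b)
          rw [mul_assoc, hb, ← mul_assoc, ha, mul_assoc]
        · show (a : Perm (Fin 6)) * b * p2 = p2 * (a * b)
          rw [mul_assoc, hb', ← mul_assoc, ha', mul_assoc]
      inv_mem' := by
        rintro a ⟨ha, ha'⟩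
        constructor
        · show (a : Perm (Fin 6))⁻¹ * p1 = p1 * (a : Perm (Fin 6))⁻¹
          rw [inv_mul_eq_iff_eq_mul, ← mul_assoc, ha, mul_inv_cancel_right]
        · show (a : Perm (Fin 6))⁻¹ * p2 = p2 * (a : Perm (Fin 6))⁻¹
          rw [inv_mul_eq_iff_eq_mul, ← mul_assoc, ha', mul_inv_cancel_right] }
  have hcard : Nat.card H9 = 9 := by
    rw [← dec_card, ← Nat.card_eq_fintype_card]
    refine Nat.card_congr ⟨fun g => ⟨((g : A6) : Perm (Fin 6)), mem_alternatingGroup.1 (g : A6).2, g.2⟩,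
      fun g => ⟨⟨g, mem_alternatingGroup.2 g.2.1⟩, g.2.2⟩, fun g => rfl, fun g => rfl⟩
  have hidx : H9.index = 40 := by
    have h1 := H9.card_mul_index
    rw [hcard] at h1
    have h2 : Nat.card A6 = 360 := by
      rw [nat_card_alternatingGroup]
      simp [Nat.factorial]
    rw [h2] at h1
    omega
  have hgen : ∀ g ∈ H9.comap π, ∃ i j : ℕ, ∃ z, π z = 1 ∧ g = x ^ i * y ^ j * z := by
    intro g hg
    obtain ⟨i, j, hij⟩ := dec_cent _ hg.1 hg.2
    refine ⟨i, j, (x ^ (i : ℕ) * y ^ (j : ℕ))⁻¹ * g, ?_, by group⟩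
    rw [map_mul, map_inv, map_mul, map_pow, map_pow, hx, hy, inv_mul_eq_one]
    exact Subtype.ext hij.symm
  have hcomm : ∀ a ∈ H9.comap π, ∀ b ∈ H9.comap π, a * b = b * a := by
    intro a ha b hb
    obtain ⟨i, j, z, hz, rfl⟩ := hgen a ha
    obtain ⟨k, l, w, hw, rfl⟩ := hgen b hb
    have hz' : ∀ g, Commute z g := fun g => h.cent z hz g
    have hw' : ∀ g, Commute w g := fun g => h.cent w hw g
    have hxy' : Commute x y := hxy
    have e1 : Commute (x ^ i * y ^ j) (x ^ k * y ^ l) := by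
      apply Commute.mul_left
      · exact Commute.mul_right ((Commute.refl x).pow_pow i k) (hxy'.pow_pow i l)
      · exact Commute.mul_right (hxy'.symm.pow_pow j k) ((Commute.refl y).pow_pow j l)
    have e2 : Commute (x ^ i * y ^ j * z) (x ^ k * y ^ l * w) := by
      apply Commute.mul_left
      · exact Commute.mul_right e1 (hw' _).symm
      · exact hz' _
    exact e2
  have hfi : (H9.comap π).index = 40 := by
    rw [Subgroup.index_comap_of_surjective _ h.surj, hidx]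
  have : (H9.comap π).FiniteIndex := ⟨by rw [hfi]; norm_num⟩
  obtain ⟨z, hz, hz1⟩ := h.ex
  have h1 := pow_index_eq_one (H9.comap π) hcomm (h.cent z hz) (by rw [h.perf]; trivial)
  rw [hfi] at h1
  apply hz1
  have h2 := h.nine z hz
  calc z = (z ^ 9) ^ 9 * ((z ^ 40) ^ 2)⁻¹ := by group
    _ = 1 := by rw [h1, h2]; simp

end Ext

end Cfsg.Agent.H793.TA
end

-- part: H793/TA/Idem
section
/-!
# Idempotents and their ranks (helper793)
-/

set_option autoImplicit false

namespace Cfsg.Agent.H793.TA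

open Module

variable {F : Type*} [Field F] {V : Type*} [AddCommGroup V] [Module F V] [FiniteDimensional F V]

/-- the rank -/
noncomputable def rk (e : End F V) : ℕ := finrank F (LinearMap.range e)

theorem trace_idem {e : End F V} (he : e * e = e) : LinearMap.trace F V e = (rk e : F) :=
  (LinearMap.IsIdempotentElem.isProj_range e he).trace

theorem eq_zero_of_rk {e : End F V} (he : rk e = 0) : e = 0 := by
  rw [← LinearMap.range_eq_bot]
  exact Submodule.finrank_eq_zero.1 he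

theorem rk_add {e f : End F V} (he : e * e = e) (hf : f * f = f) (hef : e * f = 0) (hfe : f * e = 0) :
    rk (e + f) = rk e + rk f := by
  have h1 : LinearMap.range (e + f) = LinearMap.range e ⊔ LinearMap.range f := by
    apply le_antisymm
    · rintro _ ⟨v, rfl⟩
      exact Submodule.add_mem_sup ⟨v, rfl⟩ ⟨v, rfl⟩
    · apply sup_le
      · rintro _ ⟨v, rfl⟩
        refine ⟨e v, ?_⟩
        have h2 : e (e v) = e v := LinearMap.congr_fun he v
        have h3 : f (e v) = 0 := LinearMap.congr_fun hfe v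
        rw [LinearMap.add_apply, h2, h3, add_zero]
      · rintro _ ⟨v, rfl⟩
        refine ⟨f v, ?_⟩
        have h2 : f (f v) = f v := LinearMap.congr_fun hf v
        have h3 : e (f v) = 0 := LinearMap.congr_fun hef v
        rw [LinearMap.add_apply, h2, h3, zero_add]
  have h2 : LinearMap.range e ⊓ LinearMap.range f = ⊥ := by
    rw [eq_bot_iff]
    rintro _ ⟨⟨v, rfl⟩, ⟨w, hw⟩⟩
    have h3 : e (f w) = 0 := LinearMap.congr_fun hef w
    rw [hw] at h3
    have h2 : e (e v) = e v := LinearMap.congr_fun he v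
    rw [Submodule.mem_bot, ← h2, h3]
  have h3 := Submodule.finrank_sup_add_finrank_inf_eq (LinearMap.range e) (LinearMap.range f)
  rw [h2, finrank_bot, add_zero, ← h1] at h3
  exact h3

theorem rk_one : rk (1 : End F V) = finrank F V := by
  unfold rk
  have : LinearMap.range (1 : End F V) = ⊤ := LinearMap.range_id
  rw [this, finrank_top]

theorem rk_mul_le_left (e f : End F V) : rk (e * f) ≤ rk e := by
  apply Submodule.finrank_mono
  rintro _ ⟨v, rfl⟩
  exact ⟨f v, rfl⟩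

theorem rk_mul_le_right (e f : End F V) : rk (e * f) ≤ rk f := by
  have h1 : LinearMap.range (e * f) = (LinearMap.range f).map e := LinearMap.range_comp f e
  unfold rk
  rw [h1]
  exact Submodule.finrank_map_le e _

theorem rk_conj {g g' : End F V} (h : g' * g = 1) (e : End F V) : rk (g * e * g') = rk e := by
  have h' : g * g' = 1 := mul_eq_one_comm.1 h
  apply le_antisymm
  · exact (rk_mul_le_left _ _).trans (rk_mul_le_right _ _)
  · have h1 : e = g' * (g * e * g') * g := by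
      calc e = (g' * g) * e * (g' * g) := by rw [h, one_mul, mul_one]
        _ = _ := by noncomm_ring
    calc rk e = rk (g' * (g * e * g') * g) := by rw [← h1]
      _ ≤ rk (g * e * g') := (rk_mul_le_left _ _).trans (rk_mul_le_right _ _)

theorem apply_of_mem {e : End F V} (he : e * e = e) {v : V} (hv : v ∈ LinearMap.range e) : e v = v := by
  obtain ⟨w, rfl⟩ := hv
  exact LinearMap.congr_fun he w

end Cfsg.Agent.H793.TA
end

-- part: H793/TA/Lin
section
/-!
# Nine-dimensional representations of perfect central extensions of `A₆` in characteristic five: multiplicities (helper793)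
-/

set_option autoImplicit false
set_option linter.unusedSectionVars false
set_option linter.unusedSimpArgs false

namespace Cfsg.Agent.H793.TA

open Module Equiv Equiv.Perm

/-- Representations -/
structure Rep {F : Type*} [Field F] {V : Type*} [AddCommGroup V] [Module F V] {P : Type*} [Group P] (π : P →* A6)
    (ρ : P →* End F V) : Prop extends Ext π where
  inj : Function.Injective ρ
  sc : ∀ z, π z = 1 → ∃ c : F, ρ z = c • (1 : End F V)
  span : Submodule.span F (Set.range ρ) = ⊤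
  dim : finrank F V = 9

/-- The elements -/
structure Elt {P : Type*} [Group P] (π : P →* A6) (t1 t2 t3 s y : P) : Prop where
  q1 : π t1 = a1
  q2 : π t2 = a2
  q3 : π t3 = a3
  qs : π s = as
  qy : π y = c1
  i1 : t1 * t1 = 1
  i2 : t2 * t2 = 1
  i3 : t3 * t3 = 1
  is : s * s = 1
  yyy : y * (y * y) = 1
  m12 : t1 * t2 = t3
  m21 : t2 * t1 = t3
  m13 : t1 * t3 = t2
  m31 : t3 * t1 = t2
  m23 : t2 * t3 = t1
  m32 : t3 * t2 = t1
  y1 : y * t1 = t3 * y
  y3 : y * t3 = t2 * y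
  y2 : y * t2 = t1 * y
  s1 : s * t1 = t1 * s
  s2 : s * t2 = t3 * s
  s3 : s * t3 = t2 * s
  sy : s * y = y * y * s
  cj : ∃ g, s * g = g * t1
  cy : ∃ g z, π z = 1 ∧ z ≠ 1 ∧ g * y = z * (y * g)

/-- `(2 4)(3 5)` -/
def ag : A6 := ⟨swap (2 : Fin 6) 4 * swap (3 : Fin 6) 5, mem_alternatingGroup.2 (by decide)⟩

section
variable {P : Type*} [Group P] {π : P →* A6} (h : Ext π)
include h

theorem Ext.conj_sq {x u w : P} (hx : x * x = 1) (hu : u * u = 1) (hw : π w * π x = π u * π w) : w * x = u * w := by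
  have h1 : w * x * w⁻¹ = u := by
    apply h.eq_of_sq
    · calc w * x * w⁻¹ * (w * x * w⁻¹) = w * (x * x) * w⁻¹ := by group
        _ = 1 := by rw [hx]; group
    · exact hu
    · rw [map_mul, map_mul, map_inv, hw, mul_inv_cancel_right]
  rw [← h1]; group

theorem Ext.mul_sq {x u w : P} (hx : x * x = 1) (hu : u * u = 1) (hw : w * w = 1) (hxu : π x * π u = π u * π x)
    (hxw : π x * π u = π w) : x * u = w := by
  have h1 : x * u = u * x := h.conj_sq hu hu hxu
  apply h.eq_of_sq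
  · calc x * u * (x * u) = x * (u * x) * u := by group
      _ = x * (x * u) * u := by rw [h1]
      _ = (x * x) * (u * u) := by group
      _ = 1 := by rw [hx, hu, one_mul]
  · exact hw
  · rw [map_mul, hxw]

theorem Ext.exists_elt : ∃ t1 t2 t3 s y, Elt π t1 t2 t3 s y := by
  obtain ⟨t1, q1, i1⟩ := h.exists_sq (g := a1) (by decide)
  obtain ⟨t2, q2, i2⟩ := h.exists_sq (g := a2) (by decide)
  obtain ⟨t3, q3, i3⟩ := h.exists_sq (g := a3) (by decide)
  obtain ⟨s, qs, is⟩ := h.exists_sq (g := as) (by decide)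
  obtain ⟨y, qy, sy⟩ := h.exists_inv (u := s) (g := c1) (by rw [qs]; decide)
  obtain ⟨g, hg⟩ := h.surj ag
  obtain ⟨x, hx⟩ := h.surj c2
  have hnc := h.not_comm qy hx
  have hy3 : y ^ 3 = 1 := h.cube_eq_one sy (by rw [qy]; decide)
  have hy3' : y * (y * y) = 1 := by rw [← hy3, pow_succ, pow_two, mul_assoc]
  have hyi : y⁻¹ = y * y := inv_eq_of_mul_eq_one_right hy3'
  refine ⟨t1, t2, t3, s, y, q1, q2, q3, qs, qy, i1, i2, i3, is, hy3', ?_, ?_, ?_, ?_, ?_, ?_, ?_, ?_, ?_, ?_, ?_, ?_,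
    ?_, ?_, ?_⟩
  · exact h.mul_sq i1 i2 i3 (by rw [q1, q2]; decide) (by rw [q1, q2, q3]; decide)
  · exact h.mul_sq i2 i1 i3 (by rw [q1, q2]; decide) (by rw [q1, q2, q3]; decide)
  · exact h.mul_sq i1 i3 i2 (by rw [q1, q3]; decide) (by rw [q1, q3, q2]; decide)
  · exact h.mul_sq i3 i1 i2 (by rw [q1, q3]; decide) (by rw [q1, q3, q2]; decide)
  · exact h.mul_sq i2 i3 i1 (by rw [q2, q3]; decide) (by rw [q2, q3, q1]; decide)
  · exact h.mul_sq i3 i2 i1 (by rw [q2, q3]; decide) (by rw [q2, q3, q1]; decide)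
  · exact h.conj_sq i1 i3 (by rw [q1, q3, qy]; decide)
  · exact h.conj_sq i3 i2 (by rw [q3, q2, qy]; decide)
  · exact h.conj_sq i2 i1 (by rw [q1, q2, qy]; decide)
  · exact h.conj_sq i1 i1 (by rw [q1, qs]; decide)
  · exact h.conj_sq i2 i3 (by rw [q2, q3, qs]; decide)
  · exact h.conj_sq i3 i2 (by rw [q2, q3, qs]; decide)
  · rw [← hyi, ← sy]; group
  · refine ⟨g, ?_⟩
    symm
    exact h.conj_sq i1 is (by rw [q1, qs, hg]; decide)
  · refine ⟨x, x * y * x⁻¹ * y⁻¹, ?_, ?_, by group⟩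
    · rw [map_mul, map_mul, map_mul, map_inv, map_inv, hx, qy]
      decide
    · intro h1
      apply hnc
      have h2 : x * y = y * x := by
        calc x * y = (x * y * x⁻¹ * y⁻¹) * (y * x) := by group
          _ = y * x := by rw [h1, one_mul]
      exact h2.symm

end

section idem

variable {F : Type*} [Field F] [CharP F 5] {V : Type*} [AddCommGroup V] [Module F V] [FiniteDimensional F V]

theorem five0 (F : Type*) [Field F] [CharP F 5] : (5 : F) = 0 := by
  have := CharP.cast_eq_zero F 5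
  exact_mod_cast this

/-- half of `1 + S` on the image of an idempotent -/
theorem half_idem {S g : End F V} (hS : S * S = 1) (hg : g * g = g) (hSg : S * g = g * S) :
    ((3 : F) • ((1 + S) * g)) * ((3 : F) • ((1 + S) * g)) = (3 : F) • ((1 + S) * g) := by
  have h5 := five0 F
  have h1 : (1 + S) * g * ((1 + S) * g) = (2 : F) • ((1 + S) * g) := by
    have h2 : g * (1 + S) = (1 + S) * g := by rw [mul_add, add_mul, hSg, mul_one, one_mul]
    calc (1 + S) * g * ((1 + S) * g) = (1 + S) * (g * (1 + S)) * g := by noncomm_ring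
      _ = (1 + S) * (1 + S) * (g * g) := by rw [h2]; noncomm_ring
      _ = (1 + S + S + S * S) * g := by rw [hg]; noncomm_ring
      _ = (1 + S + S + 1) * g := by rw [hS]
      _ = (2 : F) • ((1 + S) * g) := by
        rw [two_smul]
        noncomm_ring
  rw [smul_mul_smul_comm, h1, smul_smul]
  congr 1
  linear_combination 3 * h5

variable (T1 T2 T3 : End F V)

/-- the projections onto the weight spaces of the four-group -/
def E0 : End F V := -(1 + T1 + T2 + T3)
def E1 : End F V := -(1 + T1 - T2 - T3)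
def E2 : End F V := -(1 - T1 + T2 - T3)
def E3 : End F V := -(1 - T1 - T2 + T3)

/-- the relations of a four-group -/
structure V4 : Prop where
  i1 : T1 * T1 = 1
  i2 : T2 * T2 = 1
  i3 : T3 * T3 = 1
  m12 : T1 * T2 = T3
  m21 : T2 * T1 = T3
  m13 : T1 * T3 = T2
  m31 : T3 * T1 = T2
  m23 : T2 * T3 = T1
  m32 : T3 * T2 = T1

variable {T1 T2 T3} (h : V4 T1 T2 T3)
include h

theorem V4.e00 : E0 T1 T2 T3 * E0 T1 T2 T3 = E0 T1 T2 T3 := by
  have h5 : (5 : F) • (1 + T1 + T2 + T3) = 0 := by rw [five0 F, zero_smul]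
  unfold E0
  simp only [neg_mul_neg, mul_add, add_mul, mul_one, one_mul, h.i1, h.i2, h.i3, h.m12, h.m21, h.m13,
    h.m31, h.m23, h.m32]
  linear_combination (norm := module) h5

theorem V4.e11 : E1 T1 T2 T3 * E1 T1 T2 T3 = E1 T1 T2 T3 := by
  have h5 : (5 : F) • (1 + T1 - T2 - T3) = 0 := by rw [five0 F, zero_smul]
  unfold E1
  simp only [neg_mul_neg, mul_add, add_mul, mul_sub, sub_mul, mul_one, one_mul, h.i1, h.i2, h.i3, h.m12, h.m21, h.m13,
    h.m31, h.m23, h.m32]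
  linear_combination (norm := module) h5

theorem V4.e22 : E2 T1 T2 T3 * E2 T1 T2 T3 = E2 T1 T2 T3 := by
  have h5 : (5 : F) • (1 - T1 + T2 - T3) = 0 := by rw [five0 F, zero_smul]
  unfold E2
  simp only [neg_mul_neg, mul_add, add_mul, mul_sub, sub_mul, mul_one, one_mul, h.i1, h.i2, h.i3, h.m12, h.m21, h.m13,
    h.m31, h.m23, h.m32]
  linear_combination (norm := module) h5

theorem V4.e33 : E3 T1 T2 T3 * E3 T1 T2 T3 = E3 T1 T2 T3 := by
  have h5 : (5 : F) • (1 - T1 - T2 + T3) = 0 := by rw [five0 F, zero_smul]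
  unfold E3
  simp only [neg_mul_neg, mul_add, add_mul, mul_sub, sub_mul, mul_one, one_mul, h.i1, h.i2, h.i3, h.m12, h.m21, h.m13,
    h.m31, h.m23, h.m32]
  linear_combination (norm := module) h5

theorem V4.e01 : E0 T1 T2 T3 * E1 T1 T2 T3 = 0 := by
  unfold E0 E1
  simp only [neg_mul_neg, mul_add, add_mul, mul_sub, sub_mul, mul_one, one_mul, h.i1, h.i2, h.i3, h.m12, h.m21, h.m13,
    h.m31, h.m23, h.m32]
  abel

theorem V4.e10 : E1 T1 T2 T3 * E0 T1 T2 T3 = 0 := by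
  unfold E0 E1
  simp only [neg_mul_neg, mul_add, add_mul, mul_sub, sub_mul, mul_one, one_mul, h.i1, h.i2, h.i3, h.m12, h.m21, h.m13,
    h.m31, h.m23, h.m32]
  abel

theorem V4.e02 : E0 T1 T2 T3 * E2 T1 T2 T3 = 0 := by
  unfold E0 E2
  simp only [neg_mul_neg, mul_add, add_mul, mul_sub, sub_mul, mul_one, one_mul, h.i1, h.i2, h.i3, h.m12, h.m21, h.m13,
    h.m31, h.m23, h.m32]
  abel

theorem V4.e20 : E2 T1 T2 T3 * E0 T1 T2 T3 = 0 := by
  unfold E0 E2
  simp only [neg_mul_neg, mul_add, add_mul, mul_sub, sub_mul, mul_one, one_mul, h.i1, h.i2, h.i3, h.m12, h.m21, h.m13,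
    h.m31, h.m23, h.m32]
  abel

theorem V4.e03 : E0 T1 T2 T3 * E3 T1 T2 T3 = 0 := by
  unfold E0 E3
  simp only [neg_mul_neg, mul_add, add_mul, mul_sub, sub_mul, mul_one, one_mul, h.i1, h.i2, h.i3, h.m12, h.m21, h.m13,
    h.m31, h.m23, h.m32]
  abel

theorem V4.e30 : E3 T1 T2 T3 * E0 T1 T2 T3 = 0 := by
  unfold E0 E3
  simp only [neg_mul_neg, mul_add, add_mul, mul_sub, sub_mul, mul_one, one_mul, h.i1, h.i2, h.i3, h.m12, h.m21, h.m13,
    h.m31, h.m23, h.m32]
  abel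

theorem V4.e12 : E1 T1 T2 T3 * E2 T1 T2 T3 = 0 := by
  unfold E1 E2
  simp only [neg_mul_neg, mul_add, add_mul, mul_sub, sub_mul, mul_one, one_mul, h.i1, h.i2, h.i3, h.m12, h.m21, h.m13,
    h.m31, h.m23, h.m32]
  abel

theorem V4.e21 : E2 T1 T2 T3 * E1 T1 T2 T3 = 0 := by
  unfold E1 E2
  simp only [neg_mul_neg, mul_add, add_mul, mul_sub, sub_mul, mul_one, one_mul, h.i1, h.i2, h.i3, h.m12, h.m21, h.m13,
    h.m31, h.m23, h.m32]
  abel

theorem V4.e13 : E1 T1 T2 T3 * E3 T1 T2 T3 = 0 := by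
  unfold E1 E3
  simp only [neg_mul_neg, mul_add, add_mul, mul_sub, sub_mul, mul_one, one_mul, h.i1, h.i2, h.i3, h.m12, h.m21, h.m13,
    h.m31, h.m23, h.m32]
  abel

theorem V4.e31 : E3 T1 T2 T3 * E1 T1 T2 T3 = 0 := by
  unfold E1 E3
  simp only [neg_mul_neg, mul_add, add_mul, mul_sub, sub_mul, mul_one, one_mul, h.i1, h.i2, h.i3, h.m12, h.m21, h.m13,
    h.m31, h.m23, h.m32]
  abel

theorem V4.e23 : E2 T1 T2 T3 * E3 T1 T2 T3 = 0 := by
  unfold E2 E3
  simp only [neg_mul_neg, mul_add, add_mul, mul_sub, sub_mul, mul_one, one_mul, h.i1, h.i2, h.i3, h.m12, h.m21, h.m13,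
    h.m31, h.m23, h.m32]
  abel

theorem V4.e32 : E3 T1 T2 T3 * E2 T1 T2 T3 = 0 := by
  unfold E2 E3
  simp only [neg_mul_neg, mul_add, add_mul, mul_sub, sub_mul, mul_one, one_mul, h.i1, h.i2, h.i3, h.m12, h.m21, h.m13,
    h.m31, h.m23, h.m32]
  abel

omit h in
theorem V4.sum : E0 T1 T2 T3 + E1 T1 T2 T3 + E2 T1 T2 T3 + E3 T1 T2 T3 = 1 := by
  have h5 : (5 : F) • (1 : End F V) = 0 := by rw [five0 F, zero_smul]
  unfold E0 E1 E2 E3
  linear_combination (norm := module) -h5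

theorem V4.rk_sum (hdim : finrank F V = 9) : rk (E0 T1 T2 T3) + rk (E1 T1 T2 T3) + rk (E2 T1 T2 T3) + rk (E3 T1 T2 T3) = 9 := by
  have h1 := rk_add h.e00 h.e11 h.e01 h.e10
  have g1 : (E0 T1 T2 T3 + E1 T1 T2 T3) * (E0 T1 T2 T3 + E1 T1 T2 T3) = E0 T1 T2 T3 + E1 T1 T2 T3 := by
    rw [mul_add, add_mul, add_mul, h.e00, h.e11, h.e01, h.e10]; abel
  have h2 := rk_add g1 h.e22 (by rw [add_mul, h.e02, h.e12, add_zero]) (by rw [mul_add, h.e20, h.e21, add_zero])
  have g2 : (E0 T1 T2 T3 + E1 T1 T2 T3 + E2 T1 T2 T3) * (E0 T1 T2 T3 + E1 T1 T2 T3 + E2 T1 T2 T3) =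
      E0 T1 T2 T3 + E1 T1 T2 T3 + E2 T1 T2 T3 := by
    rw [mul_add _ _ (E2 T1 T2 T3), add_mul _ _ (E0 T1 T2 T3 + E1 T1 T2 T3), g1, add_mul _ _ (E2 T1 T2 T3), h.e22,
      add_mul _ _ (E2 T1 T2 T3), h.e02, h.e12, mul_add (E2 T1 T2 T3), h.e20, h.e21]
    abel
  have h3 := rk_add g2 h.e33 (by rw [add_mul, add_mul, h.e03, h.e13, h.e23]; abel)
    (by rw [mul_add, mul_add, h.e30, h.e31, h.e32]; abel)
  rw [V4.sum (F := F), rk_one, hdim] at h3
  omega

end idem

end Cfsg.Agent.H793.TA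
end

-- part: H793/TA/Num
section
/-!
# Nine-dimensional representations of perfect central extensions of `A₆` in characteristic five: numbers (helper793)
-/

set_option autoImplicit false
set_option linter.unusedSectionVars false
set_option linter.unusedSimpArgs false

namespace Cfsg.Agent.H793.TA

open Module Equiv Equiv.Perm

variable {F : Type*} [Field F] [CharP F 5] {V : Type*} [AddCommGroup V] [Module F V] [FiniteDimensional F V]

section YS

/-- the relations of the generators -/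
structure Gen (T1 T2 T3 S Y : End F V) : Prop extends V4 T1 T2 T3 where
  ss : S * S = 1
  yyy : Y * (Y * Y) = 1
  y1 : Y * T1 = T3 * Y
  y3 : Y * T3 = T2 * Y
  y2 : Y * T2 = T1 * Y
  s1 : S * T1 = T1 * S
  s2 : S * T2 = T3 * S
  s3 : S * T3 = T2 * S
  sy : S * Y = Y * Y * S

variable {T1 T2 T3 S Y : End F V} (h : Gen T1 T2 T3 S Y)
include h

theorem Gen.ye0 : Y * E0 T1 T2 T3 = E0 T1 T2 T3 * Y := by
  unfold E0
  simp only [mul_neg, neg_mul, mul_add, add_mul, mul_one, one_mul, h.y1, h.y2, h.y3]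
  abel

theorem Gen.ye1 : Y * E1 T1 T2 T3 = E3 T1 T2 T3 * Y := by
  unfold E1 E3
  simp only [mul_neg, neg_mul, mul_add, add_mul, mul_sub, sub_mul, mul_one, one_mul, h.y1, h.y2, h.y3]
  abel

theorem Gen.ye3 : Y * E3 T1 T2 T3 = E2 T1 T2 T3 * Y := by
  unfold E2 E3
  simp only [mul_neg, neg_mul, mul_add, add_mul, mul_sub, sub_mul, mul_one, one_mul, h.y1, h.y2, h.y3]
  abel

theorem Gen.se0 : S * E0 T1 T2 T3 = E0 T1 T2 T3 * S := by
  unfold E0
  simp only [mul_neg, neg_mul, mul_add, add_mul, mul_one, one_mul, h.s1, h.s2, h.s3]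
  abel

theorem Gen.se1 : S * E1 T1 T2 T3 = E1 T1 T2 T3 * S := by
  unfold E1
  simp only [mul_neg, neg_mul, mul_add, add_mul, mul_sub, sub_mul, mul_one, one_mul, h.s1, h.s2, h.s3]
  abel

theorem Gen.yyy' : Y * Y * Y = 1 := by rw [mul_assoc, h.yyy]

theorem Gen.rk3 : rk (E3 T1 T2 T3) = rk (E1 T1 T2 T3) := by
  have h1 := rk_conj (g := Y) (g' := Y * Y) h.yyy' (E1 T1 T2 T3)
  rw [h.ye1, mul_assoc, h.yyy, mul_one] at h1
  exact h1

theorem Gen.rk2 : rk (E2 T1 T2 T3) = rk (E1 T1 T2 T3) := by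
  have h1 := rk_conj (g := Y) (g' := Y * Y) h.yyy' (E3 T1 T2 T3)
  rw [h.ye3, mul_assoc, h.yyy, mul_one] at h1
  rw [h1, h.rk3]

theorem Gen.rk_sum' (hdim : finrank F V = 9) : rk (E0 T1 T2 T3) + 3 * rk (E1 T1 T2 T3) = 9 := by
  have h1 := h.rk_sum hdim
  rw [h.rk2, h.rk3] at h1
  omega

omit h in
/-- the projection onto the fixed points of `A₄` -/
def F0 (T1 T2 T3 Y : End F V) : End F V := (2 : F) • ((1 + Y + Y * Y) * E0 T1 T2 T3)

theorem Gen.f00 : F0 T1 T2 T3 Y * F0 T1 T2 T3 Y = F0 T1 T2 T3 Y := by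
  unfold F0
  rw [smul_mul_smul_comm]
  have e1 : (1 + Y + Y * Y) * E0 T1 T2 T3 = E0 T1 T2 T3 * (1 + Y + Y * Y) := by
    rw [add_mul, add_mul, mul_add, mul_add, mul_one, one_mul, h.ye0, mul_assoc Y Y, h.ye0, ← mul_assoc, h.ye0,
      mul_assoc]
  have e2 : (1 + Y + Y * Y) * (1 + Y + Y * Y) = (3 : F) • (1 + Y + Y * Y) := by
    have e3 : Y * Y * Y = 1 := h.yyy'
    have e4 : Y * Y * (Y * Y) = Y := by rw [← mul_assoc, e3, one_mul]
    simp only [mul_add, add_mul, mul_one, one_mul, h.yyy, e3, e4]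
    module
  have e5 : (1 + Y + Y * Y) * E0 T1 T2 T3 * ((1 + Y + Y * Y) * E0 T1 T2 T3) =
      (3 : F) • ((1 + Y + Y * Y) * E0 T1 T2 T3) := by
    calc (1 + Y + Y * Y) * E0 T1 T2 T3 * ((1 + Y + Y * Y) * E0 T1 T2 T3)
        = (1 + Y + Y * Y) * (E0 T1 T2 T3 * (1 + Y + Y * Y)) * E0 T1 T2 T3 := by noncomm_ring
      _ = (1 + Y + Y * Y) * ((1 + Y + Y * Y) * E0 T1 T2 T3) * E0 T1 T2 T3 := by rw [e1]
      _ = ((1 + Y + Y * Y) * (1 + Y + Y * Y)) * (E0 T1 T2 T3 * E0 T1 T2 T3) := by noncomm_ring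
      _ = _ := by rw [e2, h.e00, smul_mul_assoc]
  rw [e5, smul_smul]
  congr 1
  linear_combination 2 * five0 F

theorem Gen.ef0 : F0 T1 T2 T3 Y * E0 T1 T2 T3 = F0 T1 T2 T3 Y := by
  unfold F0
  rw [smul_mul_assoc, mul_assoc, h.e00]

theorem Gen.comm_y0 : (1 + Y + Y * Y) * E0 T1 T2 T3 = E0 T1 T2 T3 * (1 + Y + Y * Y) := by
  rw [add_mul, add_mul, mul_add, mul_add, mul_one, one_mul, h.ye0, mul_assoc Y Y, h.ye0, ← mul_assoc, h.ye0,
      mul_assoc]

theorem Gen.fe0 : E0 T1 T2 T3 * F0 T1 T2 T3 Y = F0 T1 T2 T3 Y := by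
  unfold F0
  rw [mul_smul_comm, h.comm_y0, ← mul_assoc, h.e00]

theorem Gen.f01 : F0 T1 T2 T3 Y * E1 T1 T2 T3 = 0 := by
  rw [← h.ef0, mul_assoc, h.e01, mul_zero]

theorem Gen.f10 : E1 T1 T2 T3 * F0 T1 T2 T3 Y = 0 := by
  rw [← h.fe0, ← mul_assoc, h.e10, zero_mul]

theorem Gen.sf0 : S * F0 T1 T2 T3 Y = F0 T1 T2 T3 Y * S := by
  unfold F0
  have e3 : Y * Y * Y = 1 := h.yyy'
  have e2 : S * (Y * Y) = Y * S := by
    rw [← mul_assoc, h.sy, mul_assoc, h.sy, ← mul_assoc, ← mul_assoc, e3, one_mul]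
  have e1 : S * (1 + Y + Y * Y) = (1 + Y + Y * Y) * S := by
    rw [mul_add, mul_add, add_mul, add_mul, mul_one, one_mul, e2, h.sy]
    abel
  rw [mul_smul_comm, smul_mul_assoc, ← mul_assoc, e1, mul_assoc, h.se0, mul_assoc]

end YS

section num

variable {P : Type*} [Group P] {π : P →* A6} {ρ : P →* End F V}

omit [CharP F 5] in
theorem tr_of {g x w : P} (hgx : g * x = w * g) : LinearMap.trace F V (ρ w) = LinearMap.trace F V (ρ x) := by
  have h1 : w = g * x * g⁻¹ := by rw [hgx, mul_inv_cancel_right]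
  rw [h1, map_mul, LinearMap.trace_mul_comm, ← map_mul, inv_mul_cancel_left]

variable (h : Rep π ρ) {t1 t2 t3 s y : P} (d : Elt π t1 t2 t3 s y)
include h d

omit h in
theorem gen : Gen (ρ t1) (ρ t2) (ρ t3) (ρ s) (ρ y) := by
  refine ⟨⟨?_, ?_, ?_, ?_, ?_, ?_, ?_, ?_, ?_⟩, ?_, ?_, ?_, ?_, ?_, ?_, ?_, ?_, ?_⟩
  · rw [← map_mul, d.i1, map_one]
  · rw [← map_mul, d.i2, map_one]
  · rw [← map_mul, d.i3, map_one]
  · rw [← map_mul, d.m12]
  · rw [← map_mul, d.m21]
  · rw [← map_mul, d.m13]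
  · rw [← map_mul, d.m31]
  · rw [← map_mul, d.m23]
  · rw [← map_mul, d.m32]
  · rw [← map_mul, d.is, map_one]
  · rw [← map_mul, ← map_mul, d.yyy, map_one]
  · rw [← map_mul, d.y1, map_mul]
  · rw [← map_mul, d.y3, map_mul]
  · rw [← map_mul, d.y2, map_mul]
  · rw [← map_mul, d.s1, map_mul]
  · rw [← map_mul, d.s2, map_mul]
  · rw [← map_mul, d.s3, map_mul]
  · rw [← map_mul, d.sy, map_mul, map_mul]

/-- trace -/
local notation "τ" => LinearMap.trace F V

theorem try0 : τ (ρ y) = 0 := by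
  obtain ⟨g, z, hz, hz1, hg⟩ := d.cy
  obtain ⟨c, hc⟩ := h.sc z hz
  have h1 : g * y = (z * y) * g := by rw [hg, mul_assoc]
  have h2 := tr_of (ρ := ρ) h1
  rw [map_mul, hc, smul_mul_assoc, one_mul, map_smul, smul_eq_mul] at h2
  have h3 : (c - 1) * τ (ρ y) = 0 := by linear_combination h2
  rcases mul_eq_zero.1 h3 with h4 | h4
  · exfalso
    apply hz1
    apply h.inj
    rw [hc, sub_eq_zero.1 h4, one_smul, map_one]
  · exact h4

omit h in
theorem trt2 : τ (ρ t2) = τ (ρ t1) := (tr_of d.y2).symm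

omit h in
theorem trt3 : τ (ρ t3) = τ (ρ t1) := tr_of d.y1

omit h in
theorem trs : τ (ρ s) = τ (ρ t1) := by
  obtain ⟨g, hg⟩ := d.cj
  exact tr_of hg.symm

theorem tryy : τ (ρ (y * y)) = 0 := by
  rw [tr_of (g := s) (x := y) d.sy, try0 h d]

theorem tryt1 : τ (ρ (y * t1)) = 0 := by
  rw [tr_of (g := t2) (x := y) (by rw [mul_assoc, d.m12, d.y3]), try0 h d]

theorem tryt2 : τ (ρ (y * t2)) = 0 := by
  rw [tr_of (g := t3) (x := y) (by rw [mul_assoc, d.m23, d.y1]), try0 h d]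

theorem tryt3 : τ (ρ (y * t3)) = 0 := by
  rw [tr_of (g := t1) (x := y) (by rw [mul_assoc, d.m31, d.y2]), try0 h d]

theorem tryyt1 : τ (ρ (y * y * t1)) = 0 := by
  rw [tr_of (g := t3) (x := y * y) (by
    rw [mul_assoc _ t1, d.m13, mul_assoc, d.y2, ← mul_assoc y, d.y1, mul_assoc]), tryy h d]

theorem tryyt2 : τ (ρ (y * y * t2)) = 0 := by
  rw [tr_of (g := t1) (x := y * y) (by
    rw [mul_assoc _ t2, d.m21, mul_assoc, d.y3, ← mul_assoc y, d.y2, mul_assoc]), tryy h d]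

theorem tryyt3 : τ (ρ (y * y * t3)) = 0 := by
  rw [tr_of (g := t2) (x := y * y) (by
    rw [mul_assoc _ t3, d.m32, mul_assoc, d.y1, ← mul_assoc y, d.y3, mul_assoc]), tryy h d]

omit h in
theorem trst1 : τ (ρ (s * t1)) = τ (ρ t1) := by
  rw [tr_of (g := t2) (x := s) (by rw [mul_assoc, d.m12, d.s3]), trs d]

theorem tre1 : τ (E1 (ρ t1) (ρ t2) (ρ t3)) = -(9 - τ (ρ t1)) := by
  unfold E1
  rw [map_neg, map_sub, map_sub, map_add, LinearMap.trace_one, h.dim, trt2 d, trt3 d]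
  push_cast
  ring

theorem trf0 : τ (F0 (ρ t1) (ρ t2) (ρ t3) (ρ y)) = 2 * τ (E0 (ρ t1) (ρ t2) (ρ t3)) := by
  have e1 : ρ y * E0 (ρ t1) (ρ t2) (ρ t3) = -(ρ y + ρ (y * t1) + ρ (y * t2) + ρ (y * t3)) := by
    unfold E0
    rw [mul_neg, mul_add, mul_add, mul_add, mul_one, map_mul, map_mul, map_mul]
  have e2 : ρ y * ρ y * E0 (ρ t1) (ρ t2) (ρ t3) =
      -(ρ (y * y) + ρ (y * y * t1) + ρ (y * y * t2) + ρ (y * y * t3)) := by
    unfold E0
    rw [mul_neg, mul_add, mul_add, mul_add, mul_one, map_mul _ (y * y), map_mul _ (y * y), map_mul _ (y * y), map_mul]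
  unfold F0
  rw [map_smul, smul_eq_mul, add_mul, add_mul, one_mul, map_add, map_add, e1, e2, map_neg, map_neg]
  simp only [map_add]
  rw [try0 h d, tryy h d, tryt1 h d, tryt2 h d, tryt3 h d, tryyt1 h d, tryyt2 h d, tryyt3 h d]
  ring

theorem trsf : τ (ρ s * (E1 (ρ t1) (ρ t2) (ρ t3) + F0 (ρ t1) (ρ t2) (ρ t3) (ρ y))) = τ (ρ t1) := by
  have g := gen (ρ := ρ) d
  have h5 := five0 F
  -- `tr (S Y e₀) = tr (S e₀)`
  have k1 : y * s = s * y * y := by
    rw [d.sy]
    calc y * s = (y * (y * y)) * (y * s) := by rw [d.yyy, one_mul]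
      _ = y * y * (y * y * s) := by simp only [mul_assoc]
      _ = y * y * (s * y) := by rw [d.sy]
      _ = _ := by simp only [mul_assoc]
  have g1 : ρ y * ρ s = ρ s * ρ y * ρ y := by rw [← map_mul, k1, map_mul, map_mul]
  set e0 := E0 (ρ t1) (ρ t2) (ρ t3) with he0
  have k2 : τ (ρ s * (ρ y * e0)) = τ (ρ s * e0) := by
    -- `S Y = Y S Y⁻¹`
    have k3 : ρ s * (ρ y * e0) = ρ y * (ρ s * e0) * (ρ y * ρ y) := by
      have k4 : ρ s * ρ y = ρ y * ρ s * (ρ y * ρ y) := by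
        rw [g1]
        calc ρ s * ρ y = ρ s * ρ y * (ρ y * (ρ y * ρ y)) := by rw [g.yyy, mul_one]
          _ = _ := by noncomm_ring
      calc ρ s * (ρ y * e0) = (ρ s * ρ y) * e0 := by noncomm_ring
        _ = ρ y * ρ s * (ρ y * ρ y) * e0 := by rw [k4]
        _ = ρ y * ρ s * (ρ y * (ρ y * e0)) := by noncomm_ring
        _ = ρ y * ρ s * (ρ y * (e0 * ρ y)) := by rw [g.ye0]
        _ = ρ y * ρ s * ((ρ y * e0) * ρ y) := by noncomm_ring
        _ = ρ y * ρ s * ((e0 * ρ y) * ρ y) := by rw [g.ye0]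
        _ = _ := by noncomm_ring
    rw [k3, LinearMap.trace_mul_comm, ← mul_assoc, g.yyy', one_mul]
  have k5 : τ (ρ s * (ρ y * ρ y * e0)) = τ (ρ s * e0) := by
    have k6 : ρ s * (ρ y * ρ y) = ρ y * ρ s := by rw [g1, mul_assoc]
    have k7 : ρ y * ρ s = (ρ y * ρ y) * ρ s * ρ y := by
      calc ρ y * ρ s = ρ y * (ρ s * ρ y * ρ y * ρ y) := by rw [mul_assoc, mul_assoc, g.yyy, mul_one]
        _ = ρ y * (ρ s * ρ y * ρ y) * ρ y := by noncomm_ring
        _ = ρ y * (ρ y * ρ s) * ρ y := by rw [g1]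
        _ = _ := by noncomm_ring
    have k3 : ρ s * (ρ y * ρ y * e0) = (ρ y * ρ y) * (ρ s * e0) * ρ y := by
      calc ρ s * (ρ y * ρ y * e0) = (ρ s * (ρ y * ρ y)) * e0 := by noncomm_ring
        _ = (ρ y * ρ y) * ρ s * (ρ y * e0) := by rw [k6, k7]; noncomm_ring
        _ = (ρ y * ρ y) * ρ s * (e0 * ρ y) := by rw [g.ye0]
        _ = _ := by noncomm_ring
    rw [k3, LinearMap.trace_mul_comm, ← mul_assoc, g.yyy, one_mul]
  have k8 : τ (ρ s * F0 (ρ t1) (ρ t2) (ρ t3) (ρ y)) = τ (ρ s * e0) := by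
    unfold F0
    rw [← he0, mul_smul_comm, map_smul, smul_eq_mul, add_mul, add_mul, one_mul, mul_add, mul_add, map_add, map_add, k2, k5]
    linear_combination τ (ρ s * e0) * h5
  have k9 : e0 + E1 (ρ t1) (ρ t2) (ρ t3) = -((2 : F) • (1 + ρ t1)) := by
    rw [he0]
    unfold E0 E1
    module
  rw [mul_add, map_add, k8, ← map_add, ← mul_add, add_comm, k9, mul_neg, map_neg, mul_smul_comm, map_smul, mul_add,
    mul_one, map_add, ← map_mul, trst1 d, trs d, smul_eq_mul]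
  linear_combination (-τ (ρ t1)) * h5

omit [FiniteDimensional F V] h d in
theorem cast_mod {a b : ℕ} (h : (a : F) = (b : F)) : a % 5 = b % 5 := (CharP.natCast_eq_natCast F 5).1 h

/-- **The multiplicities.** -/
theorem cases :
    (rk (E1 (ρ t1) (ρ t2) (ρ t3)) = 2 ∧ rk (E0 (ρ t1) (ρ t2) (ρ t3)) = 3 ∧ rk (F0 (ρ t1) (ρ t2) (ρ t3) (ρ y)) = 1) ∨
      (E0 (ρ t1) (ρ t2) (ρ t3) = 0 ∧ ρ s * E1 (ρ t1) (ρ t2) (ρ t3) = -E1 (ρ t1) (ρ t2) (ρ t3)) := by
  have g := gen (ρ := ρ) d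
  have n1 := g.rk_sum' h.dim
  have n2 := trace_idem g.e11
  have n3 := trace_idem g.e00
  have n4 := trace_idem g.f00
  have n5 : rk (F0 (ρ t1) (ρ t2) (ρ t3) (ρ y)) ≤ rk (E0 (ρ t1) (ρ t2) (ρ t3)) := by
    calc rk (F0 (ρ t1) (ρ t2) (ρ t3) (ρ y)) = rk (F0 (ρ t1) (ρ t2) (ρ t3) (ρ y) * E0 (ρ t1) (ρ t2) (ρ t3)) := by
          rw [g.ef0]
      _ ≤ _ := rk_mul_le_right _ _
  rw [tre1 h d] at n2
  rw [trf0 h d, n3] at n4
  have hg2 : (E1 (ρ t1) (ρ t2) (ρ t3) + F0 (ρ t1) (ρ t2) (ρ t3) (ρ y)) *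
      (E1 (ρ t1) (ρ t2) (ρ t3) + F0 (ρ t1) (ρ t2) (ρ t3) (ρ y)) =
      E1 (ρ t1) (ρ t2) (ρ t3) + F0 (ρ t1) (ρ t2) (ρ t3) (ρ y) := by
    rw [mul_add, add_mul, add_mul, g.e11, g.f01, g.f10, g.f00]; abel
  have hsg : ρ s * (E1 (ρ t1) (ρ t2) (ρ t3) + F0 (ρ t1) (ρ t2) (ρ t3) (ρ y)) =
      (E1 (ρ t1) (ρ t2) (ρ t3) + F0 (ρ t1) (ρ t2) (ρ t3) (ρ y)) * ρ s := by
    rw [mul_add, add_mul, g.se1, g.sf0]
  have hq := half_idem g.ss hg2 hsg
  have n6 := trace_idem hq
  have n7 : rk (E1 (ρ t1) (ρ t2) (ρ t3) + F0 (ρ t1) (ρ t2) (ρ t3) (ρ y)) =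
      rk (E1 (ρ t1) (ρ t2) (ρ t3)) + rk (F0 (ρ t1) (ρ t2) (ρ t3) (ρ y)) := rk_add g.e11 g.f00 g.f10 g.f01
  have n8 : rk ((3 : F) • ((1 + ρ s) * (E1 (ρ t1) (ρ t2) (ρ t3) + F0 (ρ t1) (ρ t2) (ρ t3) (ρ y)))) ≤
      rk (E1 (ρ t1) (ρ t2) (ρ t3) + F0 (ρ t1) (ρ t2) (ρ t3) (ρ y)) := by
    rw [← smul_mul_assoc]
    exact rk_mul_le_right _ _
  have n9 : LinearMap.trace F V ((3 : F) • ((1 + ρ s) * (E1 (ρ t1) (ρ t2) (ρ t3) + F0 (ρ t1) (ρ t2) (ρ t3) (ρ y)))) =
      3 * (rk (E1 (ρ t1) (ρ t2) (ρ t3)) + rk (F0 (ρ t1) (ρ t2) (ρ t3) (ρ y)) + LinearMap.trace F V (ρ t1)) := by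
    rw [map_smul, smul_eq_mul, add_mul, one_mul, map_add, trsf h d, map_add, trace_idem g.e11, trace_idem g.f00]
  rw [n9] at n6
  have m1 : (rk (F0 (ρ t1) (ρ t2) (ρ t3) (ρ y)) : F) = ((2 * rk (E0 (ρ t1) (ρ t2) (ρ t3)) : ℕ) : F) := by
    push_cast
    exact n4.symm
  have m2 : (rk ((3 : F) • ((1 + ρ s) * (E1 (ρ t1) (ρ t2) (ρ t3) + F0 (ρ t1) (ρ t2) (ρ t3) (ρ y)))) : F) =
      ((3 * (2 * rk (E1 (ρ t1) (ρ t2) (ρ t3)) + rk (F0 (ρ t1) (ρ t2) (ρ t3) (ρ y)) + 9) : ℕ) : F) := by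
    push_cast
    rw [← n6]
    linear_combination 3 * n2
  have m1' := cast_mod m1
  have m2' := cast_mod m2
  have hne : rk (E1 (ρ t1) (ρ t2) (ρ t3)) ≠ 0 := by
    intro h0
    have h1 := eq_zero_of_rk h0
    have h2 : E3 (ρ t1) (ρ t2) (ρ t3) = 0 := eq_zero_of_rk (by rw [g.rk3, h0])
    have h3 : E2 (ρ t1) (ρ t2) (ρ t3) = 0 := eq_zero_of_rk (by rw [g.rk2, h0])
    -- `t1 = 1`
    have h4 : E2 (ρ t1) (ρ t2) (ρ t3) + E3 (ρ t1) (ρ t2) (ρ t3) = (2 : F) • (ρ t1 - 1) := by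
      unfold E2 E3
      module
    rw [h2, h3, add_zero] at h4
    have h20 : (2 : F) ≠ 0 := by
      intro h2
      have := cast_mod (F := F) (a := 2) (b := 0) (by simpa using h2)
      omega
    have h5 : ρ t1 - 1 = 0 := (smul_eq_zero.1 h4.symm).resolve_left h20
    have h6 : t1 = 1 := h.inj (by rw [map_one]; exact sub_eq_zero.1 h5)
    have h7 := d.q1
    rw [h6, map_one] at h7
    revert h7
    decide
  have hr : rk (E1 (ρ t1) (ρ t2) (ρ t3)) = 2 ∨ rk (E1 (ρ t1) (ρ t2) (ρ t3)) = 3 := by omega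
  rcases hr with hr | hr
  · left
    (clear * - n1 n5 m1' hr; omega)
  · right
    have h0 : rk (E0 (ρ t1) (ρ t2) (ρ t3)) = 0 := by (clear * - n1 hr; omega)
    have hf0 : rk (F0 (ρ t1) (ρ t2) (ρ t3) (ρ y)) = 0 := by (clear * - n1 n5 hr; omega)
    have hq0 : rk ((3 : F) • ((1 + ρ s) * (E1 (ρ t1) (ρ t2) (ρ t3) + F0 (ρ t1) (ρ t2) (ρ t3) (ρ y)))) = 0 := by
      (clear * - n1 n5 n7 n8 m2' hr; omega)
    refine ⟨eq_zero_of_rk h0, ?_⟩
    have h1 := eq_zero_of_rk hq0
    have h30 : (3 : F) ≠ 0 := by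
      intro h2
      have := cast_mod (F := F) (a := 3) (b := 0) (by simpa using h2)
      omega
    have h2 := (smul_eq_zero.1 h1).resolve_left h30
    rw [eq_zero_of_rk hf0, add_zero, add_mul, one_mul, add_comm] at h2
    exact eq_neg_of_add_eq_zero_left h2

end num

end Cfsg.Agent.H793.TA
end
end

-- part: H793/TA/Two
section
set_option linter.all false
open scoped Cfsg.Agent.FastGrp

-- part: H793/TA/Three
section
/-!
# Nine-dimensional representations of perfect central extensions of `A₆` in characteristic five: the case `V₀ = 0` (helper793)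
-/

set_option autoImplicit false
set_option linter.unusedSectionVars false

namespace Cfsg.Agent.H793.TA

open Module Equiv Equiv.Perm

set_option maxRecDepth 100000 in
theorem dec_card5 : Fintype.card {g : Perm (Fin 6) // sign g = 1 ∧ g 5 = 5} = 60 := by (simp only [↓Cfsg.Agent.PermCode.M, Cfsg.Agent.PermCode.P6.R, Cfsg.Agent.PermCode.B]; decide +kernel)

/-- involutions (and `1`) fixing `5`, moving `4` to `j` -/
def kk (j : Fin 6) : Perm (Fin 6) :=
  if j = 0 then swap (4 : Fin 6) 0 * swap (1 : Fin 6) 2 else if j = 1 then swap (4 : Fin 6) 1 * swap (0 : Fin 6) 2 else if j = 2 then swap (4 : Fin 6) 2 * swap (0 : Fin 6) 1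
  else if j = 3 then swap (4 : Fin 6) 3 * swap (0 : Fin 6) 1 else 1

theorem kk_sign (j : Fin 6) : sign (kk j) = 1 := by
  revert j
  decide

/-- the same in `A₆` -/
def ak (j : Fin 6) : A6 := ⟨kk j, mem_alternatingGroup.2 (kk_sign j)⟩

theorem ak_sq (j : Fin 6) : ak j * ak j = 1 := by revert j; decide

theorem ak_five (j : Fin 6) : (ak j : Perm (Fin 6)) 5 = 5 := by revert j; decide

theorem ak_four (j : Fin 6) (hj : j ≠ 5) : (ak j : Perm (Fin 6)) 4 = j := by revert j; decide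

variable {F : Type*} [Field F] [CharP F 5] {V : Type*} [AddCommGroup V] [Module F V] [FiniteDimensional F V]
  {P : Type*} [Group P] {π : P →* A6} {ρ : P →* End F V} (h : Rep π ρ) {t1 t2 t3 s y : P}
  (d : Elt π t1 t2 t3 s y)

variable (π ρ) in
/-- the span of the preimage of `A₅` -/
def Sp : Submodule F (End F V) := Submodule.span F (ρ '' {g : P | (π g : Perm (Fin 6)) 5 = 5})

omit [CharP F 5] [FiniteDimensional F V] in
theorem Sp_mul {a b : End F V} (ha : a ∈ Sp π ρ) (hb : b ∈ Sp π ρ) : a * b ∈ Sp π ρ := by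
  have h1 : Sp π ρ * Sp π ρ ≤ Sp π ρ := by
    unfold Sp
    rw [Submodule.span_mul_span]
    apply Submodule.span_mono
    rintro _ ⟨_, ⟨x, hx, rfl⟩, _, ⟨z, hz, rfl⟩, rfl⟩
    refine ⟨x * z, ?_, map_mul _ _ _⟩
    rw [Set.mem_ofPred_eq] at hx hz ⊢
    rw [map_mul]
    show (π x : Perm (Fin 6)) ((π z : Perm (Fin 6)) 5) = 5
    rw [hz, hx]
  exact h1 (Submodule.mul_mem_mul ha hb)

omit [CharP F 5] [FiniteDimensional F V] in
theorem mem_Sp {g : P} (hg : (π g : Perm (Fin 6)) 5 = 5) : ρ g ∈ Sp π ρ := Submodule.subset_span ⟨g, hg, rfl⟩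

omit [CharP F 5] [FiniteDimensional F V] in
/-- double cosets -/
theorem Sp_eq_top (h : Rep π ρ) {s : P} (hs : ρ s ∈ Sp π ρ) (h4 : (π s : Perm (Fin 6)) 5 = 4) : Sp π ρ = ⊤ := by
  rw [eq_top_iff, ← h.span, Submodule.span_le]
  rintro _ ⟨g, rfl⟩
  by_cases hg : (π g : Perm (Fin 6)) 5 = 5
  · exact mem_Sp hg
  · obtain ⟨k, hk⟩ := h.surj (ak ((π g : Perm (Fin 6)) 5))
    have hk5 : (π k : Perm (Fin 6)) 5 = 5 := by rw [hk]; exact ak_five _
    have hk4 : (π k : Perm (Fin 6)) 4 = (π g : Perm (Fin 6)) 5 := by rw [hk]; exact ak_four _ hg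
    have h1 : g = k * (s * (s⁻¹ * (k⁻¹ * g))) := by group
    have h2 : (π (s⁻¹ * (k⁻¹ * g)) : Perm (Fin 6)) 5 = 5 := by
      rw [map_mul, map_mul, map_inv, map_inv]
      show (π s : Perm (Fin 6))⁻¹ ((π k : Perm (Fin 6))⁻¹ ((π g : Perm (Fin 6)) 5)) = 5
      have e1 : ∀ (σ : Perm (Fin 6)) (x : Fin 6), σ⁻¹ (σ x) = x := fun σ x => σ.symm_apply_apply x
      rw [← hk4, e1]
      calc (π s : Perm (Fin 6))⁻¹ 4 = (π s : Perm (Fin 6))⁻¹ ((π s : Perm (Fin 6)) 5) := by rw [h4]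
        _ = 5 := e1 _ _
    rw [h1, map_mul, map_mul]
    exact Sp_mul (mem_Sp hk5) (Sp_mul hs (mem_Sp h2))

omit [CharP F 5] in
theorem finrank_Sp (h : Rep π ρ) : finrank F (Sp π ρ) ≤ 60 := by
  classical
  choose sec hsec using h.surj
  let f : {g : Perm (Fin 6) // sign g = 1 ∧ g 5 = 5} → End F V := fun g => ρ (sec ⟨g, mem_alternatingGroup.2 g.2.1⟩)
  have h1 : Sp π ρ ≤ Submodule.span F (Set.range f) := by
    unfold Sp
    rw [Submodule.span_le]
    rintro _ ⟨g, hg, rfl⟩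
    have hg' : (π g : Perm (Fin 6)) 5 = 5 := hg
    have h2 : π ((sec (π g))⁻¹ * g) = 1 := by rw [map_mul, map_inv, hsec, inv_mul_cancel]
    obtain ⟨c, hc⟩ := h.sc _ h2
    have h3 : ρ g = c • ρ (sec (π g)) := by
      calc ρ g = ρ (sec (π g) * ((sec (π g))⁻¹ * g)) := by rw [mul_inv_cancel_left]
        _ = _ := by rw [map_mul, hc, mul_smul_comm, mul_one]
    rw [SetLike.mem_coe, h3]
    apply Submodule.smul_mem
    apply Submodule.subset_span
    exact ⟨⟨π g, mem_alternatingGroup.1 (π g).2, hg'⟩, rfl⟩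
  calc finrank F (Sp π ρ) ≤ finrank F (Submodule.span F (Set.range f)) := Submodule.finrank_mono h1
    _ ≤ Fintype.card {g : Perm (Fin 6) // sign g = 1 ∧ g 5 = 5} := finrank_range_le_card f
    _ = 60 := dec_card5

omit [CharP F 5] in
theorem Sp_ne_top (h : Rep π ρ) : Sp π ρ ≠ ⊤ := by
  intro h1
  have h2 := finrank_Sp h
  rw [h1, finrank_top, Module.finrank_linearMap, h.dim] at h2
  omega

include h d in
/-- **The case `V₀ = 0`.** -/
theorem case_three (h0 : E0 (ρ t1) (ρ t2) (ρ t3) = 0)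
    (hs1 : ρ s * E1 (ρ t1) (ρ t2) (ρ t3) = -E1 (ρ t1) (ρ t2) (ρ t3)) : False := by
  have g := gen (ρ := ρ) d
  have mt1 : ρ t1 ∈ Sp π ρ := mem_Sp (by rw [d.q1]; decide)
  have mt2 : ρ t2 ∈ Sp π ρ := mem_Sp (by rw [d.q2]; decide)
  have mt3 : ρ t3 ∈ Sp π ρ := mem_Sp (by rw [d.q3]; decide)
  have my : ρ y ∈ Sp π ρ := mem_Sp (by rw [d.qy]; decide)
  have m1 : (1 : End F V) ∈ Sp π ρ := by
    rw [← map_one ρ]
    exact mem_Sp (by rw [map_one]; rfl)
  have me1 : E1 (ρ t1) (ρ t2) (ρ t3) ∈ Sp π ρ := by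
    unfold E1
    exact Submodule.neg_mem _ (Submodule.sub_mem _ (Submodule.sub_mem _ (Submodule.add_mem _ m1 mt1) mt2) mt3)
  have k3 : ρ s * E3 (ρ t1) (ρ t2) (ρ t3) = -(ρ y * ρ y * E1 (ρ t1) (ρ t2) (ρ t3) * (ρ y * ρ y)) := by
    have e1 : E3 (ρ t1) (ρ t2) (ρ t3) = ρ y * E1 (ρ t1) (ρ t2) (ρ t3) * (ρ y * ρ y) := by
      rw [g.ye1, mul_assoc, g.yyy, mul_one]
    calc ρ s * E3 (ρ t1) (ρ t2) (ρ t3) = (ρ s * ρ y) * E1 (ρ t1) (ρ t2) (ρ t3) * (ρ y * ρ y) := by
          rw [e1]; noncomm_ring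
      _ = ρ y * ρ y * (ρ s * E1 (ρ t1) (ρ t2) (ρ t3)) * (ρ y * ρ y) := by rw [g.sy]; noncomm_ring
      _ = _ := by rw [hs1]; noncomm_ring
  have k2 : ρ s * E2 (ρ t1) (ρ t2) (ρ t3) = ρ y * ρ y * (ρ s * E3 (ρ t1) (ρ t2) (ρ t3)) * (ρ y * ρ y) := by
    have e1 : E2 (ρ t1) (ρ t2) (ρ t3) = ρ y * E3 (ρ t1) (ρ t2) (ρ t3) * (ρ y * ρ y) := by
      rw [g.ye3, mul_assoc, g.yyy, mul_one]
    calc ρ s * E2 (ρ t1) (ρ t2) (ρ t3) = (ρ s * ρ y) * E3 (ρ t1) (ρ t2) (ρ t3) * (ρ y * ρ y) := by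
          rw [e1]; noncomm_ring
      _ = _ := by rw [g.sy]; noncomm_ring
  have myy : ρ y * ρ y ∈ Sp π ρ := Sp_mul my my
  have m3 : ρ s * E3 (ρ t1) (ρ t2) (ρ t3) ∈ Sp π ρ := by
    rw [k3]
    exact Submodule.neg_mem _ (Sp_mul (Sp_mul myy me1) myy)
  have m2 : ρ s * E2 (ρ t1) (ρ t2) (ρ t3) ∈ Sp π ρ := by
    rw [k2]
    exact Sp_mul (Sp_mul myy m3) myy
  have ms : ρ s ∈ Sp π ρ := by
    have e1 : ρ s = ρ s * E0 (ρ t1) (ρ t2) (ρ t3) + ρ s * E1 (ρ t1) (ρ t2) (ρ t3) + ρ s * E2 (ρ t1) (ρ t2) (ρ t3) +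
        ρ s * E3 (ρ t1) (ρ t2) (ρ t3) := by
      rw [← mul_add, ← mul_add, ← mul_add, V4.sum, mul_one]
    rw [e1, h0, mul_zero, zero_add, hs1]
    exact Submodule.add_mem _ (Submodule.add_mem _ (Submodule.neg_mem _ me1) m2) m3
  exact Sp_ne_top h (Sp_eq_top h ms (by rw [d.qs]; decide))

end Cfsg.Agent.H793.TA
end

-- part: H793/TA/KGrp
section
/-!
# A complement of the centre in the preimage of `A₅` (helper793)
-/

set_option autoImplicit false
set_option linter.unusedSectionVars false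

namespace Cfsg.Agent.H793.TA

open Equiv Equiv.Perm
open scoped commutatorElement

set_option maxRecDepth 100000 in
theorem dec_invol : ∀ h : Perm (Fin 6), h 5 = 5 → sign h = 1 → ∃ g : Perm (Fin 6), g 5 = 5 ∧ g * g = 1 ∧
    (g * h) * (g * h) = 1 ∧ sign g = 1 := by (simp only [↓Cfsg.Agent.PermCode.M, Cfsg.Agent.PermCode.P6.R, Cfsg.Agent.PermCode.B]; decide +kernel)

set_option maxRecDepth 100000 in
theorem dec_comm : ∀ g : Perm (Fin 6), g 5 = 5 → sign g = 1 → g * g = 1 → ∃ b : Perm (Fin 6), b 5 = 5 ∧ sign b = 1 ∧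
    (b * g * b⁻¹) * (b * (b * g * b⁻¹) * b⁻¹) = g ∧ (b * (b * g * b⁻¹) * b⁻¹) * (b * g * b⁻¹) = g := by (simp only [↓Cfsg.Agent.PermCode.M, Cfsg.Agent.PermCode.P6.R, Cfsg.Agent.PermCode.B]; decide +kernel)

set_option maxRecDepth 100000 in
theorem dec_four : ∀ g : Perm (Fin 6), g 5 = 5 → g 4 = 4 → sign g = 1 → ∃ i : Fin 3, g = p1 ^ (i : ℕ) ∨
    g = b1 * p1 ^ (i : ℕ) ∨ g = b2 * p1 ^ (i : ℕ) ∨ g = b3 * p1 ^ (i : ℕ) := by (simp only [↓Cfsg.Agent.PermCode.M, Cfsg.Agent.PermCode.P6.R, Cfsg.Agent.PermCode.B]; decide +kernel)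

set_option maxRecDepth 100000 in
theorem dec_three : ∀ j : Fin 6, j ≠ 5 → ∃ b : Perm (Fin 6), sign b = 1 ∧ b 5 = 5 ∧ b 4 = 4 ∧ b j = j ∧
    b * b * b = 1 ∧ b ≠ 1 := by (simp only [↓Cfsg.Agent.PermCode.M, Cfsg.Agent.PermCode.P6.R, Cfsg.Agent.PermCode.B]; decide +kernel)

variable {P : Type*} [Group P] (π : P →* A6)

/-- the subgroup generated by the lifts of the involutions fixing `5` -/
def K : Subgroup P := Subgroup.closure {x | x * x = 1 ∧ (π x : Perm (Fin 6)) 5 = 5}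

/-- the preimage of the stabilizer of `5` -/
def Q : Subgroup P where
  carrier := {x | (π x : Perm (Fin 6)) 5 = 5}
  one_mem' := by simp
  mul_mem' := by
    intro a b ha hb
    have ha' : (π a : Perm (Fin 6)) 5 = 5 := ha
    have hb' : (π b : Perm (Fin 6)) 5 = 5 := hb
    show (π (a * b) : Perm (Fin 6)) 5 = 5
    rw [map_mul]
    show (π a : Perm (Fin 6)) ((π b : Perm (Fin 6)) 5) = 5
    rw [hb', ha']
  inv_mem' := by
    intro a ha
    have ha' : (π a : Perm (Fin 6)) 5 = 5 := ha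
    show (π a⁻¹ : Perm (Fin 6)) 5 = 5
    rw [map_inv]
    show (π a : Perm (Fin 6))⁻¹ 5 = 5
    have e1 : ∀ (σ : Perm (Fin 6)) (x : Fin 6), σ⁻¹ (σ x) = x := fun σ x => σ.symm_apply_apply x
    calc (π a : Perm (Fin 6))⁻¹ 5 = (π a : Perm (Fin 6))⁻¹ ((π a : Perm (Fin 6)) 5) := by rw [ha']
      _ = 5 := e1 _ _

variable {π}

theorem mem_Q {x : P} : x ∈ Q π ↔ (π x : Perm (Fin 6)) 5 = 5 := Iff.rfl

theorem mem_K {x : P} (hx : x * x = 1) (h5 : (π x : Perm (Fin 6)) 5 = 5) : x ∈ K π := Subgroup.subset_closure ⟨hx, h5⟩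

theorem K_le_Q : K π ≤ Q π := (Subgroup.closure_le _).2 fun _ hx => hx.2

variable (h : Ext π)
include h

/-- `π` maps `K` onto the stabilizer -/
theorem exists_K {g : A6} (hg : (g : Perm (Fin 6)) 5 = 5) : ∃ k ∈ K π, π k = g := by
  obtain ⟨u, hu5, hu2, huu, hus⟩ := dec_invol g hg (mem_alternatingGroup.1 g.2)
  let u' : A6 := ⟨u, mem_alternatingGroup.2 hus⟩
  obtain ⟨x, hx, hx2⟩ := h.exists_sq (g := u') (Subtype.ext hu2)
  obtain ⟨z, hz, hz2⟩ := h.exists_sq (g := u' * g) (Subtype.ext huu)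
  refine ⟨x * z, mul_mem (mem_K hx2 ?_) (mem_K hz2 ?_), ?_⟩
  · rw [hx]; exact hu5
  · rw [hz]
    show u ((g : Perm (Fin 6)) 5) = 5
    rw [hg, hu5]
  · rw [map_mul, hx, hz, ← mul_assoc]
    have : u' * u' = 1 := Subtype.ext hu2
    rw [this, one_mul]

/-- the generators are commutators -/
theorem gen_mem_comm {x : P} (hx : x * x = 1) (h5 : (π x : Perm (Fin 6)) 5 = 5) : x ∈ ⁅Q π, Q π⁆ := by
  have hg2 : (π x : Perm (Fin 6)) * (π x : Perm (Fin 6)) = 1 := by
    have : π x * π x = 1 := by rw [← map_mul, hx, map_one]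
    exact congrArg Subtype.val this
  obtain ⟨b, hb5, hbs, hb1, hb2⟩ := dec_comm (π x) h5 (mem_alternatingGroup.1 (π x).2) hg2
  let b' : A6 := ⟨b, mem_alternatingGroup.2 hbs⟩
  obtain ⟨β, hβ⟩ := h.surj b'
  have hβQ : β ∈ Q π := by rw [mem_Q, hβ]; exact hb5
  have hxQ : x ∈ Q π := h5
  set x' := β * x * β⁻¹ with hx'
  set x'' := β * x' * β⁻¹ with hx''
  have h1 : x' * x' = 1 := by
    calc x' * x' = β * (x * x) * β⁻¹ := by rw [hx']; group
      _ = 1 := by rw [hx]; group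
  have h2 : x'' * x'' = 1 := by
    calc x'' * x'' = β * (x' * x') * β⁻¹ := by rw [hx'']; group
      _ = 1 := by rw [h1]; group
  have e1 : π x' = b' * π x * b'⁻¹ := by rw [hx', map_mul, map_mul, map_inv, hβ]
  have e2 : π x'' = b' * π x' * b'⁻¹ := by rw [hx'', map_mul, map_mul, map_inv, hβ]
  have h3 : π x' * π x'' = π x := by
    rw [e2, e1]
    exact Subtype.ext hb1
  have h4 : π x'' * π x' = π x := by
    rw [e2, e1]
    exact Subtype.ext hb2
  have h6 : x' * x'' = x := h.mul_sq h1 h2 hx (h3.trans h4.symm) h3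
  have hx'Q : x' ∈ Q π := mul_mem (mul_mem hβQ hxQ) (inv_mem hβQ)
  have h7 : x = ⁅x', β⁆ := by
    rw [commutatorElement_def, ← h6, hx'', inv_eq_of_mul_eq_one_right h1]
    group
  rw [h7]
  exact Subgroup.commutator_mem_commutator hx'Q hβQ

/-- `K` meets the kernel trivially. -/
theorem K_ker {z : P} (hz : z ∈ K π) (hz1 : π z = 1) : z = 1 := by
  have h1 : z ∈ ⁅Q π, Q π⁆ := by
    have : K π ≤ ⁅Q π, Q π⁆ := (Subgroup.closure_le _).2 fun x hx => gen_mem_comm h hx.1 hx.2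
    exact this hz
  have h2 : (⟨z, K_le_Q hz⟩ : Q π) ∈ commutator (Q π) := by
    have h3 : (commutator (Q π)).map (Q π).subtype = ⁅Q π, Q π⁆ := Subgroup.map_subtype_commutator _
    rw [← h3] at h1
    obtain ⟨w, hw, hwz⟩ := h1
    have : w = ⟨z, K_le_Q hz⟩ := Subtype.ext hwz
    rw [← this]; exact hw
  -- the abelian subgroup
  let H3 : Subgroup (Q π) := (Subgroup.zpowers c1).comap (π.comp (Q π).subtype)
  have hc1 : c1 ^ 3 = 1 := by decide
  obtain ⟨y, hy⟩ := h.surj c1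
  have hgen : ∀ g ∈ H3, ∃ i : ℤ, ∃ w : P, π w = 1 ∧ (g : P) = y ^ i * w := by
    rintro g ⟨i, hi⟩
    have hi' : c1 ^ i = π (g : P) := hi
    refine ⟨i, (y ^ i)⁻¹ * g, ?_, by group⟩
    rw [map_mul, map_inv, map_zpow, hy, hi', inv_mul_cancel]
  have hcomm : ∀ a ∈ H3, ∀ b ∈ H3, a * b = b * a := by
    intro a ha b hb
    obtain ⟨i, z, hz, hz'⟩ := hgen a ha
    obtain ⟨j, w, hw, hw'⟩ := hgen b hb
    apply Subtype.ext
    show (a : P) * b = b * a
    rw [hz', hw']
    have hzc : ∀ g, Commute z g := fun g => h.cent z hz g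
    have hwc : ∀ g, Commute w g := fun g => h.cent w hw g
    have e2 : Commute (y ^ i * z) (y ^ j * w) := by
      apply Commute.mul_left
      · exact Commute.mul_right ((Commute.refl y).zpow_zpow i j) (hwc _).symm
      · exact hzc _
    exact e2
  have hcard : Nat.card (Subgroup.zpowers c1) = 3 := by
    rw [Nat.card_zpowers]
    have : Fact (Nat.Prime 3) := ⟨Nat.prime_three⟩
    exact orderOf_eq_prime hc1 (by decide)
  -- the index
  let R5 : Subgroup A6 :=
    { carrier := {g | (g : Perm (Fin 6)) 5 = 5}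
      one_mem' := rfl
      mul_mem' := by
        intro a b ha hb
        have ha' : (a : Perm (Fin 6)) 5 = 5 := ha
        have hb' : (b : Perm (Fin 6)) 5 = 5 := hb
        show (a : Perm (Fin 6)) ((b : Perm (Fin 6)) 5) = 5
        rw [hb', ha']
      inv_mem' := by
        intro a ha
        have ha' : (a : Perm (Fin 6)) 5 = 5 := ha
        show (a : Perm (Fin 6))⁻¹ 5 = 5
        have e1 : ∀ (σ : Perm (Fin 6)) (x : Fin 6), σ⁻¹ (σ x) = x := fun σ x => σ.symm_apply_apply x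
        calc (a : Perm (Fin 6))⁻¹ 5 = (a : Perm (Fin 6))⁻¹ ((a : Perm (Fin 6)) 5) := by rw [ha']
          _ = 5 := e1 _ _ }
  have hR : Nat.card R5 = 60 := by
    rw [← dec_card5, ← Nat.card_eq_fintype_card]
    refine Nat.card_congr ⟨fun g => ⟨((g : A6) : Perm (Fin 6)), mem_alternatingGroup.1 (g : A6).2, g.2⟩,
      fun g => ⟨⟨g, mem_alternatingGroup.2 g.2.1⟩, g.2.2⟩, fun g => rfl, fun g => rfl⟩
  let πQ : Q π →* R5 := (π.comp (Q π).subtype).codRestrict R5 fun g => g.2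
  have hπQ : Function.Surjective πQ := by
    intro g
    obtain ⟨x, hx⟩ := h.surj g
    refine ⟨⟨x, ?_⟩, Subtype.ext hx⟩
    rw [mem_Q, hx]
    exact g.2
  have hcR : Subgroup.zpowers c1 ≤ R5 := by
    rw [Subgroup.zpowers_le]
    show (c1 : Perm (Fin 6)) 5 = 5
    decide
  have hH3 : H3 = ((Subgroup.zpowers c1).subgroupOf R5).comap πQ := rfl
  have hidx : H3.index = 20 := by
    rw [hH3, Subgroup.index_comap_of_surjective _ hπQ]
    have h3 := ((Subgroup.zpowers c1).subgroupOf R5).card_mul_index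
    rw [Nat.card_congr (Subgroup.subgroupOfEquivOfLe hcR).toEquiv, hcard, hR] at h3
    omega
  have : H3.FiniteIndex := ⟨by rw [hidx]; norm_num⟩
  have h4 := pow_index_eq_one H3 hcomm (z := ⟨z, K_le_Q hz⟩) (fun g => Subtype.ext (h.cent z hz1 g)) h2
  rw [hidx] at h4
  have h5 : z ^ 20 = 1 := congrArg Subtype.val h4
  have h6 := h.nine z hz1
  calc z = (z ^ 9) ^ 9 * ((z ^ 20) ^ 4)⁻¹ := by group
    _ = 1 := by rw [h5, h6]; simp

/-- `π` is injective on `K` -/
theorem K_inj {x z : P} (hx : x ∈ K π) (hz : z ∈ K π) (hxz : π x = π z) : x = z := by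
  have h1 : x * z⁻¹ = 1 := K_ker h (mul_mem hx (inv_mem hz)) (by rw [map_mul, map_inv, hxz, mul_inv_cancel])
  exact mul_inv_eq_one.1 h1

end Cfsg.Agent.H793.TA
end

-- part: H793/TA/Pts
section
/-!
# Modules for the complement `K`: vectors fixed by the stabilizer of a point (helper793)
-/

set_option autoImplicit false
set_option linter.unusedSectionVars false

namespace Cfsg.Agent.H793.TA

open Module Equiv Equiv.Perm

set_option maxRecDepth 100000 in
theorem dec_trans : ∀ j : Fin 6, ∃ g : Perm (Fin 6), sign g = 1 ∧ g 5 = j := by (simp only [↓Cfsg.Agent.PermCode.M, Cfsg.Agent.PermCode.P6.R, Cfsg.Agent.PermCode.B]; decide +kernel)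

/-- lifts of the involutions `ak j` -/
structure Lf {P : Type*} [Group P] (π : P →* A6) (k : Fin 6 → P) : Prop where
  p : ∀ j, π (k j) = ak j
  sq : ∀ j, k j * k j = 1

theorem Ext.exists_lf {P : Type*} [Group P] {π : P →* A6} (h : Ext π) : ∃ k : Fin 6 → P, Lf π k := by
  choose k hk using fun j => h.exists_sq (ak_sq j)
  exact ⟨k, fun j => (hk j).1, fun j => (hk j).2⟩

variable {F : Type*} [Field F] [CharP F 5]
  {P : Type*} [Group P] {π : P →* A6} (h : Ext π) {k : Fin 6 → P} (hk : Lf π k)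

theorem Lf.mem (hk : Lf π k) (j : Fin 6) : k j ∈ K π := mem_K (hk.sq j) (by rw [hk.p]; exact ak_five j)

theorem Lf.four (hk : Lf π k) {j : Fin 6} (hj : j ≠ 5) : (π (k j) : Perm (Fin 6)) 4 = j := by
  rw [hk.p]; exact ak_four j hj

include h in
theorem Lf.k4 (hk : Lf π k) : k 4 = 1 := h.eq_of_sq (hk.sq 4) (one_mul 1) (by rw [hk.p, map_one]; decide)

/-- the equivariance -/
theorem Lf.step (hk : Lf π k) {x : P} (hx : x ∈ K π) {j : Fin 6} (hj : j ≠ 5) :
    ∃ w ∈ K π, (π w : Perm (Fin 6)) 4 = 4 ∧ x * k j = k ((π x : Perm (Fin 6)) j) * w := by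
  have hx5 : (π x : Perm (Fin 6)) 5 = 5 := K_le_Q hx
  have hj' : (π x : Perm (Fin 6)) j ≠ 5 := fun h1 => hj ((π x : Perm (Fin 6)).injective (h1.trans hx5.symm))
  refine ⟨k ((π x : Perm (Fin 6)) j) * (x * k j), mul_mem (hk.mem _) (mul_mem hx (hk.mem _)), ?_, ?_⟩
  · rw [map_mul, map_mul]
    show (π (k ((π x : Perm (Fin 6)) j)) : Perm (Fin 6)) ((π x : Perm (Fin 6)) ((π (k j) : Perm (Fin 6)) 4)) = 4
    rw [hk.four hj]
    have h1 : (π (k ((π x : Perm (Fin 6)) j)) : Perm (Fin 6)) 4 = (π x : Perm (Fin 6)) j := hk.four hj'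
    have h2 : (π (k ((π x : Perm (Fin 6)) j)) : Perm (Fin 6)) ((π (k ((π x : Perm (Fin 6)) j)) : Perm (Fin 6)) 4) = 4 := by
      have h3 : π (k ((π x : Perm (Fin 6)) j)) * π (k ((π x : Perm (Fin 6)) j)) = 1 := by
        rw [← map_mul, hk.sq, map_one]
      exact congrArg (fun g : A6 => (g : Perm (Fin 6)) 4) h3
    rw [h1] at h2
    exact h2
  · rw [← mul_assoc (k _) (k _), hk.sq, one_mul]

section module

variable {W : Type*} [AddCommGroup W] [Module F W] (σ : P →* End F W)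
  (hno : ∀ w : W, (∀ x ∈ K π, σ x w = w) → w = 0) {w4 : W} (hw4 : w4 ≠ 0)
  (hfix : ∀ x ∈ K π, (π x : Perm (Fin 6)) 4 = 4 → σ x w4 = w4)

include hk hfix in
theorem pt_equiv {x : P} (hx : x ∈ K π) {j : Fin 6} (hj : j ≠ 5) :
    σ x (σ (k j) w4) = σ (k ((π x : Perm (Fin 6)) j)) w4 := by
  obtain ⟨w, hw, hw1, hw2⟩ := hk.step hx hj
  rw [← Module.End.mul_apply, ← map_mul, hw2, map_mul, Module.End.mul_apply, hfix w hw hw1]

include hk hfix hno in
theorem pt_sum : σ (k 0) w4 + σ (k 1) w4 + σ (k 2) w4 + σ (k 3) w4 + σ (k 4) w4 = 0 := by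
  have h1 : ∑ j ∈ Finset.univ.erase (5 : Fin 6), σ (k j) w4 = 0 := by
    apply hno
    intro x hx
    have hx5 : (π x : Perm (Fin 6)) 5 = 5 := K_le_Q hx
    rw [map_sum]
    have h2 : ∑ j ∈ Finset.univ.erase (5 : Fin 6), σ x (σ (k j) w4) =
        ∑ j ∈ Finset.univ.erase (5 : Fin 6), σ (k ((π x : Perm (Fin 6)) j)) w4 :=
      Finset.sum_congr rfl fun j hj => pt_equiv hk σ hfix hx (Finset.ne_of_mem_erase hj)
    rw [h2]
    apply Finset.sum_equiv (π x : Perm (Fin 6))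
    · intro i
      simp only [Finset.mem_erase, Finset.mem_univ, and_true]
      constructor
      · intro hi h3
        exact hi ((π x : Perm (Fin 6)).injective (h3.trans hx5.symm))
      · intro hi h3
        rw [h3, hx5] at hi
        exact hi rfl
    · intro i _
      rfl
  have h2 : Finset.univ.erase (5 : Fin 6) = {0, 1, 2, 3, 4} := by decide
  rw [h2] at h1
  rw [Finset.sum_insert (by decide), Finset.sum_insert (by decide), Finset.sum_insert (by decide),
    Finset.sum_insert (by decide), Finset.sum_singleton] at h1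
  rw [← h1]; abel

include h hk hfix hno hw4 in
theorem pt_ne : σ (k 0) w4 + σ (k 1) w4 - σ (k 2) w4 - σ (k 3) w4 ≠ 0 := by
  intro h0
  obtain ⟨y, hy, hy1⟩ := exists_K h (g := c1) (by decide)
  have e : ∀ j : Fin 6, j ≠ 5 → σ y (σ (k j) w4) = σ (k ((c1 : Perm (Fin 6)) j)) w4 := by
    intro j hj
    have := pt_equiv hk σ hfix hy hj
    rw [hy1] at this
    exact this
  have e0 : σ y (σ (k 0) w4) = σ (k 1) w4 := e 0 (by decide)
  have e1 : σ y (σ (k 1) w4) = σ (k 2) w4 := e 1 (by decide)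
  have e2 : σ y (σ (k 2) w4) = σ (k 0) w4 := e 2 (by decide)
  have e3 : σ y (σ (k 3) w4) = σ (k 3) w4 := e 3 (by decide)
  have h1 : σ (k 1) w4 + σ (k 2) w4 - σ (k 0) w4 - σ (k 3) w4 = 0 := by
    have := congrArg (σ y) h0
    rw [map_sub, map_sub, map_add, e0, e1, e2, e3, map_zero] at this
    exact this
  have h2 : σ (k 2) w4 + σ (k 0) w4 - σ (k 1) w4 - σ (k 3) w4 = 0 := by
    have := congrArg (σ y) h1
    rw [map_sub, map_sub, map_add, e0, e1, e2, e3, map_zero] at this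
    exact this
  have hs := pt_sum hk σ hno hfix
  set a0 := σ (k 0) w4
  set a1 := σ (k 1) w4
  set a2 := σ (k 2) w4
  set a3 := σ (k 3) w4
  have h4 : σ (k 4) w4 = w4 := by rw [hk.k4 h, map_one]; rfl
  rw [h4] at hs
  have f5 : ∀ v : W, (5 : F) • v = 0 := fun v => by rw [five0 F, zero_smul]
  have g1 : a0 = a2 := by
    have := f5 (a0 - a2)
    linear_combination (norm := module) (3 : F) • h0 - (3 : F) • h1 - this
  have g2 : a0 = a1 := by
    have := f5 (a0 - a1)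
    linear_combination (norm := module) (3 : F) • h2 - (3 : F) • h1 - this
  have g3 : a0 = a3 := by
    rw [← g1, ← g2] at h0
    linear_combination (norm := module) h0
  have g4 : w4 = a0 := by
    rw [← g1, ← g2, ← g3] at hs
    have := f5 a0
    linear_combination (norm := module) hs - this
  apply hw4
  apply hno
  intro x hx
  have hx5 : (π x : Perm (Fin 6)) 5 = 5 := K_le_Q hx
  have h5 := pt_equiv hk σ hfix hx (j := 4) (by decide)
  rw [h4] at h5
  rw [h5]
  have h6 : (π x : Perm (Fin 6)) 4 ≠ 5 := by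
    intro h7
    have : (4 : Fin 6) = 5 := (π x : Perm (Fin 6)).injective (h7.trans hx5.symm)
    exact absurd this (by decide)
  have h7 : ∀ j : Fin 6, j ≠ 5 → σ (k j) w4 = w4 := by
    intro j hj
    fin_cases j
    · exact g4.symm
    · exact g2.symm.trans g4.symm
    · exact g1.symm.trans g4.symm
    · exact g3.symm.trans g4.symm
    · exact h4
    · exact absurd rfl hj
  exact h7 _ h6

end module

section nofix

variable {V : Type*} [AddCommGroup V] [Module F V] [FiniteDimensional F V] {ρ : P →* End F V}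

omit [CharP F 5] in
theorem Rep.noFix (h : Rep π ρ) {v : V} (hv : ∀ x ∈ K π, ρ x v = v) : v = 0 := by
  by_contra hv0
  have hr : ∀ j : Fin 6, ∃ r : P, (π r : Perm (Fin 6)) 5 = j := by
    intro j
    obtain ⟨g, hg, hg5⟩ := dec_trans j
    obtain ⟨r, hr⟩ := h.surj ⟨g, mem_alternatingGroup.2 hg⟩
    exact ⟨r, by rw [hr]; exact hg5⟩
  choose r hr using hr
  let W := Submodule.span F (Set.range fun j => ρ (r j) v)
  have h1 : ∀ g : P, ρ g v ∈ W := by
    intro g
    set j := (π g : Perm (Fin 6)) 5 with hj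
    have hQ : (π ((r j)⁻¹ * g) : Perm (Fin 6)) 5 = 5 := by
      rw [map_mul, map_inv]
      show (π (r j) : Perm (Fin 6))⁻¹ ((π g : Perm (Fin 6)) 5) = 5
      have e1 : ∀ (σ : Perm (Fin 6)) (x : Fin 6), σ⁻¹ (σ x) = x := fun σ x => σ.symm_apply_apply x
      rw [← hj]
      calc (π (r j) : Perm (Fin 6))⁻¹ j = (π (r j) : Perm (Fin 6))⁻¹ ((π (r j) : Perm (Fin 6)) 5) := by rw [hr]
        _ = 5 := e1 _ _
    obtain ⟨x, hx, hx1⟩ := exists_K h.toExt hQ
    have h2 : π (x⁻¹ * ((r j)⁻¹ * g)) = 1 := by rw [map_mul, map_inv, hx1, inv_mul_cancel]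
    obtain ⟨c, hc⟩ := h.sc _ h2
    have h3 : g = r j * x * (x⁻¹ * ((r j)⁻¹ * g)) := by group
    have h4 : ρ g v = c • ρ (r j) v := by
      rw [h3, map_mul, map_mul, hc, mul_smul_comm, mul_one, LinearMap.smul_apply, Module.End.mul_apply, hv x hx]
    rw [h4]
    exact W.smul_mem _ (Submodule.subset_span ⟨j, rfl⟩)
  have h2 : ∀ A : End F V, A v ∈ W := by
    intro A
    have hA : A ∈ Submodule.span F (Set.range ρ) := by rw [h.span]; trivial
    induction hA using Submodule.span_induction with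
    | mem x hx => obtain ⟨g, rfl⟩ := hx; exact h1 g
    | zero => exact W.zero_mem
    | add x y _ _ hx hy => exact W.add_mem hx hy
    | smul a x _ hx => exact W.smul_mem _ hx
  obtain ⟨φ, hφ⟩ := Module.Projective.exists_dual_eq_one F hv0
  have h3 : W = ⊤ := by
    rw [eq_top_iff]
    intro w _
    have h4 := h2 (φ.smulRight w)
    rw [LinearMap.smulRight_apply, hφ, one_smul] at h4
    exact h4
  have h4 : finrank F W ≤ Fintype.card (Fin 6) := finrank_range_le_card _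
  rw [h3, finrank_top, h.dim, Fintype.card_fin] at h4
  omega

omit [CharP F 5] in
theorem Rep.noFix' (h : Rep π ρ) {l : Dual F V} (hv : ∀ x ∈ K π, l ∘ₗ ρ x = l) : l = 0 := by
  by_contra hv0
  have hr : ∀ j : Fin 6, ∃ r : P, (π r : Perm (Fin 6)) 5 = j := by
    intro j
    obtain ⟨g, hg, hg5⟩ := dec_trans j
    obtain ⟨r, hr⟩ := h.surj ⟨g, mem_alternatingGroup.2 hg⟩
    exact ⟨r, by rw [hr]; exact hg5⟩
  choose r hr using hr
  let W : Submodule F (Dual F V) := Submodule.span F (Set.range fun j => l ∘ₗ ρ (r j)⁻¹)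
  have h1 : ∀ g : P, l ∘ₗ ρ g ∈ W := by
    intro g
    set j := (π g : Perm (Fin 6))⁻¹ 5 with hj
    have hgj : (π g : Perm (Fin 6)) j = 5 := (π g : Perm (Fin 6)).apply_symm_apply 5
    have hQ : (π (g * r j) : Perm (Fin 6)) 5 = 5 := by
      rw [map_mul]
      show (π g : Perm (Fin 6)) ((π (r j) : Perm (Fin 6)) 5) = 5
      rw [hr, hgj]
    obtain ⟨x, hx, hx1⟩ := exists_K h.toExt hQ
    have h2 : π (x⁻¹ * (g * r j)) = 1 := by rw [map_mul, map_inv, hx1, inv_mul_cancel]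
    obtain ⟨c, hc⟩ := h.sc _ h2
    have h3 : g = x * (x⁻¹ * (g * r j)) * (r j)⁻¹ := by group
    have h4 : l ∘ₗ ρ g = c • (l ∘ₗ ρ (r j)⁻¹) := by
      have h5 : l ∘ₗ (ρ x * (c • (1 : End F V)) * ρ (r j)⁻¹) = c • ((l ∘ₗ ρ x) ∘ₗ ρ (r j)⁻¹) := by
        ext w
        simp
      conv_lhs => rw [h3, map_mul, map_mul, hc, h5, hv x hx]
    rw [h4]
    exact W.smul_mem _ (Submodule.subset_span ⟨j, rfl⟩)
  have h2 : ∀ A : End F V, l ∘ₗ A ∈ W := by
    intro A
    have hA : A ∈ Submodule.span F (Set.range ρ) := by rw [h.span]; trivial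
    induction hA using Submodule.span_induction with
    | mem x hx => obtain ⟨g, rfl⟩ := hx; exact h1 g
    | zero => rw [LinearMap.comp_zero]; exact W.zero_mem
    | add x y _ _ hx hy => rw [LinearMap.comp_add]; exact W.add_mem hx hy
    | smul a x _ hx => rw [LinearMap.comp_smul]; exact W.smul_mem _ hx
  obtain ⟨v, hv1⟩ : ∃ v, l v = 1 := by
    obtain ⟨v, hv1⟩ : ∃ v, l v ≠ 0 := by
      by_contra hcon
      push Not at hcon
      exact hv0 (LinearMap.ext hcon)
    exact ⟨(l v)⁻¹ • v, by rw [map_smul, smul_eq_mul, inv_mul_cancel₀ hv1]⟩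
  have h3 : W = ⊤ := by
    rw [eq_top_iff]
    intro l' _
    have h4 := h2 (LinearMap.smulRight l' v)
    have h5 : l ∘ₗ LinearMap.smulRight l' v = l' := by
      ext w
      simp [hv1]
    rw [h5] at h4
    exact h4
  have h4 : finrank F W ≤ Fintype.card (Fin 6) := finrank_range_le_card _
  rw [h3, finrank_top, Subspace.dual_finrank_eq, h.dim, Fintype.card_fin] at h4
  omega

end nofix

end Cfsg.Agent.H793.TA
end

-- part: H793/TA/Two
section
/-!
# Nine-dimensional representations of perfect central extensions of `A₆` in characteristic five: the case `dim V₀ = 3` (helper793)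
-/

set_option autoImplicit false
set_option linter.unusedSectionVars false

namespace Cfsg.Agent.H793.TA

open Module Equiv Equiv.Perm

variable {F : Type*} [Field F] [CharP F 5] {V : Type*} [AddCommGroup V] [Module F V] [FiniteDimensional F V]

section ring

/-- the projection onto the `c`-eigenspace of `Y` in the image of `E` -/
def G (E Y : End F V) (c : F) : End F V := (2 : F) • ((1 + (c * c) • Y + c • (Y * Y)) * E)

variable {E Y : End F V} (hE : E * E = E) (hYE : Y * E = E * Y) (hY : Y * (Y * Y) = 1) {c : F} (hc : c * (c * c) = 1)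

include hY hc in
omit [CharP F 5] [FiniteDimensional F V] in
theorem yg : Y * G E Y c = c • G E Y c := by
  have key : Y * (1 + (c * c) • Y + c • (Y * Y)) = c • (1 + (c * c) • Y + c • (Y * Y)) := by
    rw [mul_add, mul_add, mul_one, mul_smul_comm, mul_smul_comm, hY, smul_add, smul_add, smul_smul, smul_smul, hc,
      one_smul]
    abel
  unfold G
  rw [mul_smul_comm, ← mul_assoc, key, smul_mul_assoc, smul_comm]

include hYE hY hc in
omit [CharP F 5] [FiniteDimensional F V] in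
theorem gy : G E Y c * Y = c • G E Y c := by
  rw [← yg hY hc]
  unfold G
  rw [mul_smul_comm, smul_mul_assoc]
  congr 1
  rw [mul_assoc, ← hYE, ← mul_assoc, ← mul_assoc]
  congr 1
  simp only [mul_add, add_mul, mul_one, one_mul, mul_smul_comm, smul_mul_assoc, mul_assoc]

include hE in
omit [CharP F 5] [FiniteDimensional F V] in
theorem ge (c : F) : G E Y c * E = G E Y c := by
  unfold G
  rw [smul_mul_assoc, mul_assoc, hE]

include hE hYE in
omit [CharP F 5] [FiniteDimensional F V] in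
theorem eg (c : F) : E * G E Y c = G E Y c := by
  unfold G
  have h1 : E * (1 + (c * c) • Y + c • (Y * Y)) = (1 + (c * c) • Y + c • (Y * Y)) * E := by
    have h2 : E * (Y * Y) = (Y * Y) * E := by rw [← mul_assoc, ← hYE, mul_assoc, ← hYE, mul_assoc]
    rw [mul_add, mul_add, add_mul, add_mul, mul_one, one_mul, mul_smul_comm, mul_smul_comm, smul_mul_assoc,
      smul_mul_assoc, h2, hYE]
  rw [mul_smul_comm, ← mul_assoc, h1, mul_assoc, hE]

include hE hYE hY hc in
theorem gg : G E Y c * G E Y c = G E Y c := by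
  have h1 := yg (E := E) hY hc
  have h3 : c * c * c = 1 := by rw [mul_assoc]; exact hc
  have h5 : (5 : F) • G E Y c = 0 := by rw [five0 F, zero_smul]
  have h6 : (1 + (c * c) • Y + c • (Y * Y)) * G E Y c = (3 : F) • G E Y c := by
    rw [add_mul, add_mul, one_mul, smul_mul_assoc, smul_mul_assoc, mul_assoc Y Y, h1, mul_smul_comm, h1, smul_smul,
      smul_smul, smul_smul, h3]
    module
  calc G E Y c * G E Y c = ((2 : F) • ((1 + (c * c) • Y + c • (Y * Y)) * E)) * G E Y c := rfl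
    _ = (2 : F) • ((1 + (c * c) • Y + c • (Y * Y)) * (E * G E Y c)) := by rw [smul_mul_assoc, mul_assoc]
    _ = (2 : F) • ((3 : F) • G E Y c) := by rw [eg hE hYE, h6]
    _ = G E Y c := by linear_combination (norm := module) h5

end ring

section group

variable {P : Type*} [Group P] {π : P →* A6} {ρ : P →* End F V}

def g1 : A6 := ⟨swap (0 : Fin 6) 1 * swap (3 : Fin 6) 4, mem_alternatingGroup.2 (by decide)⟩
def g2 : A6 := ⟨swap (1 : Fin 6) 2 * swap (3 : Fin 6) 4, mem_alternatingGroup.2 (by decide)⟩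
/-- `(2 3 4)` -/
def m1 : A6 := ⟨swap (2 : Fin 6) 3 * swap (3 : Fin 6) 4, mem_alternatingGroup.2 (by decide)⟩
/-- `(0 1 2 3 4)` -/
def m2 : A6 := ⟨swap (0 : Fin 6) 1 * swap (1 : Fin 6) 2 * swap (2 : Fin 6) 3 * swap (3 : Fin 6) 4, mem_alternatingGroup.2 (by decide)⟩

/-- the elements of `K` needed -/
structure KE (π : P →* A6) (t1 t2 t3 ys u1 u2 h1 h2 : P) : Prop where
  mt1 : t1 ∈ K π
  mt2 : t2 ∈ K π
  mt3 : t3 ∈ K π
  mys : ys ∈ K π
  q : π ys = c1
  yyy : ys * (ys * ys) = 1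
  y1 : ys * t1 = t3 * ys
  y3 : ys * t3 = t2 * ys
  y2 : ys * t2 = t1 * ys
  mu1 : u1 ∈ K π
  mu2 : u2 ∈ K π
  uu : u1 * u2 = ys
  mh1 : h1 ∈ K π
  mh2 : h2 ∈ K π
  hu1 : h1 * t1 = u1 * h1
  hu2 : h2 * t1 = u2 * h2

theorem exists_ke (h : Ext π) {t1 t2 t3 s y : P} (d : Elt π t1 t2 t3 s y) :
    ∃ ys u1 u2 h1 h2, KE π t1 t2 t3 ys u1 u2 h1 h2 := by
  obtain ⟨u1, hu1, iu1⟩ := h.exists_sq (g := g1) (by decide)
  obtain ⟨u2, hu2, iu2⟩ := h.exists_sq (g := g2) (by decide)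
  obtain ⟨h1, mh1, hh1⟩ := exists_K h (g := m1) (by decide)
  obtain ⟨h2, mh2, hh2⟩ := exists_K h (g := m2) (by decide)
  have mu1 : u1 ∈ K π := mem_K iu1 (by rw [hu1]; decide)
  have mu2 : u2 ∈ K π := mem_K iu2 (by rw [hu2]; decide)
  have mys : u1 * u2 ∈ K π := mul_mem mu1 mu2
  have q : π (u1 * u2) = c1 := by rw [map_mul, hu1, hu2]; decide
  refine ⟨u1 * u2, u1, u2, h1, h2, mem_K d.i1 (by rw [d.q1]; decide), mem_K d.i2 (by rw [d.q2]; decide),
    mem_K d.i3 (by rw [d.q3]; decide), mys, q, ?_, ?_, ?_, ?_, mu1, mu2, rfl, mh1, mh2, ?_, ?_⟩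
  · apply K_ker h (mul_mem mys (mul_mem mys mys))
    rw [map_mul _ (u1 * u2) (u1 * u2 * (u1 * u2)), map_mul _ (u1 * u2) (u1 * u2), q]
    decide
  · exact h.conj_sq d.i1 d.i3 (by rw [q, d.q1, d.q3]; decide)
  · exact h.conj_sq d.i3 d.i2 (by rw [q, d.q3, d.q2]; decide)
  · exact h.conj_sq d.i2 d.i1 (by rw [q, d.q2, d.q1]; decide)
  · exact h.conj_sq d.i1 iu1 (by rw [hh1, d.q1, hu1]; decide)
  · exact h.conj_sq d.i1 iu2 (by rw [hh2, d.q1, hu2]; decide)

/-- the elements of `K` fixing `4` -/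
theorem KE.four (h : Ext π) {t1 t2 t3 s y ys u1 u2 h1 h2 : P} (d : Elt π t1 t2 t3 s y)
    (e : KE π t1 t2 t3 ys u1 u2 h1 h2) {x : P} (hx : x ∈ K π) (h4 : (π x : Perm (Fin 6)) 4 = 4) :
    ∃ i : ℕ, i < 3 ∧ ∃ t : P, (t = 1 ∨ t = t1 ∨ t = t2 ∨ t = t3) ∧ x = t * ys ^ i := by
  obtain ⟨i, hi⟩ := dec_four (π x) (K_le_Q hx) h4 (mem_alternatingGroup.1 (π x).2)
  refine ⟨i, i.2, ?_⟩
  have hyi : ys ^ (i : ℕ) ∈ K π := pow_mem e.mys _
  have key : ∀ t : P, t ∈ K π → ∀ a : A6, π t = a → (π x : Perm (Fin 6)) = (a : Perm (Fin 6)) * p1 ^ (i : ℕ) →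
      x = t * ys ^ (i : ℕ) := by
    intro t ht a hta hxa
    apply K_inj h hx (mul_mem ht hyi)
    rw [map_mul, map_pow, hta, e.q]
    exact Subtype.ext hxa
  rcases hi with hi | hi | hi | hi
  · exact ⟨1, Or.inl rfl, key 1 (one_mem _) 1 (map_one π) (by rw [hi]; simp)⟩
  · exact ⟨t1, Or.inr (Or.inl rfl), key t1 e.mt1 a1 d.q1 hi⟩
  · exact ⟨t2, Or.inr (Or.inr (Or.inl rfl)), key t2 e.mt2 a2 d.q2 hi⟩
  · exact ⟨t3, Or.inr (Or.inr (Or.inr rfl)), key t3 e.mt3 a3 d.q3 hi⟩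

end group

section main

variable {P : Type*} [Group P] {π : P →* A6} {ρ : P →* End F V} (h : Rep π ρ) {t1 t2 t3 s y ys u1 u2 h1 h2 : P}
  (d : Elt π t1 t2 t3 s y) (e : KE π t1 t2 t3 ys u1 u2 h1 h2)
include h d e

omit [CharP F 5] [FiniteDimensional F V] d in
/-- a primitive cube root of unity -/
theorem exists_omega : ∃ w : F, w * (w * w) = 1 ∧ w ≠ 1 := by
  obtain ⟨z, hz, hz1⟩ := h.ex
  have key : ∃ z, π z = 1 ∧ z ≠ 1 ∧ z ^ 3 = 1 := by
    by_cases h3 : z ^ 3 = 1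
    · exact ⟨z, hz, hz1, h3⟩
    · refine ⟨z ^ 3, by rw [map_pow, hz, one_pow], h3, ?_⟩
      rw [← pow_mul]
      exact h.nine z hz
  obtain ⟨z, hz, hz1, hz3⟩ := key
  obtain ⟨c, hc⟩ := h.sc z hz
  have hV : Nontrivial V := by
    apply Module.nontrivial_of_finrank_pos (R := F)
    rw [h.dim]; norm_num
  have h1 : (c * (c * c)) • (1 : End F V) = (1 : F) • (1 : End F V) := by
    have h2 : ρ (z ^ 3) = (c * (c * c)) • (1 : End F V) := by
      rw [pow_succ, pow_two, map_mul, map_mul, hc, smul_mul_smul_comm, smul_mul_smul_comm, one_mul, one_mul, mul_assoc]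
    rw [← h2, hz3, map_one, one_smul]
  refine ⟨c, smul_left_injective F (one_ne_zero (α := End F V)) h1, ?_⟩
  rintro rfl
  apply hz1
  apply h.inj
  rw [hc, one_smul, map_one]

omit [CharP F 5] [FiniteDimensional F V] in
theorem exists_zeta : ∃ c : F, ρ ys = c • ρ y := by
  have h1 : π (ys * y⁻¹) = 1 := by rw [map_mul, map_inv, e.q, d.qy, mul_inv_cancel]
  obtain ⟨c, hc⟩ := h.sc _ h1
  refine ⟨c, ?_⟩
  calc ρ ys = ρ (ys * y⁻¹ * y) := by rw [inv_mul_cancel_right]
    _ = c • ρ y := by rw [map_mul, hc, smul_mul_assoc, one_mul]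

/-- the ranks of the projections -/
theorem rk_G (hr0 : rk (E0 (ρ t1) (ρ t2) (ρ t3)) = 3) {c : F} (hc : c * (c * c) = 1) :
    rk (G (E0 (ρ t1) (ρ t2) (ρ t3)) (ρ ys) c) = 1 := by
  have g := gen (ρ := ρ) d
  obtain ⟨z, hz⟩ := exists_zeta h d e
  have hY : ρ ys * (ρ ys * ρ ys) = 1 := by rw [← map_mul, ← map_mul, e.yyy, map_one]
  have hYE : ρ ys * E0 (ρ t1) (ρ t2) (ρ t3) = E0 (ρ t1) (ρ t2) (ρ t3) * ρ ys := by
    rw [hz, smul_mul_assoc, mul_smul_comm, g.ye0]
  have k1 := trace_idem (gg g.e00 hYE hY hc)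
  have e1 : ρ y * E0 (ρ t1) (ρ t2) (ρ t3) = -(ρ y + ρ (y * t1) + ρ (y * t2) + ρ (y * t3)) := by
    unfold E0
    rw [mul_neg, mul_add, mul_add, mul_add, mul_one, map_mul, map_mul, map_mul]
  have e2 : ρ y * ρ y * E0 (ρ t1) (ρ t2) (ρ t3) =
      -(ρ (y * y) + ρ (y * y * t1) + ρ (y * y * t2) + ρ (y * y * t3)) := by
    unfold E0
    rw [mul_neg, mul_add, mul_add, mul_add, mul_one, map_mul _ (y * y), map_mul _ (y * y), map_mul _ (y * y), map_mul]
  have k2 : LinearMap.trace F V (ρ y * E0 (ρ t1) (ρ t2) (ρ t3)) = 0 := by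
    rw [e1, map_neg, map_add, map_add, map_add, try0 h d, tryt1 h d, tryt2 h d, tryt3 h d]; ring
  have k3 : LinearMap.trace F V (ρ y * ρ y * E0 (ρ t1) (ρ t2) (ρ t3)) = 0 := by
    rw [e2, map_neg, map_add, map_add, map_add, tryy h d, tryyt1 h d, tryyt2 h d, tryyt3 h d]; ring
  have k4 : LinearMap.trace F V (G (E0 (ρ t1) (ρ t2) (ρ t3)) (ρ ys) c) =
      2 * LinearMap.trace F V (E0 (ρ t1) (ρ t2) (ρ t3)) := by
    unfold G
    rw [hz, map_smul, smul_eq_mul, add_mul, add_mul, one_mul, map_add, map_add, smul_mul_smul_comm, smul_smul,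
      smul_smul, smul_mul_assoc, smul_mul_assoc, map_smul, map_smul, k2, k3, smul_zero, smul_zero, add_zero, add_zero]
  rw [k4, trace_idem g.e00, hr0] at k1
  have k5 := cast_mod (F := F) (a := 6) (b := rk (G (E0 (ρ t1) (ρ t2) (ρ t3)) (ρ ys) c)) (by
    rw [← k1]; push_cast; ring)
  have k6 : rk (G (E0 (ρ t1) (ρ t2) (ρ t3)) (ρ ys) c) ≤ 3 := by
    rw [← hr0, ← ge (E := E0 (ρ t1) (ρ t2) (ρ t3)) (Y := ρ ys) g.e00 c]
    exact rk_mul_le_right _ _
  omega

end main

end Cfsg.Agent.H793.TA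
end
end

-- part: H956/K1/Dec
section
set_option linter.all false
open scoped Cfsg.Agent.FastGrp

/-!
# Conjugacy classes of `A₆` (helper956)
-/

set_option autoImplicit false
set_option maxRecDepth 20000
set_option exponentiation.threshold 300000

namespace Cfsg.Agent.H956.K1.Dec

open Equiv

/-- the involution -/
def pa : Perm (Fin 6) := ⟨![5, 1, 3, 2, 4, 0], ![5, 1, 3, 2, 4, 0], by decide, by decide⟩

/-- the element of order four -/
def pb : Perm (Fin 6) := ⟨![1, 0, 3, 4, 5, 2], ![1, 0, 5, 2, 3, 4], by decide, by decide⟩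

/-- the element of order five -/
def pu : Perm (Fin 6) := pa * pb ^ 2

/-- the three-cycle -/
def px : Perm (Fin 6) := ⟨![1, 2, 0, 3, 4, 5], ![2, 0, 1, 3, 4, 5], by decide, by decide⟩

/-- the other element of order three -/
def pw : Perm (Fin 6) := ⟨![1, 2, 0, 4, 5, 3], ![2, 0, 1, 5, 3, 4], by decide, by decide⟩

/-! ### codes of permutations -/

private def frc (n : ℕ) (f : ℕ → Bool) : Bool := Nat.rec (f 0) (fun k _ => f (Nat.succ k)) n

private theorem frc_eq (n : ℕ) (f : ℕ → Bool) : frc n f = f n := by cases n <;> rfl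

private def ap (c i : ℕ) : ℕ := Nat.mod (Nat.div c (Nat.pow 8 i)) 8

private def pk (a b c d e f : ℕ) : ℕ :=
  Nat.add a (Nat.mul 8 (Nat.add b (Nat.mul 8 (Nat.add c (Nat.mul 8 (Nat.add d (Nat.mul 8 (Nat.add e (Nat.mul 8 f)))))))))

private def code (σ : Perm (Fin 6)) : ℕ := pk (σ 0) (σ 1) (σ 2) (σ 3) (σ 4) (σ 5)

private theorem ap_code (σ : Perm (Fin 6)) (i : Fin 6) : ap (code σ) i = σ i := by
  have h0 := (σ 0).2
  have h1 := (σ 1).2
  have h2 := (σ 2).2
  have h3 := (σ 3).2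
  have h4 := (σ 4).2
  have h5 := (σ 5).2
  have e : code σ = σ 0 + 8 * (σ 1 + 8 * (σ 2 + 8 * (σ 3 + 8 * (σ 4 + 8 * σ 5)))) := rfl
  match i with
  | 0 => show code σ / 1 % 8 = σ 0; omega
  | 1 => show code σ / 8 % 8 = σ 1; omega
  | 2 => show code σ / 64 % 8 = σ 2; omega
  | 3 => show code σ / 512 % 8 = σ 3; omega
  | 4 => show code σ / 4096 % 8 = σ 4; omega
  | 5 => show code σ / 32768 % 8 = σ 5; omega

private theorem code_inj {σ τ : Perm (Fin 6)} (h : code σ = code τ) : σ = τ :=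
  Equiv.ext fun i => Fin.ext (by rw [← ap_code, h, ap_code])

private def mc (a b : ℕ) : ℕ :=
  pk (ap a (ap b 0)) (ap a (ap b 1)) (ap a (ap b 2)) (ap a (ap b 3)) (ap a (ap b 4)) (ap a (ap b 5))

private theorem code_mul (σ τ : Perm (Fin 6)) : code (σ * τ) = mc (code σ) (code τ) := by
  have h : ∀ i : Fin 6, ap (code σ) (ap (code τ) i) = (σ * τ) i := fun i => by rw [ap_code, ap_code]; rfl
  exact (congrArg₂ Nat.add (h 0) (congrArg _ (congrArg₂ Nat.add (h 1) (congrArg _ (congrArg₂ Nat.add (h 2) (congrArg _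
    (congrArg₂ Nat.add (h 3) (congrArg _ (congrArg₂ Nat.add (h 4) (congrArg _ (h 5))))))))))).symm

private def un (b : Bool) : ℤˣ := cond b 1 (-1)

private theorem un_mul : ∀ a b : Bool, un a * un b = un (a == b) := by decide

private theorem un_one : ∀ a : Bool, un a = 1 ↔ a = true := by decide

private theorem un_ite (a b : Fin 6) : (if a < b then 1 else -1 : ℤˣ) = un (Nat.blt a b) := by
  revert a b
  decide

private def ev6 (a b c d e f : ℕ) : Bool :=
  ((((Nat.blt a b == (Nat.blt a c == Nat.blt b c)) == (Nat.blt a d == (Nat.blt b d == Nat.blt c d))) ==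
    (Nat.blt a e == (Nat.blt b e == (Nat.blt c e == Nat.blt d e)))) ==
    (Nat.blt a f == (Nat.blt b f == (Nat.blt c f == (Nat.blt d f == Nat.blt e f)))))

private def ev (c : ℕ) : Bool := ev6 (ap c 0) (ap c 1) (ap c 2) (ap c 3) (ap c 4) (ap c 5)

private theorem sign_code (σ : Perm (Fin 6)) : Perm.sign σ = 1 ↔ ev (code σ) = true := by
  have e : ev (code σ) = ev6 (σ 0) (σ 1) (σ 2) (σ 3) (σ 4) (σ 5) := by
    rw [← ap_code, ← ap_code, ← ap_code σ 2, ← ap_code σ 3, ← ap_code σ 4, ← ap_code σ 5]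
    rfl
  rw [e, ← un_one, Perm.sign_eq_prod_prod_Iio, Fin.prod_univ_six,
    show Finset.Iio (0 : Fin 6) = ∅ by decide, show Finset.Iio (1 : Fin 6) = {0} by decide,
    show Finset.Iio (2 : Fin 6) = {0, 1} by decide, show Finset.Iio (3 : Fin 6) = {0, 1, 2} by decide,
    show Finset.Iio (4 : Fin 6) = {0, 1, 2, 3} by decide, show Finset.Iio (5 : Fin 6) = {0, 1, 2, 3, 4} by decide,
    Finset.prod_empty, one_mul]
  simp (disch := decide) only [Finset.prod_insert, Finset.prod_singleton, un_ite, un_mul]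
  rfl

private def al (f : ℕ → Bool) : Bool := f 0 && f 1 && f 2 && f 3 && f 4 && f 5

private theorem al_spec {f : ℕ → Bool} (h : al f = true) (i : Fin 6) : f i = true := by
  simp only [al, Bool.and_eq_true] at h
  match i with
  | 0 => exact h.1.1.1.1.1
  | 1 => exact h.1.1.1.1.2
  | 2 => exact h.1.1.1.2
  | 3 => exact h.1.1.2
  | 4 => exact h.1.2
  | 5 => exact h.2

private def allP (P : ℕ → Bool) : Bool :=
  al fun a => al fun b => Nat.beq a b || al fun c => Nat.beq a c || Nat.beq b c || al fun d =>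
    Nat.beq a d || Nat.beq b d || Nat.beq c d || al fun e => Nat.beq a e || Nat.beq b e || Nat.beq c e || Nat.beq d e ||
      al fun f => Nat.beq a f || Nat.beq b f || Nat.beq c f || Nat.beq d f || Nat.beq e f || frc (pk a b c d e f) P

private theorem allP_spec {P : ℕ → Bool} (h : allP P = true) (σ : Perm (Fin 6)) : P (code σ) = true := by
  have n : ∀ i j : Fin 6, i ≠ j → Nat.beq (σ i) (σ j) = false := fun i j hij => by
    rw [Bool.eq_false_iff]
    exact fun e => hij (σ.injective (Fin.ext (Nat.eq_of_beq_eq_true e)))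
  have h1 := al_spec (al_spec h (σ 0)) (σ 1)
  rw [n 0 1 (by decide), Bool.false_or] at h1
  have h2 := al_spec h1 (σ 2)
  rw [n 0 2 (by decide), n 1 2 (by decide), Bool.false_or, Bool.false_or] at h2
  have h3 := al_spec h2 (σ 3)
  rw [n 0 3 (by decide), n 1 3 (by decide), n 2 3 (by decide), Bool.false_or, Bool.false_or, Bool.false_or] at h3
  have h4 := al_spec h3 (σ 4)
  rw [n 0 4 (by decide), n 1 4 (by decide), n 2 4 (by decide), n 3 4 (by decide), Bool.false_or, Bool.false_or,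
    Bool.false_or, Bool.false_or] at h4
  have h5 := al_spec h4 (σ 5)
  rw [n 0 5 (by decide), n 1 5 (by decide), n 2 5 (by decide), n 3 5 (by decide), n 4 5 (by decide), Bool.false_or,
    Bool.false_or, Bool.false_or, Bool.false_or, Bool.false_or, frc_eq] at h5
  exact h5

private def ok (c : ℕ) : Bool :=
  Nat.beq (mc c 181896) c && (al fun i => Nat.blt (ap c i) 6) &&
    al fun i => al fun j => Nat.beq i j || !Nat.beq (ap c i) (ap c j)

private theorem exists_code {c : ℕ} (h : ok c = true) : ∃ σ : Perm (Fin 6), code σ = c := by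
  simp only [ok, Bool.and_eq_true] at h
  obtain ⟨⟨h1, h2⟩, h3⟩ := h
  refine ⟨Equiv.ofBijective (fun i : Fin 6 => (⟨ap c i, Nat.blt_eq.mp (al_spec h2 i)⟩ : Fin 6))
    (Finite.injective_iff_bijective.1 fun i j e => ?_), Nat.eq_of_beq_eq_true h1⟩
  have h4 := al_spec (al_spec h3 i) j
  rw [show ap c i = ap c j from congrArg Fin.val e, Nat.beq_refl, Bool.not_true, Bool.or_false] at h4
  exact Fin.ext (Nat.eq_of_beq_eq_true h4)

private theorem one_iff (σ : Perm (Fin 6)) : σ = 1 ↔ Nat.beq (code σ) 181896 = true :=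
  ⟨fun h => h ▸ rfl, fun h => code_inj ((Nat.eq_of_beq_eq_true h).trans rfl)⟩

private def p2 (c : ℕ) : Bool := Nat.beq (mc c c) 181896
private def p3 (c : ℕ) : Bool := frc (mc c c) fun d => Nat.beq (mc d c) 181896
private def p4 (c : ℕ) : Bool := frc (mc c c) fun d => Nat.beq (mc d d) 181896
private def p5 (c : ℕ) : Bool := frc (mc c c) fun d => frc (mc d d) fun e => Nat.beq (mc e c) 181896

private theorem p2_iff (σ : Perm (Fin 6)) : σ ^ 2 = 1 ↔ p2 (code σ) = true := by rw [one_iff, pow_two, code_mul, p2]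

private theorem p3_iff (σ : Perm (Fin 6)) : σ ^ 3 = 1 ↔ p3 (code σ) = true := by
  rw [one_iff, pow_three', code_mul, code_mul, p3, frc_eq]

private theorem p4_iff (σ : Perm (Fin 6)) : σ ^ 4 = 1 ↔ p4 (code σ) = true := by
  rw [one_iff, show 4 = 2 + 2 from rfl, pow_add, pow_two, code_mul, code_mul, p4, frc_eq]

private theorem p5_iff (σ : Perm (Fin 6)) : σ ^ 5 = 1 ↔ p5 (code σ) = true := by
  rw [one_iff, pow_succ, show 4 = 2 + 2 from rfl, pow_add, pow_two, code_mul, code_mul, code_mul, p5, frc_eq, frc_eq]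

/-! ### lists of conjugating elements -/

private def fs (T k : ℕ) : ℕ := Nat.mod (Nat.shiftRight T (Nat.mul 36 k)) 262144

private def sn (T k : ℕ) : ℕ := Nat.mod (Nat.shiftRight T (Nat.add (Nat.mul 36 k) 18)) 262144

private def msk (T n : ℕ) : ℕ := Nat.rec 0 (fun k ih => Nat.lor ih (Nat.pow 2 (fs T k))) n

private theorem msk_spec {T c : ℕ} : ∀ {n : ℕ}, (msk T n).testBit c = true → ∃ k < n, fs T k = c
  | 0, h => absurd ((Nat.zero_testBit c).symm.trans h) Bool.false_ne_true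
  | n + 1, h => by
    have h1 : (msk T n ||| 2 ^ fs T n).testBit c = true := h
    rw [Nat.testBit_or, Bool.or_eq_true, Nat.testBit_two_pow, decide_eq_true_eq] at h1
    rcases h1 with h1 | h1
    · obtain ⟨k, hk, e⟩ := msk_spec h1
      exact ⟨k, Nat.lt_succ_of_lt hk, e⟩
    · exact ⟨n, Nat.lt_succ_self n, h1⟩

private def lp (f : ℕ → Bool) (n : ℕ) : Bool := Nat.rec true (fun k ih => f k && ih) n

private theorem lp_spec {f : ℕ → Bool} : ∀ {n : ℕ}, lp f n = true → ∀ k < n, f k = true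
  | 0, _, _, hk => absurd hk (Nat.not_lt_zero _)
  | n + 1, h, k, hk => by
    have h1 : (f n && lp f n) = true := h
    rw [Bool.and_eq_true] at h1
    rcases Nat.lt_succ_iff_lt_or_eq.1 hk with h2 | rfl
    · exact lp_spec h1.2 k h2
    · exact h1.1

/-- `T` lists the codes which satisfy `P`, in increasing order, with even elements which conjugate them to `a` or `b` -/
private def chk (P : ℕ → Bool) (a b T n : ℕ) : Bool :=
  (frc (msk T n) fun m => allP fun c => !P c || m.testBit c) &&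
    lp (fun k => frc (fs T k) fun s => frc (sn T k) fun t => ok s && P s && ok t && ev t &&
      (Nat.beq (mc t s) (mc a t) || Nat.beq (mc t s) (mc b t)) && (Nat.blt s (fs T (k + 1)) || Nat.beq (k + 1) n)) n

private theorem chk_conj {P : ℕ → Bool} {a b : Perm (Fin 6)} {x y T n : ℕ} (h : chk P x y T n = true)
    (hx : code a = x) (hy : code b = y) {σ : Perm (Fin 6)} (hσ : P (code σ) = true) : ∃ τ : Perm (Fin 6),
    (τ (σ 0) = a (τ 0) ∧ τ (σ 1) = a (τ 1) ∧ Perm.sign τ = 1 ∧ τ * σ = a * τ) ∨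
    (τ (σ 0) = b (τ 0) ∧ τ (σ 1) = b (τ 1) ∧ Perm.sign τ = 1 ∧ τ * σ = b * τ) := by
  rw [chk, Bool.and_eq_true, frc_eq] at h
  have h1 := allP_spec h.1 σ
  rw [hσ, Bool.not_true, Bool.false_or] at h1
  obtain ⟨k, hk, e⟩ := msk_spec h1
  have h2 := lp_spec h.2 k hk
  simp only [frc_eq, Bool.and_eq_true, Bool.or_eq_true] at h2
  obtain ⟨⟨⟨⟨-, h3⟩, h4⟩, h5⟩, -⟩ := h2
  obtain ⟨τ, ht⟩ := exists_code h3
  rw [e, ← ht, ← hx, ← hy, ← code_mul, ← code_mul, ← code_mul] at h5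
  rw [← ht, ← sign_code] at h4
  refine ⟨τ, h5.imp (fun h6 => ?_) fun h6 => ?_⟩ <;>
  · have h7 := code_inj (Nat.eq_of_beq_eq_true h6)
    exact ⟨DFunLike.congr_fun h7 0, DFunLike.congr_fun h7 1, h4, h7⟩

private theorem chk_card {P : ℕ → Bool} {x y T n : ℕ} (h : chk P x y T n = true) {Q : Perm (Fin 6) → Prop}
    [DecidablePred Q] (hQ : ∀ σ, Q σ ↔ P (code σ) = true) : (Finset.univ.filter Q).card = n := by
  rw [chk, Bool.and_eq_true, frc_eq] at h
  have h2 := lp_spec h.2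
  simp only [frc_eq, Bool.and_eq_true, Bool.or_eq_true] at h2
  have h3 : StrictMonoOn (fs T) (Set.Iio n) := by
    have h4 : ∀ d k, k + d + 1 < n → fs T k < fs T (k + d + 1) := fun d k => by
      induction d with
      | zero => exact fun hk => Nat.blt_eq.mp ((h2 k (by omega)).2.resolve_right fun e =>
          absurd (Nat.eq_of_beq_eq_true e) (by omega))
      | succ d ih => exact fun hk => (ih (by omega)).trans (Nat.blt_eq.mp ((h2 (k + d + 1) (by omega)).2.resolve_right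
          fun e => absurd (Nat.eq_of_beq_eq_true e) (by omega)))
    intro i _ j hj hij
    obtain ⟨d, rfl⟩ := Nat.exists_eq_add_of_lt hij
    exact h4 d i hj
  rw [← Finset.card_image_of_injective _ fun _ _ => code_inj, ← Finset.card_range n,
    ← Finset.card_image_of_injOn (s := Finset.range n) (f := fs T) (by rw [Finset.coe_range]; exact h3.injOn)]
  refine congrArg _ (Finset.ext fun c => ?_)
  simp only [Finset.mem_image, Finset.mem_filter, Finset.mem_univ, true_and, Finset.mem_range, hQ]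
  constructor
  · rintro ⟨σ, hσ, rfl⟩
    have h1 := allP_spec h.1 σ
    rw [hσ, Bool.not_true, Bool.false_or] at h1
    exact msk_spec h1
  · rintro ⟨k, hk, rfl⟩
    obtain ⟨σ, e⟩ := exists_code (h2 k hk).1.1.1.1.1
    exact ⟨σ, e ▸ (h2 k hk).1.1.1.1.2, e⟩

private theorem chk2 : chk (fun c => p2 c && !Nat.beq c 181896 && ev c) 17613 17613
    0x85aa2c4c131d42c21a86b42c0538d1a2b8818d506b85089d22b80a2e2a2a7018ab06a3188ea22a10b8cd42962295a0694e02ec4290a33634286549532284cc95942829c6a1a256816a50656504e522560a6a88654c84ec0652986ac22508b519a1ca8151d05ca5071521ca0a55885ab08754059aa055c218a8c70aa1474172a05435852b21414bad085394856305176076221074c66540c62ab1304c4e872940c0aba9c04b8a8ae204a72874c4086acb0b404655b1a2044cda5c40429dad420388daa320270dae14016a5 45 = true := by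
  decide +kernel

private theorem chk3 : chk (fun c => p3 c && !Nat.beq c 181896) 181777 120849
    0x95942c642b1a22c611b0a0ec45894a62c40b9510ec2d0b0b42c283b1162c0ca95322c099850aeb508a540eb2a085562b08ca888ea8c886a0ea660a6262a60c88d0e9898aa10e971086b429684a8c62888b8a962870aaa32286a12858e3a88959423a422858e3a112a0ae27482a0ae23439532221592ac0e16a894a62142b2ac0e10ea2a562068d2a562045d9510e02d5444add888444add842b1a21d8113508dc5483150dc2a835461c08d3150da22c86a0da06586b4195443546191153508d85618a961832a4688d5708b0b4153034688d5119508ad4ac83620d466832a61460d32a61322585561306c508ad1ac488d0d181daa3210ae13620d086b4650cd6a04650cd423b1160d0e254c0cca985290cc75036340c685850acb5055290cb154a6260aa1c36340a8c554c0c8b1aa8c60895346c60568cb0a0c545c46c6052d450d604a8b56160474a52b2046a952b203529a540c336250d602a63a888c28e9aa10c1b1356160195a 80 = true := by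
  decide +kernel

private theorem chk4 : chk (fun c => p4 c && !p2 c && ev c) 88257 88257
    0x5caa54430656a5419223aa52c221d8a521322c6a50d106b8a505a95322354172942322a7282a3055aa3222ac170d0a221d94a62206b959421a1a701aa14c5a8c6211539582a0a539416a04e994b0a035a8ea21d501b1161d2228e909d0542c4a9aa4430569aa2176221a941660a9a30586869a12910ba99b020cd899a148a961982a62529942582b29916214c698b11343898a6276109885566541846c86b418354b1a2158c18c529521c8cd41506352b213b0160ca9384580d6938290e1a9334412969316185d091a23318a919432e889115c74c41112b66c0910e5a62610a5c36069095915989036374429031d8556102ec56160d81a8c8a8d4c4b0b40d113ae140ba22843a8b94264588b8152e508b42c32b08b12a819a8ab0311d28a82b50d60a16362988a11d0ec28a0ec46c608ad41632888eaa5c40855c35c08852b7488884e5b19085853b086854e1b0328531aae0283a54a44683951a0b88386a32a603465354603315a21682b1931d40285dacc08235ca5888232b2ec4022e5a63081ae23634018d5a1c2815632a560151dac18814ec 90 = true := by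
  decide +kernel

private theorem chk5 : chk (fun c => p5 c && !Nat.beq c 181896 && ev c) 78093 133834
    0x35462b4442ec42b4212a562b30229ca2b21436342b11131d42b0622d582a843313a2a8192ab82a2c435462a22329ca2a0e135a82a05c35a8298c22ab82981332a62950336342941c2e2a2911a2a56290d42e2a288d132a62885a31d428519313a284632ec4283132d58282e24ec063468aa322340d51d0633504e982328576222314a519a230a9754062a5852b222a0ba8c62264574c422629a9c0622e84e52220cd8d5061ad0751821a8350d6217424cca21615b13061558a9982109db1a220aca8d1a20a99b0b4207518cd42066a8ea22054bb116202ab56305d4606ac21d40cae205d31056161d28489d21d10aae141d0a145d81c445463a1c42966a81c342a5381c21585aa1c151a6261c06ab1305a86855c21a80d95a05a360aa321a14c72a059950b1161988551d0595289594190ac4e521894a7294188a9ad421850d519a182a58ab055858ad421580b68d81564488ba156216a50552e055c2150cc46c614a43a5c414a19a626142c586b41422b6654140e9463a1405da9c053a60953213a0c563053328b1a21310d4ec051b18ae20518e854b811705a8c61162c715210b0b52b2108cd4cca10729aca81066595a04d8d08a960d883aca80d70254b80d61472a04d5186a1a0d09c85560cac2654a0ca13a5380c54346c60c41d45d80c15aa5c40c0d56a504bb10a9980ba8475404b56056160b0a58ab04aae08d504a95894a60a744b0b40a6254e9808aa3ae140889d70aa0876250d6087157152058ca95940589970aa0571194a60566295320550b7294052a386b404ad1665404a5a654a0455966a80446b85560435385aa042ea8ea203b0a6a1a03aa189d20354c7518032ac762202acc6ac20294b8cd40276188ba0266c8a9601a9c8d1a018ab74c40175468d80172a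 144 = true := by
  decide +kernel

private theorem chk0 : allP (fun c => (p4 c || p3 c || p5 c || !ev c) && (!p5 c || ev c)) = true := by decide +kernel

theorem ord_dec : ∀ σ : Perm (Fin 6), ¬ σ ^ 4 = 1 → ¬ σ ^ 3 = 1 → ¬ σ ^ 5 = 1 → ¬ Perm.sign σ = 1 := by
  intro σ h4 h3 h5 hs
  have h := allP_spec chk0 σ
  rw [p4_iff] at h4
  rw [p3_iff] at h3
  rw [p5_iff] at h5
  rw [sign_code] at hs
  simp only [h4, h3, h5, hs, Bool.or_self, Bool.not_true, Bool.false_and, Bool.false_eq_true] at h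

private theorem q2 (σ : Perm (Fin 6)) : (σ ^ 2 = 1 ∧ ¬ σ = 1) ∧ Perm.sign σ = 1 ↔
    (p2 (code σ) && !Nat.beq (code σ) 181896 && ev (code σ)) = true := by
  rw [p2_iff, one_iff, sign_code, Bool.and_eq_true, Bool.and_eq_true, Bool.not_eq_true', Bool.not_eq_true]

private theorem q4 (σ : Perm (Fin 6)) : (σ ^ 4 = 1 ∧ ¬ σ ^ 2 = 1) ∧ Perm.sign σ = 1 ↔
    (p4 (code σ) && !p2 (code σ) && ev (code σ)) = true := by
  rw [p4_iff, p2_iff, sign_code, Bool.and_eq_true, Bool.and_eq_true, Bool.not_eq_true', Bool.not_eq_true]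

private theorem q5 (σ : Perm (Fin 6)) : (σ ^ 5 = 1 ∧ ¬ σ = 1) ∧ Perm.sign σ = 1 ↔
    (p5 (code σ) && !Nat.beq (code σ) 181896 && ev (code σ)) = true := by
  rw [p5_iff, one_iff, sign_code, Bool.and_eq_true, Bool.and_eq_true, Bool.not_eq_true', Bool.not_eq_true]

theorem two_dec : ∀ σ : Perm (Fin 6), σ ^ 2 = 1 → ¬ σ = 1 → Perm.sign σ = 1 → ∃ τ : Perm (Fin 6),
    τ (σ 0) = pa (τ 0) ∧ τ (σ 1) = pa (τ 1) ∧ Perm.sign τ = 1 ∧ τ * σ = pa * τ := fun σ h1 h2 h3 =>
  (chk_conj (a := pa) (b := pa) chk2 (by decide +kernel) (by decide +kernel) ((q2 σ).1 ⟨⟨h1, h2⟩, h3⟩)).imp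
    fun _ h => h.elim id id

theorem four_dec : ∀ σ : Perm (Fin 6), σ ^ 4 = 1 → ¬ σ ^ 2 = 1 → Perm.sign σ = 1 → ∃ τ : Perm (Fin 6),
    τ (σ 0) = pb (τ 0) ∧ τ (σ 1) = pb (τ 1) ∧ Perm.sign τ = 1 ∧ τ * σ = pb * τ := fun σ h1 h2 h3 =>
  (chk_conj (a := pb) (b := pb) chk4 (by decide +kernel) (by decide +kernel) ((q4 σ).1 ⟨⟨h1, h2⟩, h3⟩)).imp
    fun _ h => h.elim id id

theorem five_dec : ∀ σ : Perm (Fin 6), σ ^ 5 = 1 → ¬ σ = 1 → ∃ τ : Perm (Fin 6),
    (τ (σ 0) = pu (τ 0) ∧ τ (σ 1) = pu (τ 1) ∧ Perm.sign τ = 1 ∧ τ * σ = pu * τ) ∨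
    (τ (σ 0) = (pu ^ 2) (τ 0) ∧ τ (σ 1) = (pu ^ 2) (τ 1) ∧ Perm.sign τ = 1 ∧ τ * σ = pu ^ 2 * τ) := fun σ h1 h2 => by
  have h := allP_spec chk0 σ
  rw [(p5_iff σ).1 h1, Bool.and_eq_true, Bool.not_true, Bool.false_or, ← sign_code] at h
  exact chk_conj chk5 (by decide +kernel) (by decide +kernel) ((q5 σ).1 ⟨⟨h1, h2⟩, h.2⟩)

theorem three_dec : ∀ σ : Perm (Fin 6), σ ^ 3 = 1 → ¬ σ = 1 → ∃ τ : Perm (Fin 6),
    (τ (σ 0) = px (τ 0) ∧ τ (σ 1) = px (τ 1) ∧ Perm.sign τ = 1 ∧ τ * σ = px * τ) ∨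
    (τ (σ 0) = pw (τ 0) ∧ τ (σ 1) = pw (τ 1) ∧ Perm.sign τ = 1 ∧ τ * σ = pw * τ) := fun σ h1 h2 => by
  refine chk_conj chk3 (by decide +kernel) (by decide +kernel) ?_
  rw [one_iff, Bool.not_eq_true] at h2
  rw [(p3_iff σ).1 h1, h2]
  rfl

theorem card_two : (Finset.univ.filter fun σ : Perm (Fin 6) => (σ ^ 2 = 1 ∧ ¬ σ = 1) ∧ Perm.sign σ = 1).card = 45 :=
  chk_card chk2 q2

theorem card_four : (Finset.univ.filter fun σ : Perm (Fin 6) => (σ ^ 4 = 1 ∧ ¬ σ ^ 2 = 1) ∧ Perm.sign σ = 1).card =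
    90 := chk_card chk4 q4

theorem card_five : (Finset.univ.filter fun σ : Perm (Fin 6) => (σ ^ 5 = 1 ∧ ¬ σ = 1) ∧ Perm.sign σ = 1).card =
    144 := chk_card chk5 q5

end Cfsg.Agent.H956.K1.Dec
end

-- part: H956/K1/PSide
section
prune_inst 0xfebdffeffcbddfffff7e7ffeffdffdfdbcffffffdffdcbffec69ffafdf7b8ecfe5fbaf8feb5bff1ff6e296d0fc7bd3fffffeffef6ffc7ffffdfff41ffbffdffdf7b50c51b5b8341ffe6fff83f07f8e7f000000000000000000000000000000004200000000
set_option linter.all false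
open scoped Cfsg.Agent.FastGrp

-- part: H956/K1/Model
section
/-!
# The three-dimensional representations of `3.A₆` (helper956)

`E` a field with `φ² = φ + 1`, `ω² + ω + 1 = 0`.  The matrices
`a = [[1, 1 + ωφ, -φ], [0, -1, 0], [0, 0, -1]]`, `b = ` companion matrix of `x³ - x² + x - 1`
satisfy `a² = b⁴ = (ab²)⁵ = 1`, `(ab)⁵ = ω²`; `x = b a b⁻¹ a b² a` has order three; modulo scalars `x` and `b` satisfy
the relations of the generators `(0 1 2)`, `(0 1)(2 3 4 5)` of `A₆`.  All matrix identities are checked over `ℤ[φ, ω]`.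
-/

set_option autoImplicit false

namespace Cfsg.Agent.H956.K1

open Matrix

/-- `a + b φ + c ω + d φ ω` -/
structure Q where
  a : ℤ
  b : ℤ
  c : ℤ
  d : ℤ
deriving DecidableEq

namespace Q

/-- sum -/
def add (x y : Q) : Q := ⟨x.a + y.a, x.b + y.b, x.c + y.c, x.d + y.d⟩

/-- product -/
def mul (x y : Q) : Q :=
  ⟨x.a * y.a + x.b * y.b - (x.c * y.c + x.d * y.d),
   x.a * y.b + x.b * y.a + x.b * y.b - (x.c * y.d + x.d * y.c + x.d * y.d),
   x.a * y.c + x.b * y.d + (x.c * y.a + x.d * y.b) - (x.c * y.c + x.d * y.d),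
   x.a * y.d + x.b * y.c + x.b * y.d + (x.c * y.b + x.d * y.a + x.d * y.b) - (x.c * y.d + x.d * y.c + x.d * y.d)⟩

variable {E : Type*} [CommRing E]

/-- evaluation -/
def ev (φ ω : E) (x : Q) : E := (x.a : E) + x.b * φ + (x.c + x.d * φ) * ω

theorem ev_add (φ ω : E) (x y : Q) : (add x y).ev φ ω = x.ev φ ω + y.ev φ ω := by
  simp only [ev, add, Int.cast_add]
  ring

theorem ev_mul {φ ω : E} (hφ : φ * φ = φ + 1) (hω : ω * ω = -ω - 1) (x y : Q) :
    (mul x y).ev φ ω = x.ev φ ω * y.ev φ ω := by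
  simp only [ev, mul, Int.cast_add, Int.cast_sub, Int.cast_mul]
  linear_combination (-(x.b * y.b : E) - ((x.b * y.d : E) + x.d * y.b) * ω + (x.d * y.d : E) * (ω + 1)) * hφ -
    ((x.c : E) + x.d * φ) * ((y.c : E) + y.d * φ) * hω

end Q

/-- `3 × 3` matrices over `ℤ[φ, ω]` -/
abbrev M := Fin 3 → Fin 3 → Q

/-- the matrix product -/
def mm (X Y : M) : M := fun i j => ((X i 0).mul (Y 0 j)).add (((X i 1).mul (Y 1 j)).add ((X i 2).mul (Y 2 j)))

section ev

variable {E : Type*} [CommRing E]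

/-- evaluation of matrices -/
def ev (φ ω : E) (X : M) : Matrix (Fin 3) (Fin 3) E := Matrix.of fun i j => (X i j).ev φ ω

theorem ev_apply (φ ω : E) (X : M) (i j : Fin 3) : ev φ ω X i j = (X i j).ev φ ω := rfl

theorem ev_mm {φ ω : E} (hφ : φ * φ = φ + 1) (hω : ω * ω = -ω - 1) (X Y : M) :
    ev φ ω (mm X Y) = ev φ ω X * ev φ ω Y := by
  ext i j
  rw [Matrix.mul_apply, Fin.sum_univ_three]
  simp only [ev_apply, mm, Q.ev_add, Q.ev_mul hφ hω]
  ring

end ev

/-- identity -/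
def mI : M := ![![⟨1, 0, 0, 0⟩, ⟨0, 0, 0, 0⟩, ⟨0, 0, 0, 0⟩], ![⟨0, 0, 0, 0⟩, ⟨1, 0, 0, 0⟩, ⟨0, 0, 0, 0⟩], ![⟨0, 0, 0, 0⟩, ⟨0, 0, 0, 0⟩, ⟨1, 0, 0, 0⟩]]

/-- the involution -/
def mA : M := ![![⟨1, 0, 0, 0⟩, ⟨1, 0, 0, 1⟩, ⟨0, -1, 0, 0⟩], ![⟨0, 0, 0, 0⟩, ⟨-1, 0, 0, 0⟩, ⟨0, 0, 0, 0⟩], ![⟨0, 0, 0, 0⟩, ⟨0, 0, 0, 0⟩, ⟨-1, 0, 0, 0⟩]]

/-- the element of order four -/
def mB : M := ![![⟨0, 0, 0, 0⟩, ⟨0, 0, 0, 0⟩, ⟨1, 0, 0, 0⟩], ![⟨1, 0, 0, 0⟩, ⟨0, 0, 0, 0⟩, ⟨-1, 0, 0, 0⟩], ![⟨0, 0, 0, 0⟩, ⟨1, 0, 0, 0⟩, ⟨1, 0, 0, 0⟩]]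

/-- the square of `mB` -/
def mB2 : M := ![![⟨0, 0, 0, 0⟩, ⟨1, 0, 0, 0⟩, ⟨1, 0, 0, 0⟩], ![⟨0, 0, 0, 0⟩, ⟨-1, 0, 0, 0⟩, ⟨0, 0, 0, 0⟩], ![⟨1, 0, 0, 0⟩, ⟨1, 0, 0, 0⟩, ⟨0, 0, 0, 0⟩]]

/-- the inverse of `mB` -/
def mB3 : M := ![![⟨1, 0, 0, 0⟩, ⟨1, 0, 0, 0⟩, ⟨0, 0, 0, 0⟩], ![⟨-1, 0, 0, 0⟩, ⟨0, 0, 0, 0⟩, ⟨1, 0, 0, 0⟩], ![⟨1, 0, 0, 0⟩, ⟨0, 0, 0, 0⟩, ⟨0, 0, 0, 0⟩]]

/-- the element of order three -/
def mX : M := ![![⟨0, 1, 0, 0⟩, ⟨0, 0, 1, 0⟩, ⟨0, -1, 0, 0⟩], ![⟨0, 0, 1, 0⟩, ⟨0, 0, 0, 0⟩, ⟨-1, 1, 0, 0⟩], ![⟨1, 0, 0, 0⟩, ⟨0, 0, 0, 1⟩, ⟨0, -1, 0, 0⟩]]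

/-- the inverse of `mX` -/
def mX2 : M := ![![⟨0, 0, -1, 0⟩, ⟨0, 0, -1, 0⟩, ⟨0, 0, -1, 1⟩], ![⟨-1, 1, 0, 1⟩, ⟨-1, 0, 0, 0⟩, ⟨-1, 0, 0, -1⟩], ![⟨0, -1, 0, -1⟩, ⟨0, 0, 0, -1⟩, ⟨1, 0, 1, 0⟩]]

/-- matrix -/
def c1 : M := ![![⟨0, 0, 1, 0⟩, ⟨0, 0, 0, 0⟩, ⟨0, 0, 0, 0⟩], ![⟨0, 0, 0, 0⟩, ⟨0, 0, 1, 0⟩, ⟨0, 0, 0, 0⟩], ![⟨0, 0, 0, 0⟩, ⟨0, 0, 0, 0⟩, ⟨0, 0, 1, 0⟩]]

/-- matrix -/
def c2 : M := ![![⟨-1, 0, -1, 0⟩, ⟨0, 0, 0, 0⟩, ⟨0, 0, 0, 0⟩], ![⟨0, 0, 0, 0⟩, ⟨-1, 0, -1, 0⟩, ⟨0, 0, 0, 0⟩], ![⟨0, 0, 0, 0⟩, ⟨0, 0, 0, 0⟩, ⟨-1, 0, -1, 0⟩]]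

/-- matrix -/
def wa1 : M := ![![⟨0, 0, 0, 0⟩, ⟨0, 0, 0, 0⟩, ⟨-1, 0, 0, 0⟩], ![⟨1, 0, 0, 0⟩, ⟨1, 0, 0, 1⟩, ⟨1, -1, 0, 0⟩], ![⟨0, 0, 0, 0⟩, ⟨-1, 0, 0, 0⟩, ⟨-1, 0, 0, 0⟩]]

/-- matrix -/
def wa2 : M := ![![⟨-1, 0, 0, 0⟩, ⟨0, 0, 0, 0⟩, ⟨0, 0, 0, 0⟩], ![⟨1, -1, 0, -1⟩, ⟨1, 0, 0, 0⟩, ⟨1, 0, 0, 1⟩], ![⟨0, 0, 0, 0⟩, ⟨0, 0, 0, 0⟩, ⟨-1, 0, 0, 0⟩]]

/-- matrix -/
def wa3 : M := ![![⟨-1, 0, 0, 0⟩, ⟨-1, 0, 0, -1⟩, ⟨0, 1, 0, 0⟩], ![⟨1, -1, 0, -1⟩, ⟨1, 0, 0, 0⟩, ⟨0, 0, 1, 0⟩], ![⟨0, 0, 0, 0⟩, ⟨0, 0, 0, 0⟩, ⟨1, 0, 0, 0⟩]]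

/-- matrix -/
def wa4 : M := ![![⟨0, 1, 0, 0⟩, ⟨0, 1, 0, 1⟩, ⟨-1, 0, 0, 0⟩], ![⟨0, 0, 1, 0⟩, ⟨0, -1, 1, -1⟩, ⟨1, -1, 0, -1⟩], ![⟨1, 0, 0, 0⟩, ⟨1, 0, 0, 0⟩, ⟨0, 0, 0, 0⟩]]

/-- matrix -/
def bx : M := ![![⟨1, 0, 0, 0⟩, ⟨0, 0, 0, 1⟩, ⟨0, -1, 0, 0⟩], ![⟨-1, 1, 0, 0⟩, ⟨0, 0, 1, -1⟩, ⟨0, 0, 0, 0⟩], ![⟨1, 0, 1, 0⟩, ⟨0, 0, 0, 1⟩, ⟨-1, 0, 0, 0⟩]]

/-- matrix -/
def bxx : M := ![![⟨1, -1, 1, -1⟩, ⟨1, 0, 0, 0⟩, ⟨0, 0, 0, 0⟩], ![⟨-1, 1, -2, 1⟩, ⟨-2, 1, -1, 1⟩, ⟨-1, 0, 0, 0⟩], ![⟨0, 0, 1, 0⟩, ⟨1, -1, 1, -1⟩, ⟨1, -1, 0, -1⟩]]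

/-- matrix -/
def bxy : M := ![![⟨-1, 1, 0, 0⟩, ⟨-1, 0, 0, 0⟩, ⟨-1, 0, 0, 0⟩], ![⟨1, -1, 1, -1⟩, ⟨1, 0, 1, -1⟩, ⟨1, 0, 1, 0⟩], ![⟨0, 1, -1, 1⟩, ⟨0, 0, 0, 1⟩, ⟨0, -1, 0, 0⟩]]

/-- matrix -/
def r1 : M := ![![⟨-1, 1, -1, 1⟩, ⟨-1, 0, -1, 0⟩, ⟨-1, 0, -1, 0⟩], ![⟨0, -1, 1, -1⟩, ⟨0, 0, 1, -1⟩, ⟨1, 0, 2, -1⟩], ![⟨0, 0, -1, 0⟩, ⟨0, 0, -1, 0⟩, ⟨0, 0, -1, 1⟩]]

/-- matrix -/
def r2 : M := ![![⟨-1, 0, -1, 0⟩, ⟨-1, 0, -1, 0⟩, ⟨-1, 1, -1, 1⟩], ![⟨0, 0, 1, -1⟩, ⟨1, 0, 2, -1⟩, ⟨1, -1, 2, -1⟩], ![⟨0, 0, -1, 0⟩, ⟨0, 0, -1, 1⟩, ⟨0, 0, -1, 1⟩]]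

/-- matrix -/
def r3 : M := ![![⟨-1, 0, -1, 1⟩, ⟨-2, 0, -2, 0⟩, ⟨-1, 1, -1, 0⟩], ![⟨1, 0, 1, -1⟩, ⟨1, 0, 2, -1⟩, ⟨1, -1, 2, -1⟩], ![⟨0, 0, 0, 1⟩, ⟨0, -1, -1, 0⟩, ⟨0, 0, -2, 0⟩]]

/-- matrix -/
def q1 : M := ![![⟨1, 0, 1, 0⟩, ⟨0, 0, 0, 1⟩, ⟨-1, 0, 0, 0⟩], ![⟨0, 0, -1, 0⟩, ⟨0, 0, 0, 0⟩, ⟨1, -1, 0, 0⟩], ![⟨0, 1, 1, 0⟩, ⟨0, 0, 1, 0⟩, ⟨-1, 0, 0, 0⟩]]

/-- matrix -/
def q2 : M := ![![⟨-1, 0, 0, 0⟩, ⟨0, 0, 1, -1⟩, ⟨1, 0, 1, 0⟩], ![⟨1, -1, 0, 0⟩, ⟨1, -1, -1, 0⟩, ⟨0, 0, -1, 0⟩], ![⟨-1, 0, 0, 0⟩, ⟨-1, 1, 0, 0⟩, ⟨0, 1, 1, 0⟩]]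

/-- matrix -/
def q3 : M := ![![⟨0, 0, 1, -1⟩, ⟨0, 0, 1, -1⟩, ⟨0, 0, 1, 0⟩], ![⟨1, -1, -1, 0⟩, ⟨1, 0, -1, 1⟩, ⟨0, 0, -1, 1⟩], ![⟨-1, 1, -1, 0⟩, ⟨-1, 1, 0, 0⟩, ⟨0, 0, 1, 0⟩]]

/-- matrix -/
def wb1 : M := ![![⟨0, 0, 1, 0⟩, ⟨0, -1, 0, 0⟩, ⟨0, 0, -1, 0⟩], ![⟨0, 0, 0, 0⟩, ⟨-1, 1, 0, 0⟩, ⟨-1, 1, 1, 0⟩], ![⟨0, 0, 0, 1⟩, ⟨0, -1, 0, 0⟩, ⟨1, -1, 0, -1⟩]]

/-- matrix -/
def wb2 : M := ![![⟨0, 0, -1, 0⟩, ⟨-1, 1, -1, 1⟩, ⟨-1, 0, 0, 0⟩], ![⟨-1, 1, 0, 1⟩, ⟨0, -1, 1, -1⟩, ⟨1, -1, 0, -1⟩], ![⟨1, -1, 1, -1⟩, ⟨1, 0, 0, 0⟩, ⟨0, 0, 0, 0⟩]]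

/-- matrix -/
def wb3 : M := ![![⟨0, -1, 0, -1⟩, ⟨0, 0, -1, 0⟩, ⟨-1, 1, -1, 1⟩], ![⟨0, 1, -1, 1⟩, ⟨-1, 1, 0, 1⟩, ⟨0, -1, 1, -1⟩], ![⟨0, -1, 1, -1⟩, ⟨1, -1, 1, -1⟩, ⟨1, 0, 0, 0⟩]]

/-- matrix -/
def wb4 : M := ![![⟨-1, 0, -1, 0⟩, ⟨-1, 1, 0, 0⟩, ⟨0, 1, 1, 0⟩], ![⟨1, -1, 1, -1⟩, ⟨2, -1, 1, -1⟩, ⟨2, -1, 1, 0⟩], ![⟨-1, 0, -1, 0⟩, ⟨-1, 1, -1, 1⟩, ⟨-1, 1, -1, 1⟩]]

/-- matrix -/
def wb5 : M := ![![⟨0, 0, 0, 0⟩, ⟨-1, 0, -1, 0⟩, ⟨-1, 1, 0, 0⟩], ![⟨1, -1, 1, 0⟩, ⟨1, -1, 1, -1⟩, ⟨2, -1, 1, -1⟩], ![⟨-1, 0, -1, 0⟩, ⟨-1, 0, -1, 0⟩, ⟨-1, 1, -1, 1⟩]]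

/-- matrix -/
def wb6 : M := ![![⟨0, 1, 0, 0⟩, ⟨0, 0, 1, 0⟩, ⟨0, -1, 1, -1⟩], ![⟨0, 0, 1, 0⟩, ⟨0, 0, 0, 0⟩, ⟨0, 0, -1, 0⟩], ![⟨0, 0, -1, 0⟩, ⟨0, 0, 0, 0⟩, ⟨0, 0, 0, 0⟩]]

/-- matrix -/
def wb7 : M := ![![⟨0, 0, 1, 0⟩, ⟨0, -1, 1, -1⟩, ⟨0, 0, 0, -1⟩], ![⟨0, 0, 0, 0⟩, ⟨0, 0, -1, 0⟩, ⟨0, 0, 0, 0⟩], ![⟨0, 0, 0, 0⟩, ⟨0, 0, 0, 0⟩, ⟨0, 0, -1, 0⟩]]

/-- matrix -/
def mU : M := ![![⟨0, -1, 0, 0⟩, ⟨0, -1, 0, -1⟩, ⟨1, 0, 0, 0⟩], ![⟨0, 0, 0, 0⟩, ⟨1, 0, 0, 0⟩, ⟨0, 0, 0, 0⟩], ![⟨-1, 0, 0, 0⟩, ⟨-1, 0, 0, 0⟩, ⟨0, 0, 0, 0⟩]]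

/-- matrix -/
def mU2 : M := ![![⟨0, 1, 0, 0⟩, ⟨0, 0, 1, 0⟩, ⟨0, -1, 0, 0⟩], ![⟨0, 0, 0, 0⟩, ⟨1, 0, 0, 0⟩, ⟨0, 0, 0, 0⟩], ![⟨0, 1, 0, 0⟩, ⟨-1, 1, 0, 1⟩, ⟨-1, 0, 0, 0⟩]]

/-- matrix -/
def mU4 : M := ![![⟨0, 0, 0, 0⟩, ⟨-1, 0, 0, 0⟩, ⟨-1, 0, 0, 0⟩], ![⟨0, 0, 0, 0⟩, ⟨1, 0, 0, 0⟩, ⟨0, 0, 0, 0⟩], ![⟨1, 0, 0, 0⟩, ⟨0, 0, 0, 1⟩, ⟨0, -1, 0, 0⟩]]

/-- matrix -/
def mD : M := ![![⟨1, 0, 0, 1⟩, ⟨0, -1, 0, 0⟩, ⟨0, -1, 0, -1⟩], ![⟨-1, 0, 0, 0⟩, ⟨0, 0, 0, 0⟩, ⟨1, 0, 0, 0⟩], ![⟨0, 0, 0, 0⟩, ⟨-1, 0, 0, 0⟩, ⟨-1, 0, 0, 0⟩]]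

/-- matrix -/
def mD2 : M := ![![⟨0, 0, -1, 1⟩, ⟨0, 0, -1, 0⟩, ⟨1, 0, 0, 0⟩], ![⟨-1, 0, 0, -1⟩, ⟨-1, 1, 0, 0⟩, ⟨-1, 1, 0, 1⟩], ![⟨1, 0, 0, 0⟩, ⟨1, 0, 0, 0⟩, ⟨0, 0, 0, 0⟩]]

/-- matrix -/
def mD4 : M := ![![⟨-1, 0, -1, 0⟩, ⟨0, 1, 0, 0⟩, ⟨0, 1, 0, 1⟩], ![⟨1, 0, 1, 0⟩, ⟨1, -1, 1, 0⟩, ⟨1, -1, 1, -1⟩], ![⟨-1, 0, -1, 0⟩, ⟨-1, 1, -1, 0⟩, ⟨0, 1, 0, 1⟩]]

/-- matrix -/
def wc5 : M := ![![⟨-1, 1, 0, 0⟩, ⟨0, 1, 1, 0⟩, ⟨0, 0, 0, 0⟩], ![⟨2, -1, 1, -1⟩, ⟨2, -1, 1, 0⟩, ⟨1, -1, 1, 0⟩], ![⟨-1, 1, -1, 1⟩, ⟨-1, 1, -1, 1⟩, ⟨-1, 0, -1, 0⟩]]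

/-- matrix -/
def xc : M := ![![⟨-1, 1, 0, 0⟩, ⟨-1, 1, 0, 0⟩, ⟨-1, 1, 0, 0⟩], ![⟨2, -1, 1, 0⟩, ⟨1, -1, 1, 0⟩, ⟨1, -1, 1, -1⟩], ![⟨-1, 1, -1, 1⟩, ⟨-1, 0, -1, 0⟩, ⟨0, 0, -1, 0⟩]]

/-- matrix -/
def cx : M := ![![⟨0, 0, -1, 1⟩, ⟨0, 0, -1, 1⟩, ⟨0, 0, -1, 1⟩], ![⟨-1, 0, 1, -1⟩, ⟨-1, 0, 0, -1⟩, ⟨-1, 1, 0, 0⟩], ![⟨1, -1, 0, 0⟩, ⟨1, 0, 0, 0⟩, ⟨1, 0, 1, 0⟩]]

theorem mul_mA_mA : mm mA mA = mI := by decide +kernel

theorem mul_mB_mB : mm mB mB = mB2 := by decide +kernel

theorem mul_mB_mB3 : mm mB mB3 = mI := by decide +kernel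

theorem mul_mB3_mB : mm mB3 mB = mI := by decide +kernel

theorem mul_mB2_mB2 : mm mB2 mB2 = mI := by decide +kernel

theorem mul_mX_mX : mm mX mX = mX2 := by decide +kernel

theorem mul_mX_mX2 : mm mX mX2 = mI := by decide +kernel

theorem mul_mX2_mX : mm mX2 mX = mI := by decide +kernel

theorem mul_mB_mA : mm mB mA = wa1 := by decide +kernel

theorem mul_wa1_mB3 : mm wa1 mB3 = wa2 := by decide +kernel

theorem mul_wa2_mA : mm wa2 mA = wa3 := by decide +kernel

theorem mul_wa3_mB2 : mm wa3 mB2 = wa4 := by decide +kernel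

theorem mul_wa4_mA : mm wa4 mA = mX := by decide +kernel

theorem mul_mB_mX : mm mB mX = bx := by decide +kernel

theorem mul_bx_bx : mm bx bx = bxx := by decide +kernel

theorem mul_bxx_bxx : mm bxx bxx = bxy := by decide +kernel

theorem mul_bxy_bx : mm bxy bx = c2 := by decide +kernel

theorem mul_mB3_mX2 : mm mB3 mX2 = r1 := by decide +kernel

theorem mul_r1_mB : mm r1 mB = r2 := by decide +kernel

theorem mul_mX_r2 : mm mX r2 = r3 := by decide +kernel

theorem mul_r3_r3 : mm r3 r3 = c2 := by decide +kernel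

theorem mul_mB2_mX : mm mB2 mX = q1 := by decide +kernel

theorem mul_q1_mB2 : mm q1 mB2 = q2 := by decide +kernel

theorem mul_mX_q2 : mm mX q2 = q3 := by decide +kernel

theorem mul_q3_q3 : mm q3 q3 = c1 := by decide +kernel

theorem mul_mX_mB : mm mX mB = wb1 := by decide +kernel

theorem mul_wb1_mX : mm wb1 mX = wb2 := by decide +kernel

theorem mul_wb2_mB3 : mm wb2 mB3 = wb3 := by decide +kernel

theorem mul_wb3_mX : mm wb3 mX = wb4 := by decide +kernel

theorem mul_wb4_mB3 : mm wb4 mB3 = wb5 := by decide +kernel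

theorem mul_wb5_mX : mm wb5 mX = wb6 := by decide +kernel

theorem mul_wb6_mB : mm wb6 mB = wb7 := by decide +kernel

theorem mul_mA_mB2 : mm mA mB2 = mU := by decide +kernel

theorem mul_mU_mU : mm mU mU = mU2 := by decide +kernel

theorem mul_mU2_mU2 : mm mU2 mU2 = mU4 := by decide +kernel

theorem mul_mU4_mU : mm mU4 mU = mI := by decide +kernel

theorem mul_mA_mB : mm mA mB = mD := by decide +kernel

theorem mul_mD_mD : mm mD mD = mD2 := by decide +kernel

theorem mul_mD2_mD2 : mm mD2 mD2 = mD4 := by decide +kernel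

theorem mul_mD4_mD : mm mD4 mD = c2 := by decide +kernel

theorem mul_wb4_mB : mm wb4 mB = wc5 := by decide +kernel

theorem mul_mX_wc5 : mm mX wc5 = xc := by decide +kernel

theorem mul_wc5_mX : mm wc5 mX = cx := by decide +kernel

end Cfsg.Agent.H956.K1
end

-- part: H956/K1/Hom
section
/-!
# `A₆` in `PGL₃(E)` (helper956)

* `a6_hom` : homomorphisms from `A₆` by the presentation of helper173;
* `Par` : the parameters `φ`, `ω`; `Par.gA`, `Par.gB`, `Par.gX` : the matrices in `GL₃(E)`;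
* `Par.exists_theta` : `A₆ → GL₃(E) / scalars`.
-/

set_option autoImplicit false
set_option maxRecDepth 20000

namespace Cfsg.Agent.H956.K1

open Matrix Cfsg Cfsg.Geo Cfsg.Agent.H173.Pres

theorem lift_pair {X : Type*} [Group X] (x s : X) :
    FreeGroup.lift ![x, s] (A : FreeGroup (Fin 2)) = x ∧ FreeGroup.lift ![x, s] (B : FreeGroup (Fin 2)) = s := by
  constructor <;> simp [A, B]

/-- **Homomorphisms from `A₆`.** -/
theorem a6_hom {X : Type*} [Group X] (x s : X) (h3 : x ^ 3 = 1) (h4 : s ^ 4 = 1) (h5 : (s * x) ^ 5 = 1)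
    (h6 : (x * (s⁻¹ * x⁻¹ * s)) ^ 2 = 1) (h7 : (x * ((s ^ 2)⁻¹ * x * s ^ 2)) ^ 2 = 1) :
    ∃ θ : alternatingGroup (Fin 6) →* X, θ za6 = x ∧ θ zs6 = s := by
  classical
  let N : Subgroup (FreeGroup (Fin 2)) := Subgroup.normalClosure {r | r ∈ relA6}
  have hsurj : Function.Surjective (FreeGroup.lift ![za6, zs6]) := by
    rw [← MonoidHom.range_eq_top, FreeGroup.range_lift_eq_closure, range_pair]
    exact closure_alt za6 zs6 (Equiv.swap (2 : Fin 6) 3 * Equiv.swap (3 : Fin 6) 4 * Equiv.swap (4 : Fin 6) 5) (Equiv.swap (0 : Fin 6) 1) 0 1 2 rfl rfl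
      (by decide) (by decide) (by decide) (by decide) (by decide) (by decide) (Or.inr rfl)
  have hL : ∀ r ∈ relA6, FreeGroup.lift ![za6, zs6] r = 1 := by
    simp only [relA6, List.mem_cons, List.not_mem_nil, or_false, forall_eq_or_imp, forall_eq, map_mul, map_pow, map_inv,
      FreeGroup.lift_apply_of, A, B]
    decide +kernel
  have hle : N ≤ (FreeGroup.lift ![za6, zs6]).ker := Subgroup.normalClosure_le_normal fun r hr => hL r hr
  have hx : ∀ r ∈ relA6, FreeGroup.lift ![x, s] r = 1 := by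
    simp only [relA6, List.mem_cons, List.not_mem_nil, or_false, forall_eq_or_imp, forall_eq, map_mul, map_pow, map_inv,
      (lift_pair x s).1, (lift_pair x s).2]
    exact ⟨h3, h4, h5, h6, h7⟩
  have hle' : N ≤ (FreeGroup.lift ![x, s]).ker := Subgroup.normalClosure_le_normal fun r hr => hx r hr
  let y : Fin 2 → FreeGroup (Fin 2) ⧸ N := fun i => QuotientGroup.mk' _ (FreeGroup.of i)
  have hy : FreeGroup.lift y = QuotientGroup.mk' N := by
    ext i; simp [y]
  obtain ⟨h1, h2⟩ := relA6_bound y (by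
      rw [← FreeGroup.range_lift_eq_closure, hy, MonoidHom.range_eq_top]
      exact QuotientGroup.mk'_surjective _)
    (fun r hr => by
      rw [hy]
      exact (QuotientGroup.eq_one_iff r).2 (Subgroup.subset_normalClosure hr))
  let e := QuotientGroup.lift N (FreeGroup.lift ![za6, zs6]) hle
  have he : Function.Surjective e := by
    intro z
    obtain ⟨w, hw⟩ := hsurj z
    exact ⟨QuotientGroup.mk' _ w, hw⟩
  have hc : Nat.card (alternatingGroup (Fin 6)) = 360 := by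
    have := card_alt_fin 6 (by norm_num)
    have h6 : Nat.factorial 6 = 720 := rfl
    omega
  have hbij : Function.Bijective e :=
    (Nat.bijective_iff_surjective_and_card e).2 ⟨he, le_antisymm (h2.trans hc.ge) (Nat.card_le_card_of_surjective e he)⟩
  let e' : FreeGroup (Fin 2) ⧸ N ≃* alternatingGroup (Fin 6) := MulEquiv.ofBijective e hbij
  have key : ∀ w, e'.symm (FreeGroup.lift ![za6, zs6] w) = QuotientGroup.mk w := by
    intro w
    rw [MulEquiv.symm_apply_eq]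
    rfl
  refine ⟨(QuotientGroup.lift N (FreeGroup.lift ![x, s]) hle').comp e'.symm.toMonoidHom, ?_, ?_⟩
  · have := key (A : FreeGroup (Fin 2))
    rw [(lift_pair _ _).1] at this
    show QuotientGroup.lift N (FreeGroup.lift ![x, s]) hle' (e'.symm za6) = x
    rw [this]
    exact (lift_pair x s).1
  · have := key (B : FreeGroup (Fin 2))
    rw [(lift_pair _ _).2] at this
    show QuotientGroup.lift N (FreeGroup.lift ![x, s]) hle' (e'.symm zs6) = s
    rw [this]
    exact (lift_pair x s).2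

/-- the parameters -/
structure Par (E : Type*) [Field E] where
  /-- `φ² = φ + 1` -/
  φ : E
  /-- `ω² = -ω - 1` -/
  ω : E
  hφ : φ * φ = φ + 1
  hω : ω * ω = -ω - 1
  h3 : (3 : E) ≠ 0

namespace Par

variable {E : Type*} [Field E] (p : Par E)

/-- the other root -/
def swap : Par E where
  φ := 1 - p.φ
  ω := p.ω
  hφ := by linear_combination p.hφ
  hω := p.hω
  h3 := p.h3

theorem ω_cube : p.ω ^ 3 = 1 := by linear_combination (p.ω - 1) * p.hω

theorem ω_ne_one : p.ω ≠ 1 := by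
  intro h
  apply p.h3
  have := p.hω
  rw [h] at this
  linear_combination this

theorem ω_ne_zero : p.ω ≠ 0 := by
  intro h
  have := p.ω_cube
  rw [h] at this
  norm_num at this

/-- evaluation -/
def m (X : M) : Matrix (Fin 3) (Fin 3) E := ev p.φ p.ω X

theorem m_mm (X Y : M) : p.m (mm X Y) = p.m X * p.m Y := ev_mm p.hφ p.hω X Y

theorem m_I : p.m mI = 1 := by
  ext i j
  (revert i j; simp only [m, ev, mI, Q.ev, _root_.Fin.forall_fin_succ, _root_.Matrix.cons_val', _root_.Matrix.cons_val_fin_one, _root_.Matrix.of_apply, Fin.isValue, _root_.Matrix.cons_val_zero, _root_.Matrix.cons_val_succ, _root_.IsEmpty.forall_iff, _root_.and_true, _root_.Int.cast_one, _root_.Int.cast_zero, _root_.MulZeroClass.zero_mul, _root_.add_zero, _root_.Matrix.one_apply_eq, Nat.reduceAdd, _root_.Fin.succ_zero_eq_one, _root_.ne_eq, _root_.zero_ne_one, _root_.not_false_eq_true, _root_.Matrix.one_apply_ne, _root_.Fin.succ_one_eq_two, Fin.reduceEq, _root_.and_self,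 _root_.Fin.succ_ne_zero, _root_.true_and])

theorem m_c1 : p.m c1 = p.ω • (1 : Matrix (Fin 3) (Fin 3) E) := by
  ext i j
  (revert i j; simp only [m, ev, c1, Q.ev, _root_.Fin.forall_fin_succ, _root_.Matrix.cons_val', _root_.Matrix.cons_val_fin_one, _root_.Matrix.of_apply, _root_.Matrix.smul_apply, _root_.smul_eq_mul, Fin.isValue, _root_.Matrix.cons_val_zero, _root_.Matrix.cons_val_succ, _root_.IsEmpty.forall_iff, _root_.and_true, _root_.Int.cast_zero, _root_.MulZeroClass.zero_mul, _root_.add_zero, _root_.Int.cast_one, _root_.one_mul, _root_.zero_add, _root_.Matrix.one_apply_eq, _root_.mul_one, Nat.reduceAdd, _root_.Fin.succ_zero_eq_one, _root_.ne_eq, _root_.zero_ne_one, _root_.not_false_eq_true, _root_.Matrix.one_apply_ne, _root_.MulZeroClass.mul_zero, _root_.Fin.succ_one_eq_two, Fin.reduceEq, _root_.and_self, _root_.Fin.succ_ne_zero, _root_.zero_eq_mul, _root_.true_and, _root_.or_true])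

theorem m_c2 : p.m c2 = (p.ω * p.ω) • (1 : Matrix (Fin 3) (Fin 3) E) := by
  rw [p.hω]
  ext i j
  (revert i j; simp only [m, ev, c2, Q.ev, _root_.Fin.forall_fin_succ, Int.reduceNeg, _root_.Matrix.cons_val', _root_.Matrix.cons_val_fin_one, _root_.Matrix.of_apply, _root_.Matrix.smul_apply, _root_.smul_eq_mul, Fin.isValue, _root_.Matrix.cons_val_zero, _root_.Matrix.cons_val_succ, _root_.IsEmpty.forall_iff, _root_.and_true, _root_.Int.cast_neg, _root_.Int.cast_one, _root_.Int.cast_zero, _root_.MulZeroClass.zero_mul, _root_.add_zero, _root_.neg_mul, _root_.one_mul, _root_.Matrix.one_apply_eq, _root_.mul_one, Nat.reduceAdd, _root_.Fin.succ_zero_eq_one, _root_.ne_eq, _root_.zero_ne_one, _root_.not_false_eq_true, _root_.Matrix.one_apply_ne, _root_.MulZeroClass.mul_zero, _root_.Fin.succ_one_eq_two, Fin.reduceEq, _root_.and_self, _root_.Fin.succ_ne_zero, _root_.true_and, _root_.zero_eq_mul, _root_.or_true]) <;> (repeat' with_reducible apply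 And.intro) <;> ring

/-- the involution -/
def gA : GL (Fin 3) E where
  val := p.m mA
  inv := p.m mA
  val_inv := by rw [← m_mm, mul_mA_mA, m_I]
  inv_val := by rw [← m_mm, mul_mA_mA, m_I]

/-- the element of order four -/
def gB : GL (Fin 3) E where
  val := p.m mB
  inv := p.m mB3
  val_inv := by rw [← m_mm, mul_mB_mB3, m_I]
  inv_val := by rw [← m_mm, mul_mB3_mB, m_I]

/-- the element of order three -/
def gX : GL (Fin 3) E where
  val := p.m mX
  inv := p.m mX2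
  val_inv := by rw [← m_mm, mul_mX_mX2, m_I]
  inv_val := by rw [← m_mm, mul_mX2_mX, m_I]

theorem val_gA : (p.gA : Matrix (Fin 3) (Fin 3) E) = p.m mA := rfl
theorem val_gB : (p.gB : Matrix (Fin 3) (Fin 3) E) = p.m mB := rfl
theorem val_gX : (p.gX : Matrix (Fin 3) (Fin 3) E) = p.m mX := rfl
theorem val_gB_inv : ((p.gB⁻¹ : GL (Fin 3) E) : Matrix (Fin 3) (Fin 3) E) = p.m mB3 := rfl
theorem val_gX_inv : ((p.gX⁻¹ : GL (Fin 3) E) : Matrix (Fin 3) (Fin 3) E) = p.m mX2 := rfl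

theorem gA_sq : p.gA ^ 2 = 1 := by
  apply Units.ext
  rw [pow_two, Units.val_mul, val_gA, ← m_mm, mul_mA_mA, m_I, Units.val_one]

theorem val_gB_sq : ((p.gB ^ 2 : GL (Fin 3) E) : Matrix (Fin 3) (Fin 3) E) = p.m mB2 := by
  rw [pow_two, Units.val_mul, val_gB, ← m_mm, mul_mB_mB]

theorem gB_four : p.gB ^ 4 = 1 := by
  apply Units.ext
  rw [show 4 = 2 + 2 from rfl, pow_add, Units.val_mul, val_gB_sq, ← m_mm, mul_mB2_mB2, m_I, Units.val_one]

theorem val_gB_sq_inv : (((p.gB ^ 2)⁻¹ : GL (Fin 3) E) : Matrix (Fin 3) (Fin 3) E) = p.m mB2 := by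
  have : (p.gB ^ 2)⁻¹ = p.gB ^ 2 := by
    rw [inv_eq_iff_mul_eq_one, ← pow_add]
    exact p.gB_four
  rw [this, val_gB_sq]

theorem gX_cube : p.gX ^ 3 = 1 := by
  apply Units.ext
  rw [pow_succ, pow_two, Units.val_mul, Units.val_mul, val_gX, ← m_mm, mul_mX_mX, ← m_mm, mul_mX2_mX, m_I,
    Units.val_one]

theorem gX_eq : p.gX = p.gB * p.gA * p.gB⁻¹ * p.gA * p.gB ^ 2 * p.gA := by
  apply Units.ext
  simp only [Units.val_mul, val_gX, val_gB, val_gA, val_gB_sq, val_gB_inv, ← m_mm]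
  rw [mul_mB_mA, mul_wa1_mB3, mul_wa2_mA, mul_wa3_mB2, mul_wa4_mA]

theorem pow_five {R : Type*} [Monoid R] (x : R) : x ^ 5 = (x * x) * (x * x) * x := by
  simp only [pow_succ, pow_zero, one_mul, mul_assoc]

theorem rel_five : (((p.gB * p.gX) ^ 5 : GL (Fin 3) E) : Matrix (Fin 3) (Fin 3) E) = (p.ω * p.ω) • 1 := by
  rw [pow_five]
  simp only [Units.val_mul, val_gX, val_gB, ← m_mm]
  rw [mul_mB_mX, mul_bx_bx, mul_bxx_bxx, mul_bxy_bx, m_c2]

theorem rel_six : (((p.gX * (p.gB⁻¹ * p.gX⁻¹ * p.gB)) ^ 2 : GL (Fin 3) E) : Matrix (Fin 3) (Fin 3) E) =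
    (p.ω * p.ω) • 1 := by
  rw [pow_two]
  simp only [Units.val_mul, val_gX, val_gB, val_gB_inv, val_gX_inv, ← m_mm]
  rw [mul_mB3_mX2, mul_r1_mB, mul_mX_r2, mul_r3_r3, m_c2]

theorem rel_seven : (((p.gX * ((p.gB ^ 2)⁻¹ * p.gX * p.gB ^ 2)) ^ 2 : GL (Fin 3) E) : Matrix (Fin 3) (Fin 3) E) =
    p.ω • 1 := by
  rw [pow_two]
  simp only [Units.val_mul, val_gX, val_gB_sq, val_gB_sq_inv, ← m_mm]
  rw [mul_mB2_mX, mul_q1_mB2, mul_mX_q2, mul_q3_q3, m_c1]

theorem m_wb7 : p.m wb7 = p.ω • p.m mA := by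
  ext i j
  have h := p.hω
  (revert i j; simp only [m, ev, wb7, mA, Q.ev, _root_.Fin.forall_fin_succ, Int.reduceNeg, _root_.Matrix.cons_val', _root_.Matrix.cons_val_fin_one, _root_.Matrix.of_apply, _root_.Matrix.smul_apply, _root_.smul_eq_mul, Fin.isValue, _root_.Matrix.cons_val_zero, _root_.Matrix.cons_val_succ, _root_.forall_const, _root_.Int.cast_zero, _root_.MulZeroClass.zero_mul, _root_.add_zero, _root_.Int.cast_one, _root_.one_mul, _root_.zero_add, _root_.mul_one, _root_.Int.cast_neg, _root_.neg_mul, _root_.mul_neg, _root_.neg_inj, _root_.true_and, _root_.MulZeroClass.mul_zero, _root_.and_self, _root_.implies_true, _root_.and_true]) <;> grind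

/-- the involution as a word in `gX`, `gB` -/
theorem word_two : ((p.gX * p.gB * p.gX * p.gB⁻¹ * p.gX * p.gB⁻¹ * p.gX * p.gB : GL (Fin 3) E) :
    Matrix (Fin 3) (Fin 3) E) = p.ω • (p.gA : Matrix (Fin 3) (Fin 3) E) := by
  simp only [Units.val_mul, val_gX, val_gB, val_gB_inv, ← m_mm]
  rw [mul_mX_mB, mul_wb1_mX, mul_wb2_mB3, mul_wb3_mX, mul_wb4_mB3, mul_wb5_mX, mul_wb6_mB, m_wb7, val_gA]

/-- `(ab²)⁵ = 1` -/
theorem u_five : (p.gA * p.gB ^ 2) ^ 5 = 1 := by
  apply Units.ext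
  rw [pow_five]
  simp only [Units.val_mul, val_gA, val_gB_sq, ← m_mm]
  rw [mul_mA_mB2, mul_mU_mU, mul_mU2_mU2, mul_mU4_mU, m_I, Units.val_one]

/-- `(ab)⁵ = ω²` -/
theorem d_five : (((p.gA * p.gB) ^ 5 : GL (Fin 3) E) : Matrix (Fin 3) (Fin 3) E) = (p.ω * p.ω) • 1 := by
  rw [pow_five]
  simp only [Units.val_mul, val_gA, val_gB, ← m_mm]
  rw [mul_mA_mB, mul_mD_mD, mul_mD2_mD2, mul_mD4_mD, m_c2]

/-- the second element of order three -/
def gC : GL (Fin 3) E := p.gX * p.gB * p.gX * p.gB⁻¹ * p.gX * p.gB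

theorem val_gC : (p.gC : Matrix (Fin 3) (Fin 3) E) = p.m wc5 := by
  unfold gC
  simp only [Units.val_mul, val_gX, val_gB, val_gB_inv, ← m_mm]
  rw [mul_mX_mB, mul_wb1_mX, mul_wb2_mB3, mul_wb3_mX, mul_wb4_mB]

theorem comm_XC : ((p.gX * p.gC : GL (Fin 3) E) : Matrix (Fin 3) (Fin 3) E) =
    (p.ω * p.ω) • ((p.gC * p.gX : GL (Fin 3) E) : Matrix (Fin 3) (Fin 3) E) := by
  rw [Units.val_mul, Units.val_mul, val_gC, val_gX, ← m_mm, ← m_mm, mul_mX_wc5, mul_wc5_mX]
  ext i j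
  have h := p.hω
  have h' := p.hφ
  simp only [Matrix.smul_apply, smul_eq_mul, h]
  (revert i j; simp only [m, ev, xc, cx, Q.ev, _root_.Fin.forall_fin_succ, Int.reduceNeg, _root_.Matrix.cons_val', _root_.Matrix.cons_val_fin_one, _root_.Matrix.of_apply, Fin.isValue, _root_.Matrix.cons_val_zero, _root_.Matrix.cons_val_succ, _root_.forall_const, _root_.Int.cast_neg, _root_.Int.cast_one, _root_.one_mul, _root_.Int.cast_zero, _root_.MulZeroClass.zero_mul, _root_.add_zero, _root_.zero_add, _root_.and_self, _root_.Int.cast_ofNat, _root_.neg_mul, _root_.mul_one]) <;> grind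

theorem tr_A : (p.gA : Matrix (Fin 3) (Fin 3) E).trace = -1 := by
  rw [val_gA, Matrix.trace_fin_three]
  simp [m, ev, mA, Q.ev]

theorem tr_B : (p.gB : Matrix (Fin 3) (Fin 3) E).trace = 1 := by
  rw [val_gB, Matrix.trace_fin_three]
  simp [m, ev, mB, Q.ev]

theorem tr_u : ((p.gA * p.gB ^ 2 : GL (Fin 3) E) : Matrix (Fin 3) (Fin 3) E).trace = 1 - p.φ := by
  rw [Units.val_mul, val_gA, val_gB_sq, ← m_mm, mul_mA_mB2, Matrix.trace_fin_three]
  simp only [m, ev, mU, Q.ev, _root_.Int.reduceNeg, _root_.Matrix.cons_val', _root_.Matrix.cons_val_fin_one, _root_.Fin.isValue, _root_.Matrix.of_apply, _root_.Matrix.cons_val_zero, _root_.Int.cast_zero, _root_.Int.cast_neg, _root_.Int.cast_one, _root_.neg_mul, _root_.one_mul, _root_.zero_add, _root_.MulZeroClass.zero_mul, _root_.add_zero, _root_.Matrix.cons_val_one, _root_.Matrix.cons_val]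
  ring

theorem tr_u2 : (((p.gA * p.gB ^ 2) ^ 2 : GL (Fin 3) E) : Matrix (Fin 3) (Fin 3) E).trace = p.φ := by
  rw [pow_two]
  simp only [Units.val_mul, val_gA, val_gB_sq, ← m_mm]
  rw [mul_mA_mB2, mul_mU_mU, Matrix.trace_fin_three]
  simp [m, ev, mU2, Q.ev]

theorem det_A : (p.gA : Matrix (Fin 3) (Fin 3) E).det = 1 := by
  rw [val_gA, Matrix.det_fin_three]
  simp [m, ev, mA, Q.ev]

theorem det_B : (p.gB : Matrix (Fin 3) (Fin 3) E).det = 1 := by
  rw [val_gB, Matrix.det_fin_three]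
  simp [m, ev, mB, Q.ev]

end Par

end Cfsg.Agent.H956.K1
end

-- part: H956/K1/Lift
section
/-!
# The three-dimensional representations of a perfect threefold cover of `A₆` (helper956)

* `ta`, `tb = zs6`, `tx = za6`, `tc = (3 4 5)`;
* `Par.exists_theta` : `θ : A₆ → GL₃(E) / scalars`;
* `Par.exists_hom` : `P` perfect, `π : P → A₆` onto with central kernel of order `3` : there is `A : P → GL₃(E)` over `θ`
  with determinant one.
-/

set_option autoImplicit false
set_option maxRecDepth 20000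

namespace Cfsg.Agent.H956.K1

open Matrix Cfsg Cfsg.Geo Cfsg.Agent.H173.Pres
open scoped commutatorElement
open Cfsg.Agent.H95.StemCover (EE EE_le pΓ pP mem_fib comp_eq commutator_EE map_surj pΓ_surj pP_surj isStem)

/-- the involution `(0 5)(2 3)` -/
def ta : alternatingGroup (Fin 6) :=
  ⟨Equiv.swap (0 : Fin 6) 5 * Equiv.swap (2 : Fin 6) 3, Equiv.Perm.mem_alternatingGroup.2 (by decide)⟩

/-- `(3 4 5)` -/
def tc : alternatingGroup (Fin 6) :=
  ⟨Equiv.swap (3 : Fin 6) 5 * Equiv.swap (3 : Fin 6) 4, Equiv.Perm.mem_alternatingGroup.2 (by decide)⟩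

theorem word_ta : za6 * zs6 * za6 * zs6⁻¹ * za6 * zs6⁻¹ * za6 * zs6 = ta := by decide +kernel

theorem word_tc : za6 * zs6 * za6 * zs6⁻¹ * za6 * zs6 = tc := by decide

theorem word_za : zs6 * ta * zs6⁻¹ * ta * zs6 ^ 2 * ta = za6 := by decide

theorem closure_za : Subgroup.closure {za6, zs6} = (⊤ : Subgroup (alternatingGroup (Fin 6))) :=
  closure_alt za6 zs6 (Equiv.swap (2 : Fin 6) 3 * Equiv.swap (3 : Fin 6) 4 * Equiv.swap (4 : Fin 6) 5) (Equiv.swap (0 : Fin 6) 1) 0 1 2 rfl rfl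
      (by decide) (by decide) (by decide) (by decide) (by decide) (by decide) (Or.inr rfl)

theorem closure_ta : Subgroup.closure {ta, zs6} = (⊤ : Subgroup (alternatingGroup (Fin 6))) := by
  rw [eq_top_iff, ← closure_za, Subgroup.closure_le]
  have h1 : ta ∈ Subgroup.closure {ta, zs6} := Subgroup.subset_closure (by simp)
  have h2 : zs6 ∈ Subgroup.closure {ta, zs6} := Subgroup.subset_closure (by simp)
  intro x hx
  rcases hx with rfl | hx
  · rw [← word_za]
    exact mul_mem (mul_mem (mul_mem (mul_mem (mul_mem h2 h1) (inv_mem h2)) h1) (pow_mem h2 2)) h1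
  · rw [Set.mem_singleton_iff.1 hx]
    exact h2

instance simple_a6 : IsSimpleGroup (alternatingGroup (Fin 6)) := alternatingGroup.isSimpleGroup (by simp)

theorem comm_a6 : commutator (alternatingGroup (Fin 6)) = ⊤ := by
  rcases (inferInstance : (commutator (alternatingGroup (Fin 6))).Normal).eq_bot_or_eq_top with h | h
  · exfalso
    have h1 : ⁅ta, zs6⁆ ∈ commutator (alternatingGroup (Fin 6)) :=
      Subgroup.commutator_mem_commutator (Subgroup.mem_top _) (Subgroup.mem_top _)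
    rw [h, Subgroup.mem_bot] at h1
    revert h1
    decide
  · exact h

theorem card_a6 : Nat.card (alternatingGroup (Fin 6)) = 360 := by
  have := card_alt_fin 6 (by norm_num)
  have h6 : Nat.factorial 6 = 720 := rfl
  omega

namespace Par

variable {E : Type*} [Field E] (p : Par E)

/-- the quotient map -/
abbrev q (E : Type*) [Field E] : GL (Fin 3) E →* GL (Fin 3) E ⧸ scalars (Fin 3) E := QuotientGroup.mk' _

theorem q_eq_one {g : GL (Fin 3) E} : q E g = 1 ↔ ∃ c : Eˣ, (g : Matrix (Fin 3) (Fin 3) E) = (c : E) • 1 := by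
  rw [← mem_scalars_iff]
  exact QuotientGroup.eq_one_iff g

theorem q_eq {g h : GL (Fin 3) E} : q E g = q E h ↔ ∃ c : Eˣ, (g : Matrix (Fin 3) (Fin 3) E) = (c : E) • (h : Matrix _ _ E) := by
  have h1 : q E g = q E h ↔ q E (h⁻¹ * g) = 1 := by
    rw [map_mul, map_inv, inv_mul_eq_one, eq_comm]
  rw [h1, q_eq_one]
  constructor
  · rintro ⟨c, hc⟩
    refine ⟨c, ?_⟩
    have h2 : (g : Matrix (Fin 3) (Fin 3) E) = (h : Matrix _ _ E) * ((h⁻¹ * g : GL (Fin 3) E) : Matrix _ _ E) := by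
      rw [← Units.val_mul, mul_inv_cancel_left]
    rw [h2, hc, Matrix.mul_smul, mul_one]
  · rintro ⟨c, hc⟩
    refine ⟨c, ?_⟩
    rw [Units.val_mul, hc, Matrix.mul_smul, ← Units.val_mul, inv_mul_cancel, Units.val_one]

theorem q_of_smul {g : GL (Fin 3) E} {c : E} (hc : c ≠ 0) (h : (g : Matrix (Fin 3) (Fin 3) E) = c • 1) : q E g = 1 :=
  q_eq_one.2 ⟨Units.mk0 c hc, h⟩

/-- `A₆` in `PGL₃(E)` -/
theorem exists_theta : ∃ θ : alternatingGroup (Fin 6) →* GL (Fin 3) E ⧸ scalars (Fin 3) E,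
    θ ta = q E p.gA ∧ θ zs6 = q E p.gB ∧ θ za6 = q E p.gX ∧ θ tc = q E p.gC ∧ Function.Injective θ := by
  have h0 := p.ω_ne_zero
  obtain ⟨θ, h1, h2⟩ := a6_hom (q E p.gX) (q E p.gB) (by rw [← map_pow, p.gX_cube, map_one])
    (by rw [← map_pow, p.gB_four, map_one])
    (by rw [← map_mul, ← map_pow]; exact q_of_smul (mul_ne_zero h0 h0) p.rel_five)
    (by rw [← map_inv, ← map_inv, ← map_mul, ← map_mul, ← map_mul, ← map_pow]
        exact q_of_smul (mul_ne_zero h0 h0) p.rel_six)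
    (by rw [← map_pow, ← map_inv, ← map_mul, ← map_mul, ← map_mul, ← map_pow]
        exact q_of_smul h0 p.rel_seven)
  refine ⟨θ, ?_, h2, h1, ?_, ?_⟩
  · rw [← word_ta]
    simp only [map_mul, map_inv, h1, h2]
    simp only [← map_mul, ← map_inv]
    exact q_eq.2 ⟨Units.mk0 _ h0, p.word_two⟩
  · rw [← word_tc]
    simp only [map_mul, map_inv, h1, h2]
    rfl
  · rcases (inferInstance : θ.ker.Normal).eq_bot_or_eq_top with h | h
    · exact (MonoidHom.ker_eq_bot_iff _).1 h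
    · exfalso
      have h3 : za6 ∈ θ.ker := by rw [h]; trivial
      rw [MonoidHom.mem_ker, h1, q_eq_one] at h3
      obtain ⟨c, hc⟩ := h3
      have h4 := congrFun (congrFun hc 0) 1
      apply h0
      simpa [val_gX, m, ev, mX, Q.ev] using h4

/-- the subgroup generated by the two matrices -/
def G : Subgroup (GL (Fin 3) E) := Subgroup.closure {p.gA, p.gB}

theorem gA_mem : p.gA ∈ p.G := Subgroup.subset_closure (by simp)
theorem gB_mem : p.gB ∈ p.G := Subgroup.subset_closure (by simp)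

theorem G_det {g : GL (Fin 3) E} (hg : g ∈ p.G) : (g : Matrix (Fin 3) (Fin 3) E).det = 1 := by
  have h1 : p.G ≤ specialLinear (Fin 3) E := by
    unfold G
    rw [Subgroup.closure_le]
    rintro x (rfl | hx)
    · show Matrix.GeneralLinearGroup.det _ = 1
      apply Units.ext
      rw [Matrix.GeneralLinearGroup.val_det_apply, p.det_A, Units.val_one]
    · rw [Set.mem_singleton_iff.1 hx]
      show Matrix.GeneralLinearGroup.det _ = 1
      apply Units.ext
      rw [Matrix.GeneralLinearGroup.val_det_apply, p.det_B, Units.val_one]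
  have h2 := h1 hg
  have h3 : Matrix.GeneralLinearGroup.det g = 1 := h2
  rw [← Matrix.GeneralLinearGroup.val_det_apply, h3, Units.val_one]

theorem cube_of_scalar {g : GL (Fin 3) E} (hg : (g : Matrix (Fin 3) (Fin 3) E).det = 1) {c : E}
    (hc : (g : Matrix (Fin 3) (Fin 3) E) = c • 1) : c ^ 3 = 1 := by
  rw [hc, Matrix.det_smul, Matrix.det_one, mul_one, Fintype.card_fin] at hg
  exact hg

/-- the map `G → A₆` -/
theorem exists_pi {θ : alternatingGroup (Fin 6) →* GL (Fin 3) E ⧸ scalars (Fin 3) E} (hA : θ ta = q E p.gA)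
    (hB : θ zs6 = q E p.gB) (hinj : Function.Injective θ) :
    ∃ π : p.G →* alternatingGroup (Fin 6), ∀ g : p.G, θ (π g) = q E g := by
  have h1 : ∀ g : p.G, q E g ∈ θ.range := by
    rintro ⟨g, hg⟩
    have h2 : p.G ≤ θ.range.comap (q E) := by
      unfold G
      rw [Subgroup.closure_le]
      rintro x (rfl | hx)
      · exact ⟨ta, hA⟩
      · rw [Set.mem_singleton_iff.1 hx]
        exact ⟨zs6, hB⟩
    exact h2 hg
  let e := MonoidHom.ofInjective hinj
  refine ⟨e.symm.toMonoidHom.comp (((q E).comp p.G.subtype).codRestrict θ.range h1), fun g => ?_⟩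
  have h3 : e (e.symm (⟨q E g, h1 g⟩ : θ.range)) = ⟨q E g, h1 g⟩ := e.apply_symm_apply _
  exact congrArg Subtype.val h3

section

variable {π : p.G →* alternatingGroup (Fin 6)} {θ : alternatingGroup (Fin 6) →* GL (Fin 3) E ⧸ scalars (Fin 3) E}

theorem pi_surj (hA : θ ta = q E p.gA) (hB : θ zs6 = q E p.gB) (hinj : Function.Injective θ)
    (hπ : ∀ g : p.G, θ (π g) = q E g) : Function.Surjective π := by
  rw [← MonoidHom.range_eq_top, eq_top_iff, ← closure_ta, Subgroup.closure_le]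
  rintro x (rfl | hx)
  · exact ⟨⟨p.gA, p.gA_mem⟩, hinj (by rw [hπ, hA])⟩
  · rw [Set.mem_singleton_iff.1 hx]
    exact ⟨⟨p.gB, p.gB_mem⟩, hinj (by rw [hπ, hB])⟩

theorem pi_ker (hπ : ∀ g : p.G, θ (π g) = q E g) {g : p.G} (hg : g ∈ π.ker) :
    ∃ c : E, c ^ 3 = 1 ∧ ((g : GL (Fin 3) E) : Matrix (Fin 3) (Fin 3) E) = c • 1 := by
  have h1 := hπ g
  rw [MonoidHom.mem_ker.1 hg, map_one] at h1
  obtain ⟨c, hc⟩ := q_eq_one.1 h1.symm
  exact ⟨c, cube_of_scalar (p.G_det g.2) hc, hc⟩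

theorem pi_ker_cube (hπ : ∀ g : p.G, θ (π g) = q E g) {g : p.G} (hg : g ∈ π.ker) : g ^ 3 = 1 := by
  obtain ⟨c, h1, h2⟩ := p.pi_ker hπ hg
  apply Subtype.ext
  apply Units.ext
  rw [Subgroup.coe_pow, Units.val_pow_eq_pow_val, h2, smul_pow, h1, one_pow, one_smul]
  rfl

theorem pi_ker_center (hπ : ∀ g : p.G, θ (π g) = q E g) : π.ker ≤ Subgroup.center p.G := by
  intro g hg
  obtain ⟨c, -, h2⟩ := p.pi_ker hπ hg
  rw [Subgroup.mem_center_iff]
  intro x
  apply Subtype.ext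
  apply Units.ext
  rw [Subgroup.coe_mul, Subgroup.coe_mul, Units.val_mul, Units.val_mul, h2, Matrix.mul_smul, Matrix.smul_mul, mul_one,
    one_mul]

theorem G_perfect (hπ : ∀ g : p.G, θ (π g) = q E g) (hs : Function.Surjective π) : commutator p.G = ⊤ := by
  -- cubes lie in the commutator subgroup
  have h1 : ∀ g : p.G, g ^ 3 ∈ commutator p.G := by
    intro g
    have h2 : π g ∈ (commutator p.G).map π := by
      rw [map_commutator_eq, MonoidHom.range_eq_top.2 hs]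
      have : π g ∈ commutator (alternatingGroup (Fin 6)) := by rw [comm_a6]; trivial
      exact this
    obtain ⟨n, hn, hng⟩ := h2
    have h3 : n⁻¹ * g ∈ π.ker := by
      rw [MonoidHom.mem_ker, map_mul, map_inv, hng, inv_mul_cancel]
    have h4 := p.pi_ker_cube hπ h3
    have h5 := Subgroup.mem_center_iff.1 (p.pi_ker_center hπ h3)
    have h6 : g = n * (n⁻¹ * g) := (mul_inv_cancel_left n g).symm
    have h7 : g ^ 3 = n ^ 3 := by
      have hc : Commute n (n⁻¹ * g) := h5 n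
      conv_lhs => rw [h6]
      rw [hc.mul_pow, h4, mul_one]
    rw [h7]
    exact pow_mem hn 3
  rw [eq_top_iff]
  rintro ⟨g, hg⟩ -
  have h2 : p.G ≤ (commutator p.G).map p.G.subtype := by
    conv_lhs => rw [G]
    rw [Subgroup.closure_le]
    rintro x (rfl | hx)
    · refine ⟨⟨p.gA, p.gA_mem⟩, ?_, rfl⟩
      have h3 := h1 ⟨p.gA, p.gA_mem⟩
      have h4 : (⟨p.gA, p.gA_mem⟩ : p.G) ^ 3 = ⟨p.gA, p.gA_mem⟩ := by
        apply Subtype.ext
        rw [Subgroup.coe_pow, pow_succ, p.gA_sq, one_mul]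
      rw [h4] at h3
      exact h3
    · rw [Set.mem_singleton_iff.1 hx]
      refine ⟨⟨p.gB, p.gB_mem⟩, ?_, rfl⟩
      have h3 := pow_mem (h1 ⟨p.gB, p.gB_mem⟩) 3
      have h4 : ((⟨p.gB, p.gB_mem⟩ : p.G) ^ 3) ^ 3 = ⟨p.gB, p.gB_mem⟩ := by
        apply Subtype.ext
        rw [Subgroup.coe_pow, Subgroup.coe_pow, ← pow_mul]
        show p.gB ^ (4 * 2 + 1) = p.gB
        rw [pow_add, pow_mul, p.gB_four, one_pow, one_mul, pow_one]
      rw [h4] at h3
      exact h3
  obtain ⟨y, hy, hyg⟩ := h2 hg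
  have : y = ⟨g, hg⟩ := Subtype.ext hyg
  rw [← this]
  exact hy

end

/-- **The representation.** -/
theorem exists_hom {P : Type*} [Group P] [Finite P] (hP : commutator P = ⊤) (π : P →* alternatingGroup (Fin 6))
    (hs : Function.Surjective π) (hc : π.ker ≤ Subgroup.center P) (h3 : Nat.card π.ker = 3)
    {θ : alternatingGroup (Fin 6) →* GL (Fin 3) E ⧸ scalars (Fin 3) E} (hA : θ ta = q E p.gA) (hB : θ zs6 = q E p.gB)
    (hinj : Function.Injective θ) :
    ∃ ρ : P →* GL (Fin 3) E, (∀ g, q E (ρ g) = θ (π g)) ∧ (∀ g, ρ g ∈ p.G) := by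
  obtain ⟨π', hπ'⟩ := p.exists_pi hA hB hinj
  have hs' := p.pi_surj hA hB hinj hπ'
  have hc' := p.pi_ker_center hπ'
  have hG := p.G_perfect hπ' hs'
  have hst := isStem hP hs hc
  have hst' := isStem hG hs' hc'
  have hE := commutator_EE comm_a6 hs hs' hc hc'
  have hm := map_surj (σ := π) (π := π') comm_a6 hs hs'
  have hcen : (π.comp (pΓ π π')).ker ≤ Subgroup.center (EE π π') :=
    (H95.StemCover.stem_EE comm_a6 hs hs' hc hc').2.1
  have h6 : Nat.card (π.comp (pΓ π π')).ker ∣ 6 :=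
    H95.StemCover.card_ker_dvd_cyclic (Cfsg.Agent.S2116.result 6 (Or.inl rfl)) hE _ hm hcen
  have hsurj := pΓ_surj (σ := π) (π := π') comm_a6 hst hs'
  have hcube : ∀ x : (π.comp (pΓ π π')).ker, x ^ 3 = 1 := by
    rintro ⟨x, hx⟩
    apply Subtype.ext
    apply Subtype.ext
    rw [SubmonoidClass.mk_pow, Subgroup.coe_pow]
    have h1 : π (x : P × p.G).1 = 1 := hx
    have h2 : π' (x : P × p.G).2 = 1 := by rw [← mem_fib.1 (EE_le x.2)]; exact h1
    refine Prod.ext ?_ ?_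
    · show (x : P × p.G).1 ^ 3 = 1
      have h4 : (⟨(x : P × p.G).1, h1⟩ : π.ker) ^ Nat.card π.ker = 1 := pow_card_eq_one'
      rw [h3] at h4
      exact congrArg Subtype.val h4
    · exact p.pi_ker_cube hπ' h2
  -- the kernel has order at most three
  have hfin : Finite (π.comp (pΓ π π')).ker := Nat.finite_of_card_ne_zero (fun h0 => by rw [h0] at h6; norm_num at h6)
  have hle : Nat.card (π.comp (pΓ π π')).ker ≤ 3 := by
    have h2 : ¬ 2 ∣ Nat.card (π.comp (pΓ π π')).ker := by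
      intro h
      obtain ⟨x, hx⟩ := exists_prime_orderOf_dvd_card' 2 h
      have h5 := orderOf_dvd_of_pow_eq_one (hcube x)
      rw [hx] at h5
      norm_num at h5
    have h7 : Nat.card (π.comp (pΓ π π')).ker ∣ 3 := by
      have : (Nat.card (π.comp (pΓ π π')).ker).Coprime 2 := ((Nat.Prime.coprime_iff_not_dvd Nat.prime_two).2 h2).symm
      exact this.dvd_of_dvd_mul_left (by simpa only [_root_.MonoidHom.mem_ker, _root_.MonoidHom.coe_comp, _root_.Function.comp_apply, _root_.Nat.reduceMul] using h6)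
    exact Nat.le_of_dvd (by norm_num) h7
  have hcardE : Nat.card (EE π π') = Nat.card (π.comp (pΓ π π')).ker * 360 := by
    rw [← Subgroup.card_mul_index (π.comp (pΓ π π')).ker, Subgroup.index_ker, MonoidHom.range_eq_top.2 hm,
      Subgroup.card_top, card_a6]
  have hcardP : Nat.card P = 3 * 360 := by
    rw [← Subgroup.card_mul_index π.ker, Subgroup.index_ker, MonoidHom.range_eq_top.2 hs, Subgroup.card_top, card_a6, h3]
  have hfinE : Finite (EE π π') := Nat.finite_of_card_ne_zero (by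
    rw [hcardE]
    have : 0 < Nat.card (π.comp (pΓ π π')).ker := Nat.card_pos
    omega)
  have hbij : Function.Bijective (pΓ π π') := by
    refine (Nat.bijective_iff_surjective_and_card _).2 ⟨hsurj, le_antisymm ?_ (Nat.card_le_card_of_surjective _ hsurj)⟩
    rw [hcardE, hcardP]
    omega
  let e : EE π π' ≃* P := MulEquiv.ofBijective (pΓ π π') hbij
  refine ⟨p.G.subtype.comp ((pP π π').comp e.symm.toMonoidHom), fun g => ?_, fun g => ?_⟩
  · show q E ((pP π π' (e.symm g) : p.G) : GL (Fin 3) E) = θ (π g)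
    rw [← hπ', ← comp_eq]
    congr 2
    exact e.apply_symm_apply g
  · exact (pP π π' (e.symm g)).2

end Par

end Cfsg.Agent.H956.K1
end

-- part: H956/K1/PSide
section
/-!
# The threefold cover of `A₆` (helper956)

`Cov P` : `P` is a perfect central extension of `A₆` with kernel of order `3`, with standard generators `a`, `b`.
-/

set_option autoImplicit false
set_option maxRecDepth 20000

namespace Cfsg.Agent.H956.K1

open Matrix Cfsg Cfsg.Geo Cfsg.Agent.H173.Pres Equiv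

/-- a perfect threefold cover of `A₆` with standard generators -/
structure Cov (P : Type*) [Group P] where
  /-- the projection -/
  π : P →* alternatingGroup (Fin 6)
  surj : Function.Surjective π
  cent : π.ker ≤ Subgroup.center P
  card : Nat.card π.ker = 3
  perf : commutator P = ⊤
  /-- the involution -/
  a : P
  /-- the element of order four -/
  b : P
  πa : π a = ta
  πb : π b = zs6
  a2 : a ^ 2 = 1
  b4 : b ^ 4 = 1

theorem ker_cube {P : Type*} [Group P] {π : P →* alternatingGroup (Fin 6)} (h : Nat.card π.ker = 3) {k : P}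
    (hk : k ∈ π.ker) : k ^ 3 = 1 := by
  have h4 : (⟨k, hk⟩ : π.ker) ^ Nat.card π.ker = 1 := pow_card_eq_one'
  rw [h] at h4
  exact congrArg Subtype.val h4

theorem exists_cov {P : Type*} [Group P] (π : P →* alternatingGroup (Fin 6)) (hs : Function.Surjective π)
    (hc : π.ker ≤ Subgroup.center P) (h3 : Nat.card π.ker = 3) (hp : commutator P = ⊤) :
    ∃ C : Cov P, C.π = π := by
  obtain ⟨g, hg⟩ := hs ta
  obtain ⟨k, hk⟩ := hs zs6
  have h1 : g ^ 2 ∈ π.ker := by
    rw [MonoidHom.mem_ker, map_pow, hg]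
    decide
  have h2 : k ^ 4 ∈ π.ker := by
    rw [MonoidHom.mem_ker, map_pow, hk]
    decide
  refine ⟨⟨π, hs, hc, h3, hp, g ^ 3, k ^ 9, ?_, ?_, ?_, ?_⟩, rfl⟩
  · rw [map_pow, hg]
    decide
  · rw [map_pow, hk]
    decide +kernel
  · rw [← pow_mul, mul_comm, pow_mul]
    exact ker_cube h3 h1
  · rw [← pow_mul, mul_comm, pow_mul, show 9 = 3 * 3 from rfl, pow_mul, ker_cube h3 h2, one_pow]

instance fact19 : Fact (Nat.Prime 19) := ⟨by norm_num⟩

/-- the parameters in the field with `19` elements -/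
def par19 : Par (ZMod 19) where
  φ := 5
  ω := 7
  hφ := by decide
  hω := by decide
  h3 := by decide

namespace Cov

variable {P : Type*} [Group P] (C : Cov P)

/-- the generator of the kernel -/
def z : P := (C.a * C.b) ^ 5
/-- an element of order three -/
def x : P := C.b * C.a * C.b⁻¹ * C.a * C.b ^ 2 * C.a
/-- an element of order three -/
def c : P := C.x * C.b * C.x * C.b⁻¹ * C.x * C.b
/-- the element of order five -/
def u : P := C.a * C.b ^ 2

theorem πx : C.π C.x = za6 := by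
  unfold x
  simp only [map_mul, map_pow, map_inv, C.πa, C.πb]
  exact word_za

theorem πc : C.π C.c = tc := by
  unfold c
  simp only [map_mul, map_inv, C.πx, C.πb]
  exact word_tc

theorem πu : C.π C.u = ta * zs6 ^ 2 := by
  unfold u
  simp only [map_mul, map_pow, C.πa, C.πb]

theorem z_mem : C.z ∈ C.π.ker := by
  unfold z
  rw [MonoidHom.mem_ker]
  simp only [map_mul, map_pow, C.πa, C.πb]
  decide +kernel

theorem ker_comm {k : P} (hk : k ∈ C.π.ker) (g : P) : g * k = k * g := Subgroup.mem_center_iff.1 (C.cent hk) g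

theorem z_comm (g : P) : g * C.z = C.z * g := C.ker_comm C.z_mem g

theorem z_cube : C.z ^ 3 = 1 := ker_cube C.card C.z_mem

/-- `a`, `b` generate `P` -/
theorem closure_ab : Subgroup.closure {C.a, C.b} = ⊤ := by
  set D := Subgroup.closure {C.a, C.b} with hD
  have ha : C.a ∈ D := Subgroup.subset_closure (by simp)
  have hb : C.b ∈ D := Subgroup.subset_closure (by simp)
  have hmap : D.map C.π = ⊤ := by
    rw [hD, MonoidHom.map_closure, eq_top_iff, ← closure_ta]
    apply Subgroup.closure_mono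
    rintro y (rfl | hy)
    · exact ⟨C.a, by simp, C.πa⟩
    · rw [Set.mem_singleton_iff.1 hy]
      exact ⟨C.b, by simp, C.πb⟩
  have hex : ∀ g : P, ∃ d ∈ D, ∃ k ∈ C.π.ker, g = d * k := by
    intro g
    have : C.π g ∈ D.map C.π := by rw [hmap]; trivial
    obtain ⟨d, hd, hdg⟩ := this
    exact ⟨d, hd, d⁻¹ * g, by rw [MonoidHom.mem_ker, map_mul, map_inv, hdg, inv_mul_cancel],
      (mul_inv_cancel_left d g).symm⟩
  have hle : commutator P ≤ D := by
    rw [commutator_def, Subgroup.commutator_le]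
    intro g _ h _
    obtain ⟨d, hd, k, hk, hg⟩ := hex g
    obtain ⟨e, he, l, hl, hh⟩ := hex h
    have c1 := C.ker_comm hk
    have c2 := C.ker_comm hl
    have e1 : g * h * g⁻¹ * h⁻¹ = d * e * d⁻¹ * e⁻¹ := by
      rw [hg, hh, _root_.mul_inv_rev, _root_.mul_inv_rev]
      calc d * k * (e * l) * (k⁻¹ * d⁻¹) * (l⁻¹ * e⁻¹)
          = d * (k * (e * l)) * k⁻¹ * d⁻¹ * l⁻¹ * e⁻¹ := by group
        _ = d * ((e * l) * k) * k⁻¹ * d⁻¹ * l⁻¹ * e⁻¹ := by rw [c1]
        _ = d * e * (l * d⁻¹) * l⁻¹ * e⁻¹ := by group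
        _ = d * e * (d⁻¹ * l) * l⁻¹ * e⁻¹ := by rw [c2]
        _ = d * e * d⁻¹ * e⁻¹ := by group
    rw [commutatorElement_def, e1]
    exact mul_mem (mul_mem (mul_mem hd he) (inv_mem hd)) (inv_mem he)
  rw [C.perf] at hle
  exact top_le_iff.1 hle

/-- **The explicit representation.** -/
theorem exists_rep [Finite P] {E : Type*} [Field E] (p : Par E) :
    ∃ ρ : P →* GL (Fin 3) E, ρ C.a = p.gA ∧ ρ C.b = p.gB ∧ Function.Injective ρ := by
  obtain ⟨θ, hA, hB, -, -, hinj⟩ := p.exists_theta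
  obtain ⟨ρ, h1, h2⟩ := p.exists_hom C.perf C.π C.surj C.cent C.card hA hB hinj
  have key : ∀ (g : P) (h : GL (Fin 3) E) (n : ℕ), Par.q E (ρ g) = Par.q E h → (h : Matrix (Fin 3) (Fin 3) E).det = 1 →
      g ^ n = 1 → h ^ n = 1 → n.Coprime 3 → ρ g = h := by
    intro g h n h3 hd hg hh hn
    obtain ⟨c, hc⟩ := Par.q_eq.1 h3
    have h4 : (c : E) ^ 3 = 1 := by
      have := p.G_det (h2 g)
      rw [hc, Matrix.det_smul, hd, mul_one, Fintype.card_fin] at this
      exact this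
    have h5 : (c : E) ^ n = 1 := by
      have h6 : ((ρ g ^ n : GL (Fin 3) E) : Matrix (Fin 3) (Fin 3) E) = 1 := by rw [← map_pow, hg, map_one, Units.val_one]
      have h8 : (h : Matrix (Fin 3) (Fin 3) E) ^ n = 1 := by rw [← Units.val_pow_eq_pow_val, hh, Units.val_one]
      rw [Units.val_pow_eq_pow_val, hc, smul_pow, h8] at h6
      have h7 := congrFun (congrFun h6 0) 0
      simpa using h7
    have h6 : (c : E) = 1 := by
      have h7 := orderOf_dvd_of_pow_eq_one h4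
      have h8 := orderOf_dvd_of_pow_eq_one h5
      have h9 := Nat.dvd_gcd h8 h7
      rw [hn] at h9
      exact orderOf_eq_one_iff.1 (Nat.dvd_one.1 h9)
    apply Units.ext
    rw [hc, h6, one_smul]
  have ea : ρ C.a = p.gA := key _ _ 2 (by rw [h1, C.πa, hA]) p.det_A C.a2 p.gA_sq (by decide)
  have eb : ρ C.b = p.gB := key _ _ 4 (by rw [h1, C.πb, hB]) p.det_B C.b4 p.gB_four (by decide)
  refine ⟨ρ, ea, eb, ?_⟩
  rw [injective_iff_map_eq_one]
  have hle : ρ.ker ≤ C.π.ker := by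
    intro g hg
    rw [MonoidHom.mem_ker] at hg ⊢
    apply hinj
    rw [← h1, hg, map_one, map_one]
  have h3 : Nat.card ρ.ker ∣ 3 := by
    have := Subgroup.card_dvd_of_le hle
    rwa [C.card] at this
  rcases (Nat.dvd_prime Nat.prime_three).1 h3 with h | h
  · intro g hg
    have := Subgroup.card_eq_one.1 h
    have h4 : g ∈ ρ.ker := hg
    rw [this] at h4
    exact h4
  · exfalso
    have h4 : ρ.ker = C.π.ker := by
      apply Subgroup.eq_of_le_of_card_ge hle
      rw [h, C.card]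
    have h5 : C.z ∈ ρ.ker := by rw [h4]; exact C.z_mem
    rw [MonoidHom.mem_ker] at h5
    unfold z at h5
    rw [map_pow, map_mul, ea, eb] at h5
    have h6 := p.d_five
    rw [h5, Units.val_one] at h6
    have h7 := congrFun (congrFun h6 0) 0
    simp at h7
    have h8 := p.ω_cube
    have h9 : p.ω * (p.ω * p.ω) = p.ω := by rw [← h7, mul_one]
    apply p.ω_ne_one
    linear_combination h8 - h9

section rep

variable {C} {E : Type*} [Field E] {p : Par E} {ρ : P →* GL (Fin 3) E} (ha : ρ C.a = p.gA) (hb : ρ C.b = p.gB)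

include ha hb

theorem rep_x : ρ C.x = p.gX := by
  unfold x
  simp only [map_mul, map_pow, map_inv, ha, hb]
  exact p.gX_eq.symm

theorem rep_c : ρ C.c = p.gC := by
  unfold c
  simp only [map_mul, map_inv, rep_x ha hb, hb]
  rfl

theorem rep_u : ρ C.u = p.gA * p.gB ^ 2 := by
  unfold u
  rw [map_mul, map_pow, ha, hb]

theorem rep_z : (ρ C.z : Matrix (Fin 3) (Fin 3) E) = (p.ω * p.ω) • 1 := by
  unfold z
  rw [map_pow, map_mul, ha, hb]
  exact p.d_five

end rep

/-- the relation between the two elements of order three -/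
theorem rel [Finite P] : C.x * C.c = C.z * (C.c * C.x) := by
  obtain ⟨ρ, ha, hb, hi⟩ := C.exists_rep par19
  apply hi
  apply Units.ext
  rw [map_mul, map_mul, map_mul, rep_x ha hb, rep_c ha hb, Units.val_mul (ρ C.z), rep_z ha hb, Matrix.smul_mul, one_mul]
  exact par19.comm_XC

theorem u_five [Finite P] : C.u ^ 5 = 1 := by
  obtain ⟨ρ, ha, hb, hi⟩ := C.exists_rep par19
  apply hi
  rw [map_pow, rep_u ha hb, map_one]
  exact par19.u_five

theorem z_ne_one [Finite P] : C.z ≠ 1 := by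
  obtain ⟨ρ, ha, hb, hi⟩ := C.exists_rep par19
  intro h
  have h1 := rep_z ha hb
  rw [h, map_one, Units.val_one] at h1
  have h2 := congrFun (congrFun h1 0) 0
  revert h2
  rw [Matrix.smul_apply, Matrix.one_apply_eq]
  show ¬ (1 : ZMod 19) = (7 * 7 : ZMod 19) • (1 : ZMod 19)
  decide

theorem mem_ker [Finite P] {k : P} (hk : k ∈ C.π.ker) : ∃ i : ℕ, k = C.z ^ i := by
  have h1 : Subgroup.zpowers C.z = C.π.ker := by
    apply Subgroup.eq_of_le_of_card_ge
    · rw [Subgroup.zpowers_le]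
      exact C.z_mem
    · rw [C.card, Nat.card_zpowers]
      exact (orderOf_eq_prime C.z_cube C.z_ne_one).ge
  rw [← h1] at hk
  rw [← mem_powers_iff_mem_zpowers, Submonoid.mem_powers_iff] at hk
  obtain ⟨i, hi⟩ := hk
  exact ⟨i, hi.symm⟩

/-- **Conjugacy lifts for elements of order prime to three.** -/
theorem conj_lift {n : ℕ} (hn : n.Coprime 3) {g h t : P} (hg : g ^ n = 1) (hh : h ^ n = 1)
    (ht : C.π t * C.π g = C.π h * C.π t) : t * g = h * t := by
  have h1 : h⁻¹ * (t * g * t⁻¹) ∈ C.π.ker := by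
    rw [MonoidHom.mem_ker]
    simp only [map_mul, map_inv, ht]
    group
  obtain ⟨k, hk⟩ : ∃ k, k = h⁻¹ * (t * g * t⁻¹) := ⟨_, rfl⟩
  rw [← hk] at h1
  have h2 : t * g * t⁻¹ = h * k := by rw [hk]; group
  have h3 : k ^ 3 = 1 := ker_cube C.card h1
  have h4 : k ^ n = 1 := by
    have h5 : (t * g * t⁻¹) ^ n = 1 := by rw [conj_pow, hg, mul_one, mul_inv_cancel]
    have hc : Commute h k := C.ker_comm h1 h
    rw [h2, hc.mul_pow, hh, one_mul] at h5
    exact h5
  have h6 : k = 1 := by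
    have h9 := Nat.dvd_gcd (orderOf_dvd_of_pow_eq_one h4) (orderOf_dvd_of_pow_eq_one h3)
    rw [hn] at h9
    exact orderOf_eq_one_iff.1 (Nat.dvd_one.1 h9)
  rw [h6, mul_one] at h2
  rw [← h2]
  group

theorem b_conj : ∃ t, t * C.b = C.b⁻¹ * t := by
  obtain ⟨t, ht⟩ := C.surj ⟨swap (2 : Fin 6) 3 * swap (4 : Fin 6) 5, Perm.mem_alternatingGroup.2 (by decide)⟩
  refine ⟨t, C.conj_lift (n := 4) (by decide) C.b4 (by rw [inv_pow, C.b4, inv_one]) ?_⟩
  rw [map_inv, ht, C.πb]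
  decide

theorem u_conj [Finite P] : ∃ t, t * C.u = C.u⁻¹ * t := by
  obtain ⟨t, ht⟩ := C.surj ⟨swap (2 : Fin 6) 4 * swap (3 : Fin 6) 5, Perm.mem_alternatingGroup.2 (by decide)⟩
  refine ⟨t, C.conj_lift (n := 5) (by decide) C.u_five (by rw [inv_pow, C.u_five, inv_one]) ?_⟩
  rw [map_inv, ht, C.πu]
  decide

/-- the lift of order five of `ab` -/
def d : P := C.a * C.b * C.z

theorem d_five : C.d ^ 5 = 1 := by
  have h : Commute (C.a * C.b) C.z := C.z_comm _
  unfold d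
  rw [h.mul_pow]
  show C.z * C.z ^ 5 = 1
  rw [← pow_succ', show 5 + 1 = 3 * 2 from rfl, pow_mul, C.z_cube, one_pow]

theorem d_conj : ∃ t, t * C.d = C.d⁻¹ * t := by
  obtain ⟨t, ht⟩ := C.surj ⟨_root_.Equiv.swap (1 : Fin 6) 4 * swap (3 : Fin 6) 5, Perm.mem_alternatingGroup.2 (by decide)⟩
  refine ⟨t, C.conj_lift (n := 5) (by decide) C.d_five (by rw [inv_pow, C.d_five, inv_one]) ?_⟩
  have : C.π C.d = ta * zs6 := by
    unfold d
    rw [map_mul, MonoidHom.mem_ker.1 C.z_mem, mul_one, map_mul, C.πa, C.πb]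
  rw [map_inv, ht, this]
  decide

/-- the seven representatives -/
def reps : Set P := {1, C.a, C.b, C.u, C.u ^ 2, C.x, C.x * C.c}

theorem t_reps (g : alternatingGroup (Fin 6)) : ∃ t r, (r = 1 ∨ r = ta ∨ r = zs6 ∨ r = ta * zs6 ^ 2 ∨
    r = (ta * zs6 ^ 2) ^ 2 ∨ r = za6 ∨ r = za6 * tc) ∧ t * g = r * t := by
  have ea : (ta : Perm (Fin 6)) = Dec.pa := by decide
  have eb : (zs6 : Perm (Fin 6)) = Dec.pb := by decide
  have eu : ((ta * zs6 ^ 2 : alternatingGroup (Fin 6)) : Perm (Fin 6)) = Dec.pu := by decide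
  have ex : (za6 : Perm (Fin 6)) = Dec.px := by decide
  have ew : ((za6 * tc : alternatingGroup (Fin 6)) : Perm (Fin 6)) = Dec.pw := by decide
  have hs : Perm.sign (g : Perm (Fin 6)) = 1 := Perm.mem_alternatingGroup.1 g.2
  have mk : ∀ (r : alternatingGroup (Fin 6)) (τ : Perm (Fin 6)), Perm.sign τ = 1 → τ * g = r * τ →
      ∃ t : alternatingGroup (Fin 6), t * g = r * t := by
    intro r τ h1 h2
    exact ⟨⟨τ, Perm.mem_alternatingGroup.2 h1⟩, Subtype.ext h2⟩
  have one : ∀ n : ℕ, g ^ n = 1 ↔ (g : Perm (Fin 6)) ^ n = 1 := by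
    intro n
    rw [← Subgroup.coe_pow]
    exact ⟨fun h => by rw [h]; rfl, fun h => Subtype.ext h⟩
  have one' : g = 1 ↔ (g : Perm (Fin 6)) = 1 := ⟨fun h => by rw [h]; rfl, fun h => Subtype.ext h⟩
  by_cases h1 : g = 1
  · exact ⟨1, 1, Or.inl rfl, by rw [h1]⟩
  rw [one'] at h1
  by_cases h4 : (g : Perm (Fin 6)) ^ 4 = 1
  · by_cases h2 : (g : Perm (Fin 6)) ^ 2 = 1
    · obtain ⟨τ, -, -, h5, h6⟩ := Dec.two_dec g h2 h1 hs
      rw [← ea] at h6
      obtain ⟨t, ht⟩ := mk _ τ h5 h6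
      exact ⟨t, ta, Or.inr (Or.inl rfl), ht⟩
    · obtain ⟨τ, -, -, h5, h6⟩ := Dec.four_dec g h4 h2 hs
      rw [← eb] at h6
      obtain ⟨t, ht⟩ := mk _ τ h5 h6
      exact ⟨t, zs6, Or.inr (Or.inr (Or.inl rfl)), ht⟩
  · by_cases h3 : (g : Perm (Fin 6)) ^ 3 = 1
    · obtain ⟨τ, ⟨-, -, h5, h6⟩ | ⟨-, -, h5, h6⟩⟩ := Dec.three_dec g h3 h1
      · rw [← ex] at h6
        obtain ⟨t, ht⟩ := mk _ τ h5 h6
        exact ⟨t, za6, Or.inr (Or.inr (Or.inr (Or.inr (Or.inr (Or.inl rfl))))), ht⟩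
      · rw [← ew] at h6
        obtain ⟨t, ht⟩ := mk _ τ h5 h6
        exact ⟨t, za6 * tc, Or.inr (Or.inr (Or.inr (Or.inr (Or.inr (Or.inr rfl))))), ht⟩
    · have h5 : (g : Perm (Fin 6)) ^ 5 = 1 := by
        by_contra h5
        exact Dec.ord_dec g h4 h3 h5 hs
      obtain ⟨τ, ⟨-, -, h5, h6⟩ | ⟨-, -, h5, h6⟩⟩ := Dec.five_dec g h5 h1
      · rw [← eu] at h6
        obtain ⟨t, ht⟩ := mk _ τ h5 h6
        exact ⟨t, ta * zs6 ^ 2, Or.inr (Or.inr (Or.inr (Or.inl rfl))), ht⟩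
      · rw [← eu, ← Subgroup.coe_pow] at h6
        obtain ⟨t, ht⟩ := mk _ τ h5 h6
        exact ⟨t, (ta * zs6 ^ 2) ^ 2, Or.inr (Or.inr (Or.inr (Or.inr (Or.inl rfl)))), ht⟩

/-- **Every element is conjugate to a representative up to the centre.** -/
theorem exists_reps [Finite P] (g : P) : ∃ (t r : P) (i : ℕ), r ∈ C.reps ∧ t * g = C.z ^ i * r * t := by
  obtain ⟨t, r, hr, ht⟩ := t_reps (C.π g)
  obtain ⟨t, rfl⟩ := C.surj t
  obtain ⟨r', hr', hrr⟩ : ∃ r' ∈ C.reps, C.π r' = r := by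
    rcases hr with rfl | rfl | rfl | rfl | rfl | rfl | rfl
    · exact ⟨1, by simp only [reps, _root_.Set.mem_insert_iff, _root_.Set.mem_singleton_iff, _root_.true_or], map_one _⟩
    · exact ⟨C.a, by simp only [reps, _root_.Set.mem_insert_iff, _root_.Set.mem_singleton_iff, _root_.true_or, _root_.or_true], C.πa⟩
    · exact ⟨C.b, by simp only [reps, _root_.Set.mem_insert_iff, _root_.Set.mem_singleton_iff, _root_.true_or, _root_.or_true], C.πb⟩
    · exact ⟨C.u, by simp only [reps, _root_.Set.mem_insert_iff, _root_.Set.mem_singleton_iff, _root_.true_or, _root_.or_true], C.πu⟩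
    · exact ⟨C.u ^ 2, by simp only [reps, _root_.Set.mem_insert_iff, _root_.Set.mem_singleton_iff, _root_.true_or, _root_.or_true], by rw [map_pow, C.πu]⟩
    · exact ⟨C.x, by simp only [reps, _root_.Set.mem_insert_iff, _root_.Set.mem_singleton_iff, _root_.left_eq_mul, _root_.true_or, _root_.or_true], C.πx⟩
    · exact ⟨C.x * C.c, by simp only [reps, _root_.Set.mem_insert_iff, _root_.mul_eq_left, _root_.Set.mem_singleton_iff, _root_.or_true], by rw [map_mul, C.πx, C.πc]⟩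
  have h1 : t * g * t⁻¹ * r'⁻¹ ∈ C.π.ker := by
    rw [MonoidHom.mem_ker]
    simp only [map_mul, map_inv, ht, hrr]
    group
  obtain ⟨i, hi⟩ := C.mem_ker h1
  refine ⟨t, r', i, hr', ?_⟩
  rw [← hi]
  group

/-- a class function with a central character is determined by its values on the representatives -/
theorem eq_zero_of_reps [Finite P] {E : Type*} [Field E] {ζ : E} (D : P → E) (h1 : ∀ g t, D (t * g * t⁻¹) = D g)
    (h2 : ∀ g, D (C.z * g) = ζ * D g) (h3 : ∀ r ∈ C.reps, D r = 0) (g : P) : D g = 0 := by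
  obtain ⟨t, r, i, hr, ht⟩ := C.exists_reps g
  have h4 : ∀ (i : ℕ) (g : P), D (C.z ^ i * g) = ζ ^ i * D g := by
    intro i
    induction i with
    | zero => intro g; rw [pow_zero, one_mul, pow_zero, one_mul]
    | succ i ih => intro g; rw [pow_succ, mul_assoc, ih, h2, pow_succ, mul_assoc]
  have h5 : t * g * t⁻¹ = C.z ^ i * r := by rw [ht]; group
  rw [← h1 g t, h5, h4, h3 r hr, mul_zero]

end Cov

end Cfsg.Agent.H956.K1
end

private theorem dce_095bc760b442 : _root_.True := by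
  try have : _root_.True := by simp only [_root_.Cfsg.Agent.H956.K1.mI.eq_1]
  try have : _root_.True := by simp only [_root_.Cfsg.Agent.H956.K1.mA.eq_1]
  try have : _root_.True := by simp only [_root_.Cfsg.Agent.H956.K1.ev.eq_1]
  try have : _root_.True := by simp only [_root_.Cfsg.Agent.H956.K1.mB.eq_1]
  try have : _root_.True := by simp only [_root_.Cfsg.Agent.H956.K1.c2.eq_1]
  try have : _root_.True := by simp only [_root_.Cfsg.Agent.H956.K1.Q.mul.eq_1]
  try have : _root_.True := by simp only [_root_.Cfsg.Agent.H956.K1.wb7.eq_1]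
  try have : _root_.True := by simp only [_root_.Cfsg.Agent.H956.K1.mX.eq_1]
  try have : _root_.True := by simp only [_root_.Cfsg.Agent.H956.K1.Cov.reps.eq_1]
  try have : _root_.True := by simp only [_root_.Cfsg.Agent.H956.K1.Par.m.eq_1]
  try have : _root_.True := by simp only [_root_.Cfsg.Agent.H956.K1.xc.eq_1]
  try have : _root_.True := by simp only [_root_.Cfsg.Agent.H956.K1.Par.G.eq_1]
  try have : _root_.True := by simp only [_root_.Cfsg.Agent.H956.K1.mm.eq_1]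
  try have : _root_.True := by simp only [_root_.Cfsg.Agent.H956.K1.cx.eq_1]
  try have : _root_.True := by simp only [_root_.Cfsg.Agent.H956.K1.mU2.eq_1]
  try have : _root_.True := by simp only [_root_.Cfsg.Agent.H956.K1.c1.eq_1]
  try have : _root_.True := by simp only [_root_.Cfsg.Agent.H956.K1.Q.ev.eq_1]
  try have : _root_.True := by simp only [_root_.Cfsg.Agent.H956.K1.Q.add.eq_1]
  try have : _root_.True := by simp only [_root_.Cfsg.Agent.H956.K1.mU.eq_1]
  exact _root_.True.intro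
end

-- part: H956/K1/Kill
section
set_option linter.all false
open scoped Cfsg.Agent.FastGrp

-- part: H956/K1/Rep3
section
/-!
# The three-dimensional representations of `3.A₆` (helper956)

`Cov.rep3` : every `R : P → GL₃(E)` with `R z = ω²` is conjugate to the explicit representation for `φ` or for `1 - φ`.
-/

set_option autoImplicit false
set_option maxRecDepth 20000

namespace Cfsg.Agent.H956.K1

open Matrix Cfsg Cfsg.Geo Cfsg.Agent.H173.Pres Module

section three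

variable {E : Type*} [Field E]

/-- the formula for the adjugate of a `3 × 3` matrix -/
theorem adj_three (M : Matrix (Fin 3) (Fin 3) E) :
    M.adjugate = M * M - M.trace • M + M.adjugate.trace • 1 := by
  rw [Matrix.adjugate_fin_three]
  ext i j
  (revert i j; simp only [Matrix.mul_apply, Fin.sum_univ_three, Matrix.trace_fin_three, Matrix.smul_apply, _root_.Fin.forall_fin_succ, Fin.isValue, _root_.Matrix.of_apply, _root_.Matrix.cons_val', _root_.Matrix.cons_val_fin_one, _root_.Matrix.cons_val_zero, _root_.Matrix.cons_val_one, _root_.Matrix.cons_val, _root_.Matrix.add_apply, _root_.Matrix.sub_apply, _root_.smul_eq_mul, _root_.Matrix.cons_val_succ, _root_.Fin.succ_zero_eq_one, _root_.Fin.succ_one_eq_two, _root_.IsEmpty.forall_iff, _root_.and_true, _root_.Matrix.one_apply_eq, _root_.mul_one, Nat.reduceAdd, _root_.ne_eq, _root_.zero_ne_one, _root_.not_false_eq_true, _root_.Matrix.one_apply_ne, _root_.MulZeroClass.mul_zero, _root_.add_zero,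 Fin.reduceEq, _root_.Fin.succ_ne_zero]) <;> (repeat' with_reducible apply And.intro) <;> ring

theorem adj_add_one (M : Matrix (Fin 3) (Fin 3) E) :
    (M + 1).adjugate = M.adjugate + (M.trace • 1 - M) + 1 := by
  rw [Matrix.adjugate_fin_three, Matrix.adjugate_fin_three]
  ext i j
  (revert i j; simp only [Matrix.trace_fin_three, Matrix.smul_apply, _root_.Fin.forall_fin_succ, Fin.isValue, _root_.Matrix.add_apply, _root_.Matrix.one_apply_eq, _root_.ne_eq, Fin.reduceEq, _root_.not_false_eq_true, _root_.Matrix.one_apply_ne, _root_.add_zero, _root_.zero_ne_one, _root_.one_ne_zero, _root_.Matrix.of_apply, _root_.Matrix.cons_val', _root_.Matrix.cons_val_fin_one, _root_.Matrix.sub_apply, _root_.smul_eq_mul, _root_.Matrix.cons_val_zero, _root_.Matrix.cons_val_succ, _root_.Fin.succ_zero_eq_one, _root_.Fin.succ_one_eq_two, _root_.IsEmpty.forall_iff, _root_.and_true, _root_.mul_one, Nat.reduceAdd, _root_.MulZeroClass.mul_zero, _root_.zero_sub,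 _root_.Fin.succ_ne_zero, _root_.add_sub_cancel_right]) <;> (repeat' with_reducible apply And.intro) <;> ring

theorem adj_of_inv {M N : Matrix (Fin 3) (Fin 3) E} (h : M * N = 1) (hd : M.det = 1) : M.adjugate = N := by
  have h1 : M.adjugate * M = 1 := by rw [Matrix.adjugate_mul, hd, one_smul]
  calc M.adjugate = M.adjugate * (M * N) := by rw [h, mul_one]
    _ = N := by rw [← mul_assoc, h1, one_mul]

set_option maxHeartbeats 2000000 in
/-- a `3 × 3` matrix with adjugate zero has rank at most one -/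
theorem rank_one_of_adj {N : Matrix (Fin 3) (Fin 3) E} (h : N.adjugate = 0) (h0 : N ≠ 0) :
    ∃ v l : Fin 3 → E, v ≠ 0 ∧ N = vecMulVec v l := by
  have key : ∀ i j k m, N k m * N i j = N i m * N k j := by
    rw [Matrix.adjugate_fin_three] at h
    have h00 := congrFun (congrFun h 0) 0
    have h01 := congrFun (congrFun h 0) 1
    have h02 := congrFun (congrFun h 0) 2
    have h10 := congrFun (congrFun h 1) 0
    have h11 := congrFun (congrFun h 1) 1
    have h12 := congrFun (congrFun h 1) 2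
    have h20 := congrFun (congrFun h 2) 0
    have h21 := congrFun (congrFun h 2) 1
    have h22 := congrFun (congrFun h 2) 2
    simp only [_root_.Fin.isValue, _root_.Matrix.of_apply, _root_.Matrix.cons_val', _root_.Matrix.cons_val_zero, _root_.Matrix.cons_val_fin_one, _root_.Matrix.zero_apply, _root_.Matrix.cons_val_one, _root_.Matrix.cons_val] at h00 h01 h02 h10 h11 h12 h20 h21 h22
    clear h h0
    intro i j k m
    fin_cases i <;> fin_cases j <;> fin_cases k <;> fin_cases m <;>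
      [rfl; rfl; rfl; exact mul_comm _ _; (simp only [Fin.zero_eta, Fin.mk_one, Fin.reduceFinMk]; (linear_combination h22));
       (simp only [Fin.zero_eta, Fin.mk_one, Fin.reduceFinMk]; (linear_combination -h12)); exact mul_comm _ _;
       (simp only [Fin.zero_eta, Fin.mk_one, Fin.reduceFinMk]; (linear_combination -h21));
       (simp only [Fin.zero_eta, Fin.mk_one, Fin.reduceFinMk]; (linear_combination h11)); rfl; rfl; rfl;
       (simp only [Fin.zero_eta, Fin.mk_one, Fin.reduceFinMk]; (linear_combination -h22)); exact mul_comm _ _;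
       (simp only [Fin.zero_eta, Fin.mk_one, Fin.reduceFinMk]; (linear_combination h02));
       (simp only [Fin.zero_eta, Fin.mk_one, Fin.reduceFinMk]; (linear_combination h21)); exact mul_comm _ _;
       (simp only [Fin.zero_eta, Fin.mk_one, Fin.reduceFinMk]; (linear_combination -h01)); rfl; rfl; rfl;
       (simp only [Fin.zero_eta, Fin.mk_one, Fin.reduceFinMk]; (linear_combination h12));
       (simp only [Fin.zero_eta, Fin.mk_one, Fin.reduceFinMk]; (linear_combination -h02)); exact mul_comm _ _;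
       (simp only [Fin.zero_eta, Fin.mk_one, Fin.reduceFinMk]; (linear_combination -h11));
       (simp only [Fin.zero_eta, Fin.mk_one, Fin.reduceFinMk]; (linear_combination h01)); exact mul_comm _ _; exact mul_comm _ _;
       (simp only [Fin.zero_eta, Fin.mk_one, Fin.reduceFinMk]; (linear_combination -h22));
       (simp only [Fin.zero_eta, Fin.mk_one, Fin.reduceFinMk]; (linear_combination h12)); rfl; rfl; rfl; exact mul_comm _ _;
       (simp only [Fin.zero_eta, Fin.mk_one, Fin.reduceFinMk]; (linear_combination h20));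
       (simp only [Fin.zero_eta, Fin.mk_one, Fin.reduceFinMk]; (linear_combination -h10));
       (simp only [Fin.zero_eta, Fin.mk_one, Fin.reduceFinMk]; (linear_combination h22)); exact mul_comm _ _;
       (simp only [Fin.zero_eta, Fin.mk_one, Fin.reduceFinMk]; (linear_combination -h02)); rfl; rfl; rfl;
       (simp only [Fin.zero_eta, Fin.mk_one, Fin.reduceFinMk]; (linear_combination -h20)); exact mul_comm _ _;
       (simp only [Fin.zero_eta, Fin.mk_one, Fin.reduceFinMk]; (linear_combination h00));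
       (simp only [Fin.zero_eta, Fin.mk_one, Fin.reduceFinMk]; (linear_combination -h12));
       (simp only [Fin.zero_eta, Fin.mk_one, Fin.reduceFinMk]; (linear_combination h02)); exact mul_comm _ _; rfl; rfl; rfl;
       (simp only [Fin.zero_eta, Fin.mk_one, Fin.reduceFinMk]; (linear_combination h10));
       (simp only [Fin.zero_eta, Fin.mk_one, Fin.reduceFinMk]; (linear_combination -h00)); exact mul_comm _ _; exact mul_comm _ _;
       (simp only [Fin.zero_eta, Fin.mk_one, Fin.reduceFinMk]; (linear_combination h21));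
       (simp only [Fin.zero_eta, Fin.mk_one, Fin.reduceFinMk]; (linear_combination -h11)); exact mul_comm _ _;
       (simp only [Fin.zero_eta, Fin.mk_one, Fin.reduceFinMk]; (linear_combination -h20));
       (simp only [Fin.zero_eta, Fin.mk_one, Fin.reduceFinMk]; (linear_combination h10)); rfl; rfl; rfl;
       (simp only [Fin.zero_eta, Fin.mk_one, Fin.reduceFinMk]; (linear_combination -h21)); exact mul_comm _ _;
       (simp only [Fin.zero_eta, Fin.mk_one, Fin.reduceFinMk]; (linear_combination h01));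
       (simp only [Fin.zero_eta, Fin.mk_one, Fin.reduceFinMk]; (linear_combination h20)); exact mul_comm _ _;
       (simp only [Fin.zero_eta, Fin.mk_one, Fin.reduceFinMk]; (linear_combination -h00)); rfl; rfl; rfl;
       (simp only [Fin.zero_eta, Fin.mk_one, Fin.reduceFinMk]; (linear_combination h11));
       (simp only [Fin.zero_eta, Fin.mk_one, Fin.reduceFinMk]; (linear_combination -h01)); exact mul_comm _ _;
       (simp only [Fin.zero_eta, Fin.mk_one, Fin.reduceFinMk]; (linear_combination -h10));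
       (simp only [Fin.zero_eta, Fin.mk_one, Fin.reduceFinMk]; (linear_combination h00)); exact mul_comm _ _; rfl; rfl; rfl]
  obtain ⟨i, j, hij⟩ : ∃ i j, N i j ≠ 0 := by
    by_contra hcon
    push Not at hcon
    exact h0 (Matrix.ext hcon)
  refine ⟨fun k => N k j, fun m => N i m / N i j, ?_, ?_⟩
  · intro h1
    exact hij (congrFun h1 i)
  · ext k m
    rw [vecMulVec_apply, mul_div_assoc', eq_div_iff hij, key i j k m]
    ring

/-- involutions of determinant one in dimension three -/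
theorem inv_three {M : Matrix (Fin 3) (Fin 3) E} (h2 : M * M = 1) (hd : M.det = 1) (h1 : M ≠ 1) :
    M.trace = -1 ∧ ∃ v l : Fin 3 → E, v ≠ 0 ∧ M = vecMulVec v l - 1 := by
  have ha : M.adjugate = M := adj_of_inv h2 hd
  have ht : M.trace = -1 := by
    have h3 := adj_three M
    rw [ha, h2] at h3
    by_contra hne
    apply h1
    have h4 : (1 + M.trace) • (M - 1) = 0 := by
      rw [smul_sub, add_smul, add_smul, one_smul, one_smul]
      have h5 : M - (1 - M.trace • M + M.trace • 1) = 0 := sub_eq_zero.2 h3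
      rw [← h5]
      abel
    rcases smul_eq_zero.1 h4 with h5 | h5
    · exact absurd (by linear_combination h5) hne
    · exact sub_eq_zero.1 h5
  refine ⟨ht, ?_⟩
  have hN : (M + 1).adjugate = 0 := by
    rw [adj_add_one, ha, ht]
    ext i j
    simp
  have h0 : M + 1 ≠ 0 := by
    intro h
    have h3 : M = -1 := eq_neg_of_add_eq_zero_left h
    rw [h3, Matrix.det_neg, Matrix.det_one, Fintype.card_fin] at hd
    have h4 : (-1 : E) = 1 := by linear_combination hd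
    apply h1
    rw [h3]
    ext i j
    rw [Matrix.neg_apply]
    by_cases hij : i = j
    · rw [hij, Matrix.one_apply_eq, h4]
    · rw [Matrix.one_apply_ne hij, neg_zero]
  obtain ⟨v, l, hv, hl⟩ := rank_one_of_adj hN h0
  exact ⟨v, l, hv, by rw [← hl, add_sub_cancel_right]⟩

end three

/-- a homomorphism from a perfect group to a field is trivial -/
theorem hom_eq_one {P : Type*} [Group P] (hP : commutator P = ⊤) {E : Type*} [Field E] (f : P →* E) (g : P) :
    f g = 1 := by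
  have h1 : g ∈ (MonoidHom.toHomUnits f).ker := by
    have h2 := Abelianization.commutator_subset_ker (MonoidHom.toHomUnits f)
    rw [hP] at h2
    exact h2 (Subgroup.mem_top g)
  have h3 := congrArg Units.val h1
  exact h3

/-- a subspace invariant under a perfect group with a scalar `c` has `c ^ dim = 1` -/
theorem pow_finrank {P : Type*} [Group P] (hP : commutator P = ⊤) {E : Type*} [Field E] {n : Type*} [Fintype n]
    [DecidableEq n] (R : P →* GL n E) (W : Submodule E (n → E))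
    (hW : ∀ g, ∀ w ∈ W, (R g : Matrix n n E) *ᵥ w ∈ W) {z : P} {c : E} (hz : (R z : Matrix n n E) = c • 1) :
    c ^ finrank E W = 1 := by
  let f : P →* E :=
    { toFun := fun g => LinearMap.det ((Matrix.toLin' (R g : Matrix n n E)).restrict (p := W) (q := W)
        (fun w hw => by rw [Matrix.toLin'_apply]; exact hW g w hw))
      map_one' := by
        rw [← LinearMap.det_id (M := W) (A := E)]
        congr 1
        ext w
        simp only [_root_.map_one, _root_.Units.val_one, _root_.Matrix.toLin'_one, _root_.LinearMap.coe_restrict_apply, _root_.LinearMap.id_coe, _root_.id_eq]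
      map_mul' := fun g h => by
        rw [← LinearMap.det_comp]
        congr 1
        ext w
        simp [Matrix.mulVec_mulVec] }
  have h1 := hom_eq_one hP f z
  have h2 : f z = c ^ finrank E W := by
    show LinearMap.det _ = _
    have h3 : (Matrix.toLin' (R z : Matrix n n E)).restrict (p := W) (q := W)
        (fun w hw => by rw [Matrix.toLin'_apply]; exact hW z w hw) = c • LinearMap.id := by
      ext w
      simp only [hz, _root_.map_smul, _root_.Matrix.toLin'_one, _root_.LinearMap.coe_restrict_apply, _root_.LinearMap.smul_apply, _root_.LinearMap.id_coe, _root_.id_eq, _root_.Pi.smul_apply, _root_.smul_eq_mul, _root_.SetLike.val_smul]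
    rw [h3, LinearMap.det_smul, LinearMap.det_id, mul_one]
  rw [← h2, h1]

namespace Cov

variable {P : Type*} [Group P] (C : Cov P) {E : Type*} [Field E]

include C in
theorem det_one (R : P →* GL (Fin 3) E) (g : P) : (R g : Matrix (Fin 3) (Fin 3) E).det = 1 :=
  hom_eq_one C.perf (Matrix.detMonoidHom.comp ((Units.coeHom _).comp R)) g

/-- invariance under the generators is invariance -/
theorem invariant [Finite P] {n : Type*} [Fintype n] [DecidableEq n] (R : P →* GL n E) (W : Submodule E (n → E))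
    (ha : ∀ w ∈ W, (R C.a : Matrix n n E) *ᵥ w ∈ W) (hb : ∀ w ∈ W, (R C.b : Matrix n n E) *ᵥ w ∈ W) (g : P) :
    ∀ w ∈ W, (R g : Matrix n n E) *ᵥ w ∈ W := by
  have hmul : ∀ g h : P, (∀ w ∈ W, (R g : Matrix n n E) *ᵥ w ∈ W) → (∀ w ∈ W, (R h : Matrix n n E) *ᵥ w ∈ W) →
      ∀ w ∈ W, (R (g * h) : Matrix n n E) *ᵥ w ∈ W := by
    intro g h hg hh w hw
    rw [map_mul, Units.val_mul, ← Matrix.mulVec_mulVec]
    exact hg _ (hh _ hw)
  have hone : ∀ w ∈ W, (R 1 : Matrix n n E) *ᵥ w ∈ W := by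
    intro w hw
    rw [map_one, Units.val_one, Matrix.one_mulVec]
    exact hw
  have hg : g ∈ Subgroup.closure {C.a, C.b} := by rw [C.closure_ab]; trivial
  induction hg using Subgroup.closure_induction with
  | mem x hx =>
    rcases hx with rfl | hx
    · exact ha
    · rw [Set.mem_singleton_iff.1 hx]; exact hb
  | one => exact hone
  | mul x y _ _ hx hy => exact hmul x y hx hy
  | inv x _ hx =>
    have h1 : x⁻¹ = x ^ (orderOf x - 1) := by
      rw [inv_eq_iff_mul_eq_one, ← pow_succ', Nat.sub_add_cancel (orderOf_pos x), pow_orderOf_eq_one]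
    rw [h1]
    generalize orderOf x - 1 = k
    induction k with
    | zero => rw [pow_zero]; exact hone
    | succ k ih => rw [pow_succ]; exact hmul _ _ ih hx

/-- a representation with `R z = c ≠ 1` has kernel inside the centre -/
theorem ker_le {n : Type*} [Fintype n] [DecidableEq n] (R : P →* GL n E) (hz : R C.z ≠ 1) {g : P} (hg : R g = 1) :
    C.π g = 1 := by
  have h1 : (R.ker.map C.π).Normal := Subgroup.Normal.map inferInstance _ C.surj
  rcases h1.eq_bot_or_eq_top with h | h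
  · have : C.π g ∈ R.ker.map C.π := ⟨g, hg, rfl⟩
    rw [h] at this
    exact this
  · exfalso
    have hex : ∀ g : P, ∃ d ∈ R.ker, ∃ k ∈ C.π.ker, g = d * k := by
      intro g
      have : C.π g ∈ R.ker.map C.π := by rw [h]; trivial
      obtain ⟨d, hd, hdg⟩ := this
      exact ⟨d, hd, d⁻¹ * g, by rw [MonoidHom.mem_ker, map_mul, map_inv, hdg, inv_mul_cancel],
        (mul_inv_cancel_left d g).symm⟩
    have hle : commutator P ≤ R.ker := by
      rw [commutator_def, Subgroup.commutator_le]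
      intro g _ h _
      obtain ⟨d, hd, k, hk, rfl⟩ := hex g
      obtain ⟨e, he, l, hl, rfl⟩ := hex h
      have c1 := C.ker_comm hk l
      have e1 : R (k * l * k⁻¹ * l⁻¹) = 1 := by
        rw [← c1, show l * k * k⁻¹ * l⁻¹ = 1 by group, map_one]
      rw [MonoidHom.mem_ker, commutatorElement_def]
      simp only [map_mul, map_inv, MonoidHom.mem_ker.1 hd, MonoidHom.mem_ker.1 he, one_mul]
      simpa only [map_mul, map_inv] using e1
    rw [C.perf] at hle
    exact hz (hle (Subgroup.mem_top C.z))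

variable {C}

theorem R_z_ne {n : Type*} [Fintype n] [DecidableEq n] [Nonempty n] {R : P →* GL n E} {c : E}
    (hz : (R C.z : Matrix n n E) = c • 1) (hc : c ≠ 1) : R C.z ≠ 1 := by
  intro h
  rw [h, Units.val_one] at hz
  obtain ⟨i⟩ := ‹Nonempty n›
  have h7 := congrFun (congrFun hz i) i
  rw [Matrix.smul_apply, Matrix.one_apply_eq, smul_eq_mul, mul_one] at h7
  exact hc h7.symm

theorem ww_ne (p : Par E) : p.ω * p.ω ≠ 1 := by
  intro h
  apply p.ω_ne_one
  have := p.ω_cube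
  calc p.ω = p.ω ^ 3 * p.ω := by rw [this, one_mul]
    _ = (p.ω * p.ω) * (p.ω * p.ω) := by ring
    _ = 1 := by rw [h, one_mul]

/-- no invariant subspaces -/
theorem irr3 [Finite P] {p : Par E} {R : P →* GL (Fin 3) E}
    (hz : (R C.z : Matrix (Fin 3) (Fin 3) E) = (p.ω * p.ω) • 1) (W : Submodule E (Fin 3 → E))
    (ha : ∀ w ∈ W, (R C.a : Matrix (Fin 3) (Fin 3) E) *ᵥ w ∈ W)
    (hb : ∀ w ∈ W, (R C.b : Matrix (Fin 3) (Fin 3) E) *ᵥ w ∈ W) (h0 : W ≠ ⊥) : W = ⊤ := by
  have h1 := pow_finrank C.perf R W (C.invariant R W ha hb) hz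
  have h2 : finrank E W ≤ 3 := by
    have := Submodule.finrank_le W
    rwa [Module.finrank_fin_fun] at this
  have h3 : finrank E W ≠ 0 := fun h => h0 (Submodule.finrank_eq_zero.1 h)
  have h4 := ww_ne p
  have h5 := p.ω_cube
  have h6 : finrank E W = 3 := by
    interval_cases hf : finrank E W
    · exact absurd rfl h3
    · exact absurd (by simpa only [_root_.pow_one] using h1) h4
    · exfalso
      apply p.ω_ne_one
      calc p.ω = p.ω ^ 3 * p.ω := by rw [h5, one_mul]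
        _ = (p.ω * p.ω) ^ 2 := by ring
        _ = 1 := h1
    · rfl
  apply Submodule.eq_top_of_finrank_eq
  rw [h6, Module.finrank_fin_fun]

end Cov

end Cfsg.Agent.H956.K1
end

-- part: H956/K1/Rep3b
section
/-!
# The three-dimensional representations of `3.A₆`: uniqueness (helper956)

`Cov.rep3` : every `R : P → GL₃(E)` with `R z = ω²` is conjugate to the explicit representation for `φ` or for `1 - φ`.
-/

set_option autoImplicit false
set_option maxRecDepth 20000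

namespace Cfsg.Agent.H956.K1

open Matrix Cfsg Cfsg.Geo Cfsg.Agent.H173.Pres Module

theorem trace_conj_GL {n : Type*} [Fintype n] [DecidableEq n] {E : Type*} [Field E] {P : Type*} [Group P]
    (R : P →* GL n E) {g h t : P} (ht : t * g = h * t) : (R g : Matrix n n E).trace = (R h : Matrix n n E).trace := by
  have h1 : h = t * g * t⁻¹ := by rw [ht]; group
  rw [h1, map_mul, map_mul, Units.val_mul, Units.val_mul, Matrix.trace_mul_cycle, ← Units.val_mul, ← map_mul,
    inv_mul_cancel, map_one, Units.val_one, one_mul]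

namespace Par

variable {E : Type*} [Field E] (p : Par E)

theorem m_B : p.m mB = !![0, 0, 1; 1, 0, -1; 0, 1, 1] := by
  ext i j
  (revert i j; simp only [m, ev, mB, Q.ev, _root_.Fin.forall_fin_succ, Int.reduceNeg, _root_.Matrix.cons_val', _root_.Matrix.cons_val_fin_one, _root_.Matrix.of_apply, Fin.isValue, _root_.Matrix.cons_val_zero, _root_.Matrix.cons_val_succ, _root_.forall_const, _root_.Int.cast_zero, _root_.MulZeroClass.zero_mul, _root_.add_zero, _root_.Int.cast_one, _root_.and_self, _root_.Int.cast_neg, _root_.implies_true])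

theorem m_A : p.m mA = !![1, 1 + p.ω * p.φ, -p.φ; 0, -1, 0; 0, 0, -1] := by
  ext i j
  (revert i j; simp only [m, ev, mA, Q.ev, _root_.Fin.forall_fin_succ, Int.reduceNeg, _root_.Matrix.cons_val', _root_.Matrix.cons_val_fin_one, _root_.Matrix.of_apply, Fin.isValue, _root_.Matrix.cons_val_zero, _root_.Matrix.cons_val_succ, _root_.forall_const, _root_.Int.cast_one, _root_.Int.cast_zero, _root_.MulZeroClass.zero_mul, _root_.add_zero, _root_.one_mul, _root_.zero_add, _root_.add_right_inj, _root_.Int.cast_neg, _root_.neg_mul, _root_.implies_true, _root_.and_true, _root_.true_and]) <;> (repeat' with_reducible apply And.intro)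
  ring

end Par

namespace Cov

variable {P : Type*} [Group P] {C : Cov P} {E : Type*} [Field E]

theorem rep3 [Finite P] (p : Par E) (R : P →* GL (Fin 3) E)
    (hz : (R C.z : Matrix (Fin 3) (Fin 3) E) = (p.ω * p.ω) • 1) :
    ∃ (Y : GL (Fin 3) E) (p' : Par E), (p' = p ∨ p' = p.swap) ∧ R C.a = Y * p'.gA * Y⁻¹ ∧ R C.b = Y * p'.gB * Y⁻¹ := by
  have hzne : R C.z ≠ 1 := R_z_ne (C := C) hz (ww_ne p)
  obtain ⟨a', ha'⟩ : ∃ M, M = (R C.a : Matrix (Fin 3) (Fin 3) E) := ⟨_, rfl⟩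
  obtain ⟨b', hb'⟩ : ∃ M, M = (R C.b : Matrix (Fin 3) (Fin 3) E) := ⟨_, rfl⟩
  -- the involution
  have ha2 : a' * a' = 1 := by
    rw [ha', ← Units.val_mul, ← map_mul, ← pow_two, C.a2, map_one, Units.val_one]
  have ha1 : a' ≠ 1 := by
    intro h
    have h1 : R C.a = 1 := Units.ext (by rw [← ha', h, Units.val_one])
    have h2 := C.ker_le R hzne h1
    rw [C.πa] at h2
    revert h2
    decide
  obtain ⟨-, v, l, hv, hvl⟩ := inv_three ha2 (by rw [ha']; exact C.det_one R _) ha1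
  have htr : a'.trace = -1 := (inv_three ha2 (by rw [ha']; exact C.det_one R _) ha1).1
  have hlv : l ⬝ᵥ v = 2 := by
    rw [hvl, Matrix.trace_sub, Matrix.trace_vecMulVec, Matrix.trace_one, Fintype.card_fin] at htr
    rw [dotProduct_comm]
    push_cast at htr
    linear_combination htr
  have hav : ∀ w : Fin 3 → E, a' *ᵥ w = (l ⬝ᵥ w) • v - w := by
    intro w
    rw [hvl, Matrix.sub_mulVec, Matrix.one_mulVec, Matrix.vecMulVec_mulVec, op_smul_eq_smul]
  -- the element of order four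
  have hb4 : b' * b' * (b' * b') = 1 := by
    rw [hb', ← Units.val_mul, ← map_mul, ← Units.val_mul, ← map_mul]
    have : C.b * C.b * (C.b * C.b) = C.b ^ 4 := by rw [← pow_two, ← pow_two, ← pow_mul]
    rw [this, C.b4, map_one, Units.val_one]
  have hbb : b' * b' ≠ 1 := by
    intro h
    have h1 : R (C.b * C.b) = 1 := Units.ext (by rw [map_mul, Units.val_mul, ← hb', h, Units.val_one])
    have h2 := C.ker_le R hzne h1
    rw [map_mul, C.πb] at h2
    revert h2
    decide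
  have hdb : b'.det = 1 := by rw [hb']; exact C.det_one R _
  have htb2 : (b' * b').trace = -1 := (inv_three hb4 (by rw [Matrix.det_mul, hdb, one_mul]) hbb).1
  obtain ⟨bi, hbi⟩ : ∃ M, M = (R C.b⁻¹ : Matrix (Fin 3) (Fin 3) E) := ⟨_, rfl⟩
  have hbbi : b' * bi = 1 := by rw [hb', hbi, ← Units.val_mul, ← map_mul, mul_inv_cancel, map_one, Units.val_one]
  have htbi : b'.trace = bi.trace := by
    obtain ⟨t, ht⟩ := C.b_conj
    rw [hb', hbi]
    exact trace_conj_GL R ht
  have hadj := adj_of_inv hbbi hdb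
  have h3 := adj_three b'
  rw [hadj, ← htbi] at h3
  have hτ : b'.trace = 1 := by
    have h4 := congrArg Matrix.trace h3
    rw [Matrix.trace_add, Matrix.trace_sub, Matrix.trace_smul, Matrix.trace_smul, Matrix.trace_one, htb2,
      Fintype.card_fin, ← htbi, smul_eq_mul, smul_eq_mul] at h4
    push_cast at h4
    have h5 : (b'.trace - 1) ^ 2 = 0 := by linear_combination h4
    exact sub_eq_zero.1 (pow_eq_zero_iff two_ne_zero |>.1 h5)
  rw [hτ, one_smul, one_smul] at h3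
  have hb3 : b' * (b' * b') = b' * b' - b' + 1 := by
    have h5 : b' * bi = b' * (b' * b') - b' * b' + b' := by
      rw [h3, mul_add, mul_sub, mul_one]
    rw [hbbi] at h5
    rw [h5]
    abel
  have hbv : ∀ w : Fin 3 → E, b' *ᵥ (b' *ᵥ (b' *ᵥ w)) = b' *ᵥ (b' *ᵥ w) - b' *ᵥ w + w := by
    intro w
    rw [Matrix.mulVec_mulVec, Matrix.mulVec_mulVec, mul_assoc, hb3, Matrix.add_mulVec, Matrix.sub_mulVec,
      Matrix.one_mulVec, ← Matrix.mulVec_mulVec]
  -- the basis
  obtain ⟨v1, hv1⟩ : ∃ w, w = b' *ᵥ v := ⟨_, rfl⟩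
  obtain ⟨v2, hv2⟩ : ∃ w, w = b' *ᵥ v1 := ⟨_, rfl⟩
  have hv3 : b' *ᵥ v2 = v2 - v1 + v := by rw [hv2, hv1, hbv]
  obtain ⟨y, hy⟩ : ∃ y, y = l ⬝ᵥ v1 := ⟨_, rfl⟩
  obtain ⟨x, hx⟩ : ∃ x, x = l ⬝ᵥ v2 := ⟨_, rfl⟩
  let Y : Matrix (Fin 3) (Fin 3) E := Matrix.of fun i j => ![v, v1, v2] j i
  have hY : ∀ w : Fin 3 → E, Y *ᵥ w = w 0 • v + w 1 • v1 + w 2 • v2 := by
    intro w
    ext i
    rw [Matrix.mulVec, dotProduct, Fin.sum_univ_three]
    simp only [Y, _root_.Nat.succ_eq_add_one, _root_.Nat.reduceAdd, _root_.Matrix.cons_val', _root_.Matrix.cons_val_fin_one, _root_.Fin.isValue, _root_.Matrix.of_apply, _root_.Matrix.cons_val_zero, _root_.Matrix.cons_val_one, _root_.Matrix.cons_val, _root_.Pi.add_apply, _root_.Pi.smul_apply, _root_.smul_eq_mul]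
    ring
  let A0 : Matrix (Fin 3) (Fin 3) E := !![1, y, x; 0, -1, 0; 0, 0, -1]
  let B0 : Matrix (Fin 3) (Fin 3) E := !![0, 0, 1; 1, 0, -1; 0, 1, 1]
  have hA0 : ∀ w, A0 *ᵥ w = ![w 0 + y * w 1 + x * w 2, -w 1, -w 2] := by
    intro w
    ext i
    (revert i; simp only [A0, Matrix.mulVec, dotProduct, Fin.sum_univ_three, _root_.Fin.forall_fin_succ, _root_.Matrix.of_apply, _root_.Matrix.cons_val', _root_.Matrix.cons_val_fin_one, Fin.isValue, _root_.Matrix.cons_val_zero, _root_.Matrix.cons_val_one, _root_.Matrix.cons_val, _root_.Nat.succ_eq_add_one, Nat.reduceAdd, _root_.one_mul, _root_.Matrix.cons_val_succ, _root_.MulZeroClass.zero_mul, _root_.neg_mul, _root_.zero_add, _root_.add_zero, _root_.implies_true, _root_.and_self])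
  have hB0 : ∀ w, B0 *ᵥ w = ![w 2, w 0 - w 2, w 1 + w 2] := by
    intro w
    ext i
    (revert i; simp only [B0, Matrix.mulVec, dotProduct, Fin.sum_univ_three, _root_.Fin.forall_fin_succ, _root_.Matrix.of_apply, _root_.Matrix.cons_val', _root_.Matrix.cons_val_fin_one, Fin.isValue, _root_.Matrix.cons_val_zero, _root_.Matrix.cons_val_one, _root_.Matrix.cons_val, _root_.Nat.succ_eq_add_one, Nat.reduceAdd, _root_.MulZeroClass.zero_mul, _root_.add_zero, _root_.one_mul, _root_.zero_add, _root_.Matrix.cons_val_succ, _root_.neg_mul, _root_.implies_true, _root_.and_true, _root_.true_and]) <;> (repeat' with_reducible apply And.intro)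
    ring
  have hAY : a' * Y = Y * A0 := by
    apply Matrix.ext_of_mulVec_single
    intro i
    rw [← Matrix.mulVec_mulVec, ← Matrix.mulVec_mulVec, hA0, hY, hY, Matrix.mulVec_add, Matrix.mulVec_add,
      Matrix.mulVec_smul, Matrix.mulVec_smul, Matrix.mulVec_smul, hav, hav, hav, hlv, ← hy, ← hx]
    fin_cases i <;> simp
    all_goals first | (rw [two_smul]; abel) | abel
  have hBY : b' * Y = Y * B0 := by
    apply Matrix.ext_of_mulVec_single
    intro i
    rw [← Matrix.mulVec_mulVec, ← Matrix.mulVec_mulVec, hB0, hY, hY, Matrix.mulVec_add, Matrix.mulVec_add,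
      Matrix.mulVec_smul, Matrix.mulVec_smul, Matrix.mulVec_smul, ← hv1, ← hv2, hv3]
    (revert i; simp only [_root_.Fin.forall_fin_succ, Fin.isValue, _root_.smul_add, _root_.Nat.succ_eq_add_one, Nat.reduceAdd, _root_.Matrix.cons_val_zero, _root_.Matrix.cons_val_one, _root_.Matrix.cons_val, _root_.Pi.single_eq_same, _root_.one_smul, _root_.ne_eq, _root_.one_ne_zero, _root_.not_false_eq_true, _root_.Pi.single_eq_of_ne, _root_.zero_smul, _root_.add_zero, Fin.reduceEq, _root_.sub_zero, _root_.zero_add, _root_.Fin.succ_ne_zero, _root_.Pi.single_eq_of_ne', _root_.zero_sub, _root_.neg_smul, _root_.Fin.succ_zero_eq_one, _root_.neg_zero, _root_.Fin.succ_one_eq_two, _root_.IsEmpty.forall_iff, _root_.and_true, _root_.true_and]) <;> (repeat' with_reducible apply And.intro)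
    abel
  have hunit : IsUnit Y := by
    rw [← Matrix.mulVec_surjective_iff_isUnit]
    have h6 := irr3 (C := C) hz (LinearMap.range Y.mulVecLin) (by
        rintro _ ⟨w, rfl⟩
        exact ⟨A0 *ᵥ w, by rw [Matrix.mulVecLin_apply, Matrix.mulVecLin_apply, Matrix.mulVec_mulVec, ← hAY, ← ha',
          Matrix.mulVec_mulVec]⟩) (by
        rintro _ ⟨w, rfl⟩
        exact ⟨B0 *ᵥ w, by rw [Matrix.mulVecLin_apply, Matrix.mulVecLin_apply, Matrix.mulVec_mulVec, ← hBY, ← hb',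
          Matrix.mulVec_mulVec]⟩) (by
        intro h
        apply hv
        have h7 : Y *ᵥ ![1, 0, 0] ∈ LinearMap.range Y.mulVecLin := ⟨_, rfl⟩
        rw [h, Submodule.mem_bot, hY] at h7
        simpa using h7)
    intro w
    have : w ∈ LinearMap.range Y.mulVecLin := by rw [h6]; trivial
    obtain ⟨w', hw'⟩ := this
    exact ⟨w', hw'⟩
  obtain ⟨Z, hZ⟩ := hunit
  have hYi : Y * ((Z⁻¹ : GL (Fin 3) E) : Matrix (Fin 3) (Fin 3) E) = 1 := by rw [← hZ, ← Units.val_mul, mul_inv_cancel, Units.val_one]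
  have hiY : ((Z⁻¹ : GL (Fin 3) E) : Matrix (Fin 3) (Fin 3) E) * Y = 1 := by rw [← hZ, ← Units.val_mul, inv_mul_cancel, Units.val_one]
  have haY : a' = Y * A0 * ((Z⁻¹ : GL (Fin 3) E) : Matrix (Fin 3) (Fin 3) E) := by rw [← hAY, mul_assoc, hYi, mul_one]
  have hbY : b' = Y * B0 * ((Z⁻¹ : GL (Fin 3) E) : Matrix (Fin 3) (Fin 3) E) := by rw [← hBY, mul_assoc, hYi, mul_one]
  -- the element of order five
  have hu : SemiconjBy Y (A0 * B0 * B0) (a' * b' * b') := by
    have h6 : SemiconjBy Y A0 a' := hAY.symm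
    have h7 : SemiconjBy Y B0 b' := hBY.symm
    exact (h6.mul_right h7).mul_right h7
  have hu5 : (a' * b' * b') ^ 5 = 1 := by
    have h6 : a' * b' * b' = (R C.u : Matrix (Fin 3) (Fin 3) E) := by
      rw [ha', hb', ← Units.val_mul, ← map_mul, ← Units.val_mul, ← map_mul, mul_assoc, ← pow_two]
      rfl
    rw [h6, ← Units.val_pow_eq_pow_val, ← map_pow, C.u_five, map_one, Units.val_one]
  have hc5 : (A0 * B0 * B0) ^ 5 = 1 := by
    have h6 := hu.pow_right 5
    rw [hu5] at h6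
    have h7 : Y * (A0 * B0 * B0) ^ 5 = Y := by rw [h6.eq, one_mul]
    calc (A0 * B0 * B0) ^ 5 = ((Z⁻¹ : GL (Fin 3) E) : Matrix (Fin 3) (Fin 3) E) * (Y * (A0 * B0 * B0) ^ 5) := by
          rw [← mul_assoc, hiY, one_mul]
      _ = 1 := by rw [h7, hiY]
  have hc : ∀ s t : E, (A0 * B0 * B0) *ᵥ ![s, 0, t] = ![x * s + t, 0, -s] := by
    intro s t
    rw [← Matrix.mulVec_mulVec, ← Matrix.mulVec_mulVec, hB0, hB0, hA0]
    ext i
    (revert i; simp only [_root_.Fin.forall_fin_succ, _root_.Nat.succ_eq_add_one, Nat.reduceAdd, Fin.isValue, _root_.Matrix.cons_val, _root_.Matrix.cons_val_zero, _root_.Matrix.cons_val_one, _root_.zero_add, _root_.sub_self, _root_.sub_add_cancel, _root_.MulZeroClass.mul_zero, _root_.add_zero, _root_.neg_zero, _root_.Matrix.cons_val_succ, _root_.implies_true, _root_.and_true]) <;> (repeat' with_reducible apply And.intro) <;> ring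
  have hc6 : (A0 * B0 * B0) ^ 5 *ᵥ ![0, 0, 1] = ![x ^ 4 - 3 * x ^ 2 + 1, 0, 2 * x - x ^ 3] := by
    generalize A0 * B0 * B0 = c0 at hc
    rw [Par.pow_five, ← Matrix.mulVec_mulVec, ← Matrix.mulVec_mulVec, ← Matrix.mulVec_mulVec, ← Matrix.mulVec_mulVec,
      hc, hc, hc, hc, hc]
    ext i
    (revert i; simp only [_root_.Fin.forall_fin_succ, _root_.Nat.succ_eq_add_one, Nat.reduceAdd, _root_.MulZeroClass.mul_zero, _root_.zero_add, _root_.mul_one, _root_.neg_zero, _root_.add_zero, _root_.neg_add_rev, _root_.neg_neg, Fin.isValue, _root_.Matrix.cons_val_zero, _root_.Matrix.cons_val_succ, _root_.Matrix.cons_val_fin_one, _root_.forall_const, _root_.true_and]) <;> (repeat' with_reducible apply And.intro) <;> ring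
  rw [hc5, Matrix.one_mulVec] at hc6
  have e0 : x ^ 4 - 3 * x ^ 2 + 1 = 0 := by
    have := congrFun hc6 0
    simpa only [_root_.Nat.succ_eq_add_one, _root_.Nat.reduceAdd, _root_.Fin.isValue, _root_.Matrix.cons_val_zero] using this.symm
  have e2 : 2 * x - x ^ 3 = 1 := by
    have := congrFun hc6 2
    simpa using this.symm
  have ex : (x + p.φ) * (x + (1 - p.φ)) = 0 := by
    have h6 : x ^ 2 + x - 1 = 0 := by
      have h7 : (x - 1) * (x ^ 2 + x - 1) = 0 := by linear_combination -e2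
      rcases mul_eq_zero.1 h7 with h8 | h8
      · exfalso
        have h9 : x = 1 := sub_eq_zero.1 h8
        rw [h9] at e0
        have h10 : (1 : E) = 0 := by linear_combination -e0
        exact one_ne_zero h10
      · exact h8
    linear_combination h6 - p.hφ
  -- the element `ab`
  have hy1 : y = 1 - p.ω * x := by
    obtain ⟨t, ht⟩ := C.d_conj
    have h6 := trace_conj_GL R ht
    have h7 : (R C.d : Matrix (Fin 3) (Fin 3) E) = (p.ω * p.ω) • (a' * b') := by
      show (R (C.a * C.b * C.z) : Matrix (Fin 3) (Fin 3) E) = _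
      rw [map_mul, map_mul, Units.val_mul, Units.val_mul, hz, ha', hb', Matrix.mul_smul, mul_one]
    have hzi : (R C.z⁻¹ : Matrix (Fin 3) (Fin 3) E) = p.ω • 1 := by
      have h8 : (R C.z : Matrix (Fin 3) (Fin 3) E) * (R C.z⁻¹ : Matrix (Fin 3) (Fin 3) E) = 1 := by
        rw [← Units.val_mul, ← map_mul, mul_inv_cancel, map_one, Units.val_one]
      rw [hz, Matrix.smul_mul, one_mul] at h8
      have h9 := congrArg (fun M => p.ω • M) h8
      simp only [smul_smul] at h9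
      rw [show p.ω * (p.ω * p.ω) = p.ω ^ 3 by ring, p.ω_cube, one_smul] at h9
      exact h9
    have h8 : (R C.d⁻¹ : Matrix (Fin 3) (Fin 3) E) = p.ω • (bi * a') := by
      have h9 : C.d⁻¹ = C.z⁻¹ * (C.b⁻¹ * C.a) := by
        have h10 : C.a⁻¹ = C.a := by
          rw [inv_eq_iff_mul_eq_one, ← pow_two, C.a2]
        unfold d
        rw [_root_.mul_inv_rev, _root_.mul_inv_rev, h10]
      rw [h9, map_mul, map_mul, Units.val_mul, Units.val_mul, hzi, ← hbi, ← ha', Matrix.smul_mul, one_mul]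
    rw [h7, h8, Matrix.trace_smul, Matrix.trace_smul, smul_eq_mul, smul_eq_mul] at h6
    have h9 : (a' * b').trace = y - 1 := by
      have : a' * b' = Y * (A0 * B0) * ((Z⁻¹ : GL (Fin 3) E) : Matrix (Fin 3) (Fin 3) E) := by
        rw [haY, hbY]
        calc Y * A0 * _ * (Y * B0 * _) = Y * A0 * (((Z⁻¹ : GL (Fin 3) E) : Matrix (Fin 3) (Fin 3) E) * Y) * B0 *
              ((Z⁻¹ : GL (Fin 3) E) : Matrix (Fin 3) (Fin 3) E) := by simp only [mul_assoc]
          _ = _ := by rw [hiY, mul_one]; simp only [mul_assoc]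
      rw [this, Matrix.trace_mul_cycle, hiY, one_mul, Matrix.trace_fin_three]
      simp only [A0, B0, Matrix.mul_apply, Fin.sum_univ_three, _root_.Fin.isValue, _root_.Matrix.of_apply, _root_.Matrix.cons_val', _root_.Matrix.cons_val_fin_one, _root_.Matrix.cons_val_zero, _root_.MulZeroClass.mul_zero, _root_.Matrix.cons_val_one, _root_.mul_one, _root_.zero_add, _root_.Matrix.cons_val, _root_.add_zero, _root_.mul_neg, _root_.neg_zero]
      ring
    have h10 : (bi * a').trace = 1 + x - y := by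
      rw [h3, add_mul, sub_mul, one_mul, Matrix.trace_add, Matrix.trace_sub, htr]
      have h11 : (b' * b' * a').trace = 1 + x := by
        rw [Matrix.trace_mul_comm, ← mul_assoc]
        have : a' * b' * b' = Y * (A0 * B0 * B0) * ((Z⁻¹ : GL (Fin 3) E) : Matrix (Fin 3) (Fin 3) E) := by
          rw [hu.eq, mul_assoc (a' * b' * b'), hYi, mul_one]
        rw [this, Matrix.trace_mul_cycle, hiY, one_mul, Matrix.trace_fin_three]
        simp only [A0, B0, Matrix.mul_apply, Fin.sum_univ_three, _root_.Matrix.cons_mul, _root_.Nat.succ_eq_add_one, _root_.Nat.reduceAdd, _root_.Matrix.vecMul_cons, _root_.Matrix.head_cons, _root_.one_smul, _root_.Matrix.tail_cons, _root_.Matrix.smul_cons, _root_.smul_eq_mul, _root_.mul_one, _root_.MulZeroClass.mul_zero, _root_.mul_neg, _root_.Matrix.smul_empty, _root_.Matrix.empty_vecMul, _root_.add_zero, _root_.Matrix.add_cons, _root_.zero_add, _root_.Matrix.empty_add_empty, _root_.zero_smul, _root_.neg_smul,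 _root_.Matrix.neg_cons, _root_.neg_zero, _root_.neg_neg, _root_.Matrix.neg_empty, _root_.Matrix.empty_mul, _root_.Equiv.symm_apply_apply, _root_.Fin.isValue, _root_.Matrix.of_apply, _root_.Matrix.cons_val', _root_.Matrix.cons_val_fin_one, _root_.Matrix.cons_val_zero, _root_.Matrix.cons_val_one, _root_.Matrix.cons_val, _root_.add_neg_cancel]
        ring
      rw [h11, Matrix.trace_mul_comm, h9]
      ring
    rw [h9, h10] at h6
    linear_combination (-p.ω ^ 3) * h6 + ((y - 1) * (p.ω ^ 3 - p.ω + 1) + x * p.ω * (1 - p.ω)) * p.hω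
  -- end
  have hBB : B0 = p.m mB := p.m_B.symm
  rcases mul_eq_zero.1 ex with h | h
  · refine ⟨Z, p, Or.inl rfl, ?_, ?_⟩
    · apply Units.ext
      rw [Units.val_mul, Units.val_mul, hZ, ← ha', haY, Par.val_gA, Par.m_A]
      have hx' : x = -p.φ := by linear_combination h
      have hy' : y = 1 + p.ω * p.φ := by rw [hy1, hx']; ring
      rw [← hx', ← hy']
    · apply Units.ext
      rw [Units.val_mul, Units.val_mul, hZ, ← hb', hbY, Par.val_gB, Par.m_B]
  · refine ⟨Z, p.swap, Or.inr rfl, ?_, ?_⟩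
    · apply Units.ext
      rw [Units.val_mul, Units.val_mul, hZ, ← ha', haY, Par.val_gA, Par.m_A]
      have hx' : x = -p.swap.φ := by
        show x = -(1 - p.φ)
        linear_combination h
      have hy' : y = 1 + p.swap.ω * p.swap.φ := by
        rw [hy1, hx']
        show 1 - p.ω * -p.swap.φ = 1 + p.ω * p.swap.φ
        ring
      rw [← hx', ← hy']
    · apply Units.ext
      rw [Units.val_mul, Units.val_mul, hZ, ← hb', hbY, Par.val_gB, Par.m_B]

/-- two representations with the same values on the generators are equal -/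
theorem rep_ext {n : Type*} [Fintype n] [DecidableEq n] {R S : P →* GL n E} (ha : R C.a = S C.a) (hb : R C.b = S C.b) :
    R = S := by
  apply MonoidHom.eq_of_eqOn_dense C.closure_ab
  rintro x (rfl | hx)
  · exact ha
  · rw [Set.mem_singleton_iff.1 hx]; exact hb

/-- **Uniqueness of the three-dimensional representations.** -/
theorem rep3' [Finite P] (p : Par E) {A B : P →* GL (Fin 3) E} (hAa : A C.a = p.gA) (hAb : A C.b = p.gB)
    (hBa : B C.a = p.swap.gA) (hBb : B C.b = p.swap.gB) (R : P →* GL (Fin 3) E)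
    (hz : (R C.z : Matrix (Fin 3) (Fin 3) E) = (p.ω * p.ω) • 1) :
    ∃ Y : GL (Fin 3) E, (∀ g, R g = Y * A g * Y⁻¹) ∨ (∀ g, R g = Y * B g * Y⁻¹) := by
  obtain ⟨Y, p', h1, h2, h3⟩ := rep3 p R hz
  have key : ∀ S : P →* GL (Fin 3) E, S C.a = p'.gA → S C.b = p'.gB → ∀ g, R g = Y * S g * Y⁻¹ := by
    intro S hSa hSb g
    have : R = (MulAut.conj Y).toMonoidHom.comp S := by
      apply rep_ext (C := C)
      · rw [h2, ← hSa]; rfl
      · rw [h3, ← hSb]; rfl
    rw [this]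
    rfl
  rcases h1 with rfl | rfl
  · exact ⟨Y, Or.inl (key A hAa hAb)⟩
  · exact ⟨Y, Or.inr (key B hBa hBb)⟩

end Cov

end Cfsg.Agent.H956.K1
end

-- part: H956/K1/Classes
section
/-!
# Sums of class functions over the threefold cover of `A₆` (helper956)

`Cov.sum_eq` : `2 ∑ f = 6 f(1) + 270 f(a) + 540 f(b) + 432 (f(u) + f(u²))` for a class function on `P`
which is constant on the cosets of the centre and vanishes on the elements of order three.
-/

set_option autoImplicit false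
set_option maxRecDepth 20000

namespace Cfsg.Agent.H956.K1

open Matrix Cfsg Cfsg.Geo Cfsg.Agent.H173.Pres Equiv

/-- counting in `A₆` by counting in `S₆` -/
theorem card_filter_a6 (q : Perm (Fin 6) → Prop) [DecidablePred q] :
    (Finset.univ.filter fun σ : alternatingGroup (Fin 6) => q σ).card =
      (Finset.univ.filter fun σ : Perm (Fin 6) => q σ ∧ Perm.sign σ = 1).card := by
  refine Finset.card_bij (fun (σ : alternatingGroup (Fin 6)) _ => (σ : Perm (Fin 6))) ?_ ?_ ?_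
  · intro σ hσ
    rw [Finset.mem_filter] at hσ ⊢
    exact ⟨Finset.mem_univ _, hσ.2, Perm.mem_alternatingGroup.1 σ.2⟩
  · intro σ _ τ _ h
    exact Subtype.ext h
  · intro σ hσ
    rw [Finset.mem_filter] at hσ
    exact ⟨⟨σ, Perm.mem_alternatingGroup.2 hσ.2.2⟩, by rw [Finset.mem_filter]; exact ⟨Finset.mem_univ _, hσ.2.1⟩, rfl⟩

theorem sum_ite_const {α : Type*} [Fintype α] {E : Type*} [Field E] (q : α → Prop) [DecidablePred q] (e : E) {n : ℕ}
    (h : (Finset.univ.filter q).card = n) : (∑ σ, if q σ then e else 0) = n * e := by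
  rw [← Finset.sum_filter, Finset.sum_const, h, nsmul_eq_mul]

/-- the sum over `A₆` -/
theorem sum_a6 {E : Type*} [Field E] (F : alternatingGroup (Fin 6) → E)
    (hF : ∀ t σ r, t * σ = r * t → F σ = F r) (hx : F za6 = 0) (hw : F (za6 * tc) = 0) :
    2 * ∑ σ, F σ = 2 * F 1 + 90 * F ta + 180 * F zs6 + 144 * (F (ta * zs6 ^ 2) + F ((ta * zs6 ^ 2) ^ 2)) := by
  have ea : (ta : Perm (Fin 6)) = Dec.pa := by decide
  have eb : (zs6 : Perm (Fin 6)) = Dec.pb := by decide
  have eu : ((ta * zs6 ^ 2 : alternatingGroup (Fin 6)) : Perm (Fin 6)) = Dec.pu := by decide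
  have ex : (za6 : Perm (Fin 6)) = Dec.px := by decide
  have ew : ((za6 * tc : alternatingGroup (Fin 6)) : Perm (Fin 6)) = Dec.pw := by decide
  have mk : ∀ (σ r : alternatingGroup (Fin 6)) (τ : Perm (Fin 6)), Perm.sign τ = 1 → τ * σ = r * τ → F σ = F r :=
    fun σ r τ h1 h2 => hF ⟨τ, Perm.mem_alternatingGroup.2 h1⟩ σ r (Subtype.ext h2)
  have one : ∀ (g : alternatingGroup (Fin 6)) (n : ℕ), g ^ n = 1 ↔ (g : Perm (Fin 6)) ^ n = 1 := by
    intro g n
    rw [← Subgroup.coe_pow]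
    exact ⟨fun h => by rw [h]; rfl, fun h => Subtype.ext h⟩
  have one' : ∀ (g : alternatingGroup (Fin 6)), g = 1 ↔ (g : Perm (Fin 6)) = 1 :=
    fun g => ⟨fun h => by rw [h]; rfl, fun h => Subtype.ext h⟩
  -- elements of order five
  have h5 : ∀ g : alternatingGroup (Fin 6), (g : Perm (Fin 6)) ^ 5 = 1 → ¬ (g : Perm (Fin 6)) = 1 →
      F g + F (g ^ 2) = F (ta * zs6 ^ 2) + F ((ta * zs6 ^ 2) ^ 2) := by
    intro g hg hg1
    have hinv : F ((ta * zs6 ^ 2) ^ 4) = F (ta * zs6 ^ 2) := by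
      apply hF ⟨swap 2 4 * swap 3 5, Perm.mem_alternatingGroup.2 (by decide)⟩
      decide +kernel
    obtain ⟨τ, ⟨-, -, h5, h6⟩ | ⟨-, -, h5, h6⟩⟩ := Dec.five_dec g hg hg1
    · rw [← eu] at h6
      have h7 : τ * (g ^ 2 : alternatingGroup (Fin 6)) = ((ta * zs6 ^ 2) ^ 2 : alternatingGroup (Fin 6)) * τ := by
        rw [Subgroup.coe_pow, Subgroup.coe_pow, pow_two, pow_two, ← mul_assoc, h6, mul_assoc, h6, mul_assoc]
      rw [mk _ _ τ h5 h6, mk _ _ τ h5 h7]
    · rw [← eu, ← Subgroup.coe_pow] at h6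
      have h7 : τ * (g ^ 2 : alternatingGroup (Fin 6)) = ((ta * zs6 ^ 2) ^ 4 : alternatingGroup (Fin 6)) * τ := by
        have e4 : (ta * zs6 ^ 2) ^ 4 = (ta * zs6 ^ 2) ^ 2 * (ta * zs6 ^ 2) ^ 2 := by rw [← pow_add]
        rw [e4, Subgroup.coe_mul, Subgroup.coe_pow, pow_two, ← mul_assoc, h6, mul_assoc, h6, mul_assoc]
      rw [mk _ _ τ h5 h6, mk _ _ τ h5 h7, hinv, add_comm]
  have hall : ∀ σ : alternatingGroup (Fin 6), F σ = (if σ = 1 then F 1 else 0) +
      (if (σ : Perm (Fin 6)) ^ 2 = 1 ∧ ¬ (σ : Perm (Fin 6)) = 1 then F ta else 0) +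
      (if (σ : Perm (Fin 6)) ^ 4 = 1 ∧ ¬ (σ : Perm (Fin 6)) ^ 2 = 1 then F zs6 else 0) +
      (if (σ : Perm (Fin 6)) ^ 5 = 1 ∧ ¬ (σ : Perm (Fin 6)) = 1 then F σ else 0) := by
    intro σ
    have hs : Perm.sign (σ : Perm (Fin 6)) = 1 := Perm.mem_alternatingGroup.1 σ.2
    by_cases h1 : σ = 1
    · subst h1
      simp only [↓ _root_.reduceIte, _root_.OneMemClass.coe_one, _root_.one_pow, _root_.not_true_eq_false, _root_.and_false, _root_.add_zero]
    have h1' := h1
    rw [one'] at h1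
    rw [if_neg h1', zero_add]
    by_cases h4 : (σ : Perm (Fin 6)) ^ 4 = 1
    · have h5 : ¬ (σ : Perm (Fin 6)) ^ 5 = 1 := by
        intro h5
        apply h1
        have : (σ : Perm (Fin 6)) ^ 5 = (σ : Perm (Fin 6)) ^ 4 * σ := pow_succ _ 4
        rw [h5, h4, one_mul] at this
        exact this.symm
      rw [if_neg (c := (σ : Perm (Fin 6)) ^ 5 = 1 ∧ ¬ (σ : Perm (Fin 6)) = 1) (fun h => h5 h.1), add_zero]
      by_cases h2 : (σ : Perm (Fin 6)) ^ 2 = 1
      · rw [if_pos ⟨h2, h1⟩, if_neg (fun h => h.2 h2), add_zero]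
        obtain ⟨τ, -, -, h5, h6⟩ := Dec.two_dec σ h2 h1 hs
        rw [← ea] at h6
        exact mk _ _ τ h5 h6
      · rw [if_neg (fun h => h2 h.1), if_pos ⟨h4, h2⟩, zero_add]
        obtain ⟨τ, -, -, h5, h6⟩ := Dec.four_dec σ h4 h2 hs
        rw [← eb] at h6
        exact mk _ _ τ h5 h6
    · have h2 : ¬ (σ : Perm (Fin 6)) ^ 2 = 1 := by
        intro h2
        apply h4
        rw [show (4 : ℕ) = 2 * 2 from rfl, pow_mul, h2, one_pow]
      rw [if_neg (fun h => h2 h.1), if_neg (fun h => h4 h.1), zero_add, zero_add]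
      by_cases h3 : (σ : Perm (Fin 6)) ^ 3 = 1
      · have h5 : ¬ (σ : Perm (Fin 6)) ^ 5 = 1 := by
          intro h5
          apply h2
          have : (σ : Perm (Fin 6)) ^ 5 = (σ : Perm (Fin 6)) ^ 3 * (σ : Perm (Fin 6)) ^ 2 := pow_add _ 3 2
          rw [h5, h3, one_mul] at this
          exact this.symm
        rw [if_neg (fun h => h5 h.1)]
        obtain ⟨τ, ⟨-, -, h5, h6⟩ | ⟨-, -, h5, h6⟩⟩ := Dec.three_dec σ h3 h1
        · rw [← ex] at h6
          rw [mk _ _ τ h5 h6, hx]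
        · rw [← ew] at h6
          rw [mk _ _ τ h5 h6, hw]
      · have h5 : (σ : Perm (Fin 6)) ^ 5 = 1 := by
          by_contra h5
          exact Dec.ord_dec σ h4 h3 h5 hs
        rw [if_pos ⟨h5, h1⟩]
  have s5 : 2 * (∑ σ : alternatingGroup (Fin 6), if (σ : Perm (Fin 6)) ^ 5 = 1 ∧ ¬ (σ : Perm (Fin 6)) = 1 then F σ
      else 0) = 144 * (F (ta * zs6 ^ 2) + F ((ta * zs6 ^ 2) ^ 2)) := by
    rw [← Finset.sum_filter]
    set S := Finset.univ.filter fun σ : alternatingGroup (Fin 6) => (σ : Perm (Fin 6)) ^ 5 = 1 ∧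
      ¬ (σ : Perm (Fin 6)) = 1 with hS
    have h6 : ∑ σ ∈ S, F (σ ^ 2) = ∑ σ ∈ S, F σ := by
      refine Finset.sum_bij' (fun σ _ => σ ^ 2) (fun σ _ => σ ^ 3) ?_ ?_ ?_ ?_ ?_
      · intro σ hσ
        rw [hS, Finset.mem_filter] at hσ ⊢
        refine ⟨Finset.mem_univ _, ?_, ?_⟩
        · rw [Subgroup.coe_pow, ← pow_mul, mul_comm, pow_mul, hσ.2.1, one_pow]
        · rw [Subgroup.coe_pow]
          intro h
          apply hσ.2.2
          have : (σ : Perm (Fin 6)) ^ 5 = (σ : Perm (Fin 6)) ^ 2 * (σ : Perm (Fin 6)) ^ 2 * σ := by group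
          rw [hσ.2.1, h, one_mul, one_mul] at this
          exact this.symm
      · intro σ hσ
        rw [hS, Finset.mem_filter] at hσ ⊢
        refine ⟨Finset.mem_univ _, ?_, ?_⟩
        · rw [Subgroup.coe_pow, ← pow_mul, mul_comm, pow_mul, hσ.2.1, one_pow]
        · rw [Subgroup.coe_pow]
          intro h
          apply hσ.2.2
          have : (σ : Perm (Fin 6)) ^ 5 * σ = (σ : Perm (Fin 6)) ^ 3 * (σ : Perm (Fin 6)) ^ 3 := by group
          rw [hσ.2.1, h, one_mul, one_mul] at this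
          exact this
      · intro σ hσ
        rw [Finset.mem_filter] at hσ
        rw [← pow_mul]
        apply Subtype.ext
        rw [Subgroup.coe_pow, show 2 * 3 = 5 + 1 from rfl, pow_succ, hσ.2.1, one_mul]
      · intro σ hσ
        rw [Finset.mem_filter] at hσ
        rw [← pow_mul]
        apply Subtype.ext
        rw [Subgroup.coe_pow, show 3 * 2 = 5 + 1 from rfl, pow_succ, hσ.2.1, one_mul]
      · intro σ hσ
        rfl
    have h7 : S.card = 144 := by
      rw [hS, card_filter_a6 (fun σ => σ ^ 5 = 1 ∧ ¬ σ = 1)]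
      exact Dec.card_five
    rw [two_mul]
    nth_rewrite 2 [← h6]
    rw [← Finset.sum_add_distrib, Finset.sum_congr rfl (fun σ hσ => h5 σ (Finset.mem_filter.1 hσ).2.1
      (Finset.mem_filter.1 hσ).2.2), Finset.sum_const, h7, nsmul_eq_mul]
    norm_num
  have s1 : (∑ σ : alternatingGroup (Fin 6), if σ = 1 then F 1 else 0) = F 1 := by
    rw [Finset.sum_ite_eq' Finset.univ (1 : alternatingGroup (Fin 6)) (fun _ => F 1)]
    simp only [_root_.Finset.mem_univ, ↓ _root_.reduceIte]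
  have s2 := sum_ite_const (fun σ : alternatingGroup (Fin 6) => (σ : Perm (Fin 6)) ^ 2 = 1 ∧
    ¬ (σ : Perm (Fin 6)) = 1) (F ta) (n := 45) (by
      rw [card_filter_a6 (fun σ => σ ^ 2 = 1 ∧ ¬ σ = 1)]
      exact Dec.card_two)
  have s4 := sum_ite_const (fun σ : alternatingGroup (Fin 6) => (σ : Perm (Fin 6)) ^ 4 = 1 ∧
    ¬ (σ : Perm (Fin 6)) ^ 2 = 1) (F zs6) (n := 90) (by
      rw [card_filter_a6 (fun σ => σ ^ 4 = 1 ∧ ¬ σ ^ 2 = 1)]
      exact Dec.card_four)
  have hsum : ∑ σ, F σ = F 1 + 45 * F ta + 90 * F zs6 + (∑ σ : alternatingGroup (Fin 6),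
      if (σ : Perm (Fin 6)) ^ 5 = 1 ∧ ¬ (σ : Perm (Fin 6)) = 1 then F σ else 0) := by
    rw [Finset.sum_congr rfl (fun σ _ => hall σ), Finset.sum_add_distrib, Finset.sum_add_distrib,
      Finset.sum_add_distrib, s1, s2, s4]
    push_cast
    rfl
  rw [hsum, mul_add, s5]
  ring

namespace Cov

variable {P : Type*} [Group P] (C : Cov P) {E : Type*} [Field E]

omit [Field E] in
theorem f_eq [Finite P] {f : P → E} (h2 : ∀ g, f (C.z * g) = f g) {g h : P} (hgh : C.π g = C.π h) : f g = f h := by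
  have h1 : g * h⁻¹ ∈ C.π.ker := by
    rw [MonoidHom.mem_ker, map_mul, map_inv, hgh, mul_inv_cancel]
  obtain ⟨i, hi⟩ := C.mem_ker h1
  have h4 : ∀ (i : ℕ) (g : P), f (C.z ^ i * g) = f g := by
    intro i
    induction i with
    | zero => intro g; rw [pow_zero, one_mul]
    | succ i ih => intro g; rw [pow_succ, mul_assoc, ih, h2]
  have h5 : g = C.z ^ i * h := by rw [← hi]; group
  rw [h5, h4]

/-- **The sum of a class function.** -/
theorem sum_eq [Fintype P] (f : P → E) (h1 : ∀ g t, f (t * g * t⁻¹) = f g) (h2 : ∀ g, f (C.z * g) = f g)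
    (hx : f C.x = 0) (hw : f (C.x * C.c) = 0) :
    2 * ∑ g, f g = 3 * (2 * f 1 + 90 * f C.a + 180 * f C.b + 144 * (f C.u + f (C.u ^ 2))) := by
  obtain ⟨F, hF⟩ : ∃ F : alternatingGroup (Fin 6) → E, ∀ g, f g = F (C.π g) := by
    refine ⟨fun σ => f (Function.surjInv C.surj σ), fun g => ?_⟩
    apply C.f_eq h2
    exact (Function.surjInv_eq C.surj (C.π g)).symm
  have hFc : ∀ t σ r, t * σ = r * t → F σ = F r := by
    intro t σ r h
    obtain ⟨t, rfl⟩ := C.surj t
    obtain ⟨g, rfl⟩ := C.surj σ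
    obtain ⟨s, rfl⟩ := C.surj r
    rw [← hF, ← hF, ← h1 g t]
    apply C.f_eq h2
    rw [map_mul, map_mul, map_inv, h]
    group
  have hcard : ∀ σ, (Finset.univ.filter fun g : P => C.π g = σ).card = 3 := by
    intro σ
    have h3 := MonoidHom.card_fiber_eq_of_mem_range C.π (x := σ) (y := 1) (by
      obtain ⟨g, rfl⟩ := C.surj σ; exact ⟨g, rfl⟩) ⟨1, map_one _⟩
    rw [h3]
    have h4 := C.card
    rw [← h4, Nat.card_eq_fintype_card, Fintype.card_subtype]
    congr 1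
    ext g
    simp only [Finset.mem_filter, MonoidHom.mem_ker]
  have hsum : ∑ g, f g = 3 * ∑ σ, F σ := by
    rw [← Finset.sum_fiberwise (s := Finset.univ) (g := fun g : P => C.π g), Finset.mul_sum]
    apply Finset.sum_congr rfl
    intro σ _
    rw [Finset.sum_congr rfl (g := fun _ => F σ), Finset.sum_const, hcard, nsmul_eq_mul]
    · norm_num
    · intro g hg
      rw [Finset.mem_filter] at hg
      rw [hF, hg.2]
  have e1 : F 1 = f 1 := by rw [hF, map_one]
  have ea : F ta = f C.a := by rw [hF, C.πa]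
  have eb : F zs6 = f C.b := by rw [hF, C.πb]
  have eu : F (ta * zs6 ^ 2) = f C.u := by rw [hF, C.πu]
  have eu2 : F ((ta * zs6 ^ 2) ^ 2) = f (C.u ^ 2) := by rw [hF, map_pow, C.πu]
  have key := sum_a6 F hFc (by rw [← C.πx, ← hF, hx]) (by rw [← C.πx, ← C.πc, ← map_mul, ← hF, hw])
  rw [hsum, mul_left_comm, key, e1, ea, eb, eu, eu2]

end Cov

end Cfsg.Agent.H956.K1
end

-- part: H956/K1/Sep
section
/-!
# Separating representations by the group algebra (helper956)

`V : G → M_κ(E)` spans the matrix algebra.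

* `Sp V R` : some `x` in the group algebra has `R x = 0`, `V x ≠ 0`;
* `sp_of_lt` : `card ι < card κ`; `conj_or_sp` : equal sizes;
* `conj_of_trace3`, `false_of_trace` : relations between traces;
* `Sp.hom_zero`, `Sp.orth` : no intertwiners, orthogonality (`G` finite, every characteristic);
* `norm_eq` : `∑ tr V g · tr V g⁻¹ = |G|` if `card κ ≠ 0` in `E`.
-/

set_option autoImplicit false

namespace Cfsg.Agent.H956.Sep

open Matrix Module Cfsg.Agent.H906

variable {G : Type*} [Group G] {E : Type*} [Field E]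
variable {κ ι : Type} [Fintype κ] [DecidableEq κ] [Fintype ι] [DecidableEq ι]

/-- the group algebra separates `V` from `R` -/
def Sp (V : G →* Matrix κ κ E) (R : G →* Matrix ι ι E) : Prop :=
  ∃ x : MonoidAlgebra E G, algExt R x = 0 ∧ algExt V x ≠ 0

section dims

variable {V : G →* Matrix κ κ E} {R : G →* Matrix ι ι E}

theorem le_of_not_sp (hV : Submodule.span E (Set.range V) = ⊤) (h : ¬ Sp V R) :
    Fintype.card κ * Fintype.card κ ≤ finrank E (LinearMap.range (algExt R).toLinearMap) := by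
  have hk : LinearMap.ker (algExt R).toLinearMap ≤ LinearMap.ker (algExt V).toLinearMap := by
    intro x hx
    by_contra hne
    exact h ⟨x, hx, hne⟩
  let f := (LinearMap.ker (algExt R).toLinearMap).liftQ (algExt V).toLinearMap hk
  have hf : Function.Surjective f := by
    intro Y
    obtain ⟨y, hy⟩ := algExt_surjective hV Y
    exact ⟨Submodule.Quotient.mk y, hy⟩
  let e := (algExt R).toLinearMap.quotKerEquivRange
  have hfin : Module.Finite E (MonoidAlgebra E G ⧸ LinearMap.ker (algExt R).toLinearMap) :=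
    Module.Finite.equiv e.symm
  have h1 := LinearMap.finrank_le_finrank_of_surjective hf
  rw [e.finrank_eq, Module.finrank_matrix, Module.finrank_self, mul_one] at h1
  exact h1

theorem finrank_range_le : finrank E (LinearMap.range (algExt R).toLinearMap) ≤ Fintype.card ι * Fintype.card ι := by
  have := Submodule.finrank_le (LinearMap.range (algExt R).toLinearMap)
  rwa [Module.finrank_matrix, Module.finrank_self, mul_one] at this

theorem sp_of_lt (hV : Submodule.span E (Set.range V) = ⊤) (h : Fintype.card ι < Fintype.card κ) : Sp V R := by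
  by_contra hs
  have h1 := (le_of_not_sp hV hs).trans finrank_range_le
  have h2 := Nat.mul_self_lt_mul_self h
  omega

end dims

/-- equal sizes: conjugate or separated -/
theorem conj_or_sp {V R : G →* Matrix κ κ E} (hV : Submodule.span E (Set.range V) = ⊤) :
    (∃ B : GL κ E, ∀ g, V g = (B : Matrix κ κ E) * R g * ((B⁻¹ : GL κ E) : Matrix κ κ E)) ∨ Sp V R := by
  by_cases hs : Sp V R
  · exact Or.inr hs
  left
  have h1 := le_of_not_sp hV hs
  have h2 := finrank_range_le (R := R)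
  have htop : LinearMap.range (algExt R).toLinearMap = ⊤ := by
    apply Submodule.eq_top_of_finrank_eq
    rw [Module.finrank_matrix, Module.finrank_self, mul_one]
    exact le_antisymm h2 h1
  have hsurj : Function.Surjective (algExt R) := LinearMap.range_eq_top.1 htop
  have hk : LinearMap.ker (algExt R).toLinearMap ≤ LinearMap.ker (algExt V).toLinearMap := by
    intro x hx
    by_contra hne
    exact hs ⟨x, hx, hne⟩
  let f := (LinearMap.ker (algExt R).toLinearMap).liftQ (algExt V).toLinearMap hk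
  have hf : Function.Surjective f := by
    intro Y
    obtain ⟨y, hy⟩ := algExt_surjective hV Y
    exact ⟨Submodule.Quotient.mk y, hy⟩
  let e := (algExt R).toLinearMap.quotKerEquivRange
  have hfin : Module.Finite E (MonoidAlgebra E G ⧸ LinearMap.ker (algExt R).toLinearMap) :=
    Module.Finite.equiv e.symm
  have heq : finrank E (MonoidAlgebra E G ⧸ LinearMap.ker (algExt R).toLinearMap) = finrank E (Matrix κ κ E) := by
    rw [e.finrank_eq, htop, finrank_top]
  have hinj : Function.Injective f := (LinearMap.injective_iff_surjective_of_finrank_eq_finrank heq).2 hf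
  obtain ⟨B, hB⟩ := exists_conj_of_ker (algExt R) (algExt V) hsurj (algExt_surjective hV) (by
    intro x
    constructor
    · intro hx
      exact hk hx
    · intro hx
      have h3 : f (Submodule.Quotient.mk x) = f 0 := by
        rw [map_zero]
        exact hx
      have h4 := hinj h3
      rw [Submodule.Quotient.mk_eq_zero] at h4
      exact h4)
  refine ⟨B, fun g => ?_⟩
  have := hB (MonoidAlgebra.of E G g)
  rwa [algExt_of, algExt_of] at this

theorem exists_mul_ne {X Y : Matrix κ κ E} (hX : X ≠ 0) (hY : Y ≠ 0) : ∃ Z, X * Z * Y ≠ 0 := by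
  obtain ⟨i, j, hij⟩ : ∃ i j, X i j ≠ 0 := by
    by_contra hcon
    push Not at hcon
    exact hX (Matrix.ext hcon)
  obtain ⟨k, l, hkl⟩ : ∃ k l, Y k l ≠ 0 := by
    by_contra hcon
    push Not at hcon
    exact hY (Matrix.ext hcon)
  refine ⟨Matrix.single j k 1, fun h => mul_ne_zero hij hkl ?_⟩
  have h1 := congrFun (congrFun h i) l
  have h2 : Matrix.single i i (1 : E) * (X * Matrix.single j k 1 * Y) * Matrix.single l l 1 =
      (X i j * Y k l) • Matrix.single i l 1 := by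
    have e1 : Matrix.single i i (1 : E) * (X * Matrix.single j k 1 * Y) * Matrix.single l l 1 =
        (Matrix.single i i 1 * X * Matrix.single j k 1) * (Y * Matrix.single l l 1) := by
      simp only [mul_assoc]
    have e2 : (Matrix.single i k (X i j)) = Matrix.single i k (X i j) * Matrix.single k k (1 : E) := by
      rw [Matrix.single_mul_single_same, mul_one]
    rw [e1, Matrix.single_mul_mul_single, one_mul, mul_one, e2, mul_assoc, ← mul_assoc (Matrix.single k k (1 : E)),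
      Matrix.single_mul_mul_single, one_mul, mul_one, Matrix.single_mul_single_same, Matrix.smul_single, smul_eq_mul,
      mul_one]
  rw [h, mul_zero, zero_mul] at h2
  have h3 := congrFun (congrFun h2 i) l
  simpa using h3.symm

/-- the product of separating elements -/
theorem sp_mul {V : G →* Matrix κ κ E} (hV : Submodule.span E (Set.range V) = ⊤) {x y : MonoidAlgebra E G}
    (hx : algExt V x ≠ 0) (hy : algExt V y ≠ 0) : ∃ w, algExt V (x * w * y) ≠ 0 := by
  obtain ⟨Z, hZ⟩ := exists_mul_ne hx hy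
  obtain ⟨w, rfl⟩ := algExt_surjective hV Z
  exact ⟨w, by rwa [map_mul, map_mul]⟩

theorem trace_linear {V : G →* Matrix κ κ E} {f : MonoidAlgebra E G →ₗ[E] E}
    (h : ∀ g, (V g).trace = f (MonoidAlgebra.of E G g)) (x : MonoidAlgebra E G) : (algExt V x).trace = f x := by
  induction x using MonoidAlgebra.induction_on with
  | of g => rw [algExt_of, h]
  | add x y hx hy => rw [map_add, map_add, Matrix.trace_add, hx, hy]
  | smul c x hx => rw [map_smul, map_smul, Matrix.trace_smul, hx]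

/-- the trace functional -/
noncomputable def trf (R : G →* Matrix ι ι E) : MonoidAlgebra E G →ₗ[E] E :=
  (Matrix.traceLinearMap ι E E).comp (algExt R).toLinearMap

theorem trf_of (R : G →* Matrix ι ι E) (g : G) : trf R (MonoidAlgebra.of E G g) = (R g).trace := by
  show (algExt R (MonoidAlgebra.of E G g)).trace = _
  rw [algExt_of]

theorem trf_apply (R : G →* Matrix ι ι E) (x : MonoidAlgebra E G) : trf R x = (algExt R x).trace := rfl

theorem false_of_vanish {V : G →* Matrix κ κ E} (hV : Submodule.span E (Set.range V) = ⊤) {x : MonoidAlgebra E G}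
    (hx : algExt V x ≠ 0) (h : ∀ w, (algExt V (x * w)).trace = 0) : False := by
  apply hx
  apply eq_zero_of_trace_mul hV
  rintro _ ⟨g, rfl⟩
  rw [← algExt_of, ← map_mul]
  exact h _

/-- **A relation with three traces.** -/
theorem conj_of_trace3 {V R₁ : G →* Matrix κ κ E} {R₂ R₃ : G →* Matrix ι ι E}
    (hV : Submodule.span E (Set.range V) = ⊤) (hlt : Fintype.card ι < Fintype.card κ) {c₁ c₂ c₃ : E}
    (h : ∀ g, (V g).trace = c₁ * (R₁ g).trace + c₂ * (R₂ g).trace + c₃ * (R₃ g).trace) :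
    ∃ B : GL κ E, ∀ g, V g = (B : Matrix κ κ E) * R₁ g * ((B⁻¹ : GL κ E) : Matrix κ κ E) := by
  rcases conj_or_sp (R := R₁) hV with h1 | ⟨x₁, hx₁, hx₁'⟩
  · exact h1
  exfalso
  obtain ⟨x₂, hx₂, hx₂'⟩ := sp_of_lt (R := R₂) hV hlt
  obtain ⟨x₃, hx₃, hx₃'⟩ := sp_of_lt (R := R₃) hV hlt
  obtain ⟨w, hw⟩ := sp_mul hV hx₁' hx₂'
  obtain ⟨w', hw'⟩ := sp_mul hV hw hx₃'
  apply false_of_vanish hV hw'
  intro u
  have key := trace_linear (V := V) (f := c₁ • trf R₁ + c₂ • trf R₂ + c₃ • trf R₃) (by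
    intro g
    rw [h]
    simp only [LinearMap.add_apply, LinearMap.smul_apply, trf_of, smul_eq_mul])
  rw [key]
  simp only [LinearMap.add_apply, LinearMap.smul_apply, trf_apply, map_mul, hx₁, hx₂, hx₃, mul_zero, zero_mul,
    Matrix.trace_zero, smul_zero, add_zero]

/-- **The trace is not a multiple of the trace of a smaller representation.** -/
theorem false_of_trace {V : G →* Matrix κ κ E} {R : G →* Matrix ι ι E}
    (hV : Submodule.span E (Set.range V) = ⊤) (hlt : Fintype.card ι < Fintype.card κ) {c : E}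
    (h : ∀ g, (V g).trace = c * (R g).trace) : False := by
  obtain ⟨x, hx, hx'⟩ := sp_of_lt (R := R) hV hlt
  apply false_of_vanish hV hx'
  intro u
  have key := trace_linear (V := V) (f := c • trf R) (by
    intro g
    rw [h]
    simp only [LinearMap.smul_apply, trf_of, smul_eq_mul])
  rw [key]
  simp only [LinearMap.smul_apply, trf_apply, map_mul, hx, zero_mul, Matrix.trace_zero, smul_zero]

section orth

variable {V : G →* Matrix κ κ E} {R : G →* Matrix ι ι E}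

theorem intertwine {X : Matrix κ ι E} (hX : ∀ g, V g * X = X * R g) (x : MonoidAlgebra E G) :
    algExt V x * X = X * algExt R x := by
  induction x using MonoidAlgebra.induction_on with
  | of g => rw [algExt_of, algExt_of, hX]
  | add x y hx hy => rw [map_add, map_add, Matrix.add_mul, Matrix.mul_add, hx, hy]
  | smul c x hx => rw [map_smul, map_smul, Matrix.smul_mul, Matrix.mul_smul, hx]

/-- **No intertwiners.** -/
theorem Sp.hom_zero (hV : Submodule.span E (Set.range V) = ⊤) (h : Sp V R) {X : Matrix κ ι E}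
    (hX : ∀ g, V g * X = X * R g) : X = 0 := by
  obtain ⟨x, hx, hx'⟩ := h
  by_contra hne
  obtain ⟨i, j, hij⟩ : ∃ i j, X i j ≠ 0 := by
    by_contra hcon
    push Not at hcon
    exact hne (Matrix.ext hcon)
  obtain ⟨k, l, hkl⟩ : ∃ k l, algExt V x k l ≠ 0 := by
    by_contra hcon
    push Not at hcon
    exact hx' (Matrix.ext hcon)
  obtain ⟨w, hw⟩ := algExt_surjective hV (Matrix.single l i 1)
  have h1 := intertwine hX (x * w)
  rw [map_mul, map_mul, hx, zero_mul, Matrix.mul_zero, hw] at h1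
  have h2 := congrFun (congrFun h1 k) j
  rw [Matrix.mul_apply, Finset.sum_eq_single i] at h2
  · rw [Matrix.mul_single_apply_same, mul_one] at h2
    exact mul_ne_zero hkl hij h2
  · intro b _ hb
    rw [Matrix.mul_single_apply_of_ne _ _ _ _ _ hb, zero_mul]
  · intro h; exact absurd (Finset.mem_univ _) h

variable [Fintype G]

/-- the averaged matrix -/
theorem avg_intertwine (V : G →* Matrix κ κ E) (R : G →* Matrix ι ι E) (M : Matrix κ ι E) (h : G) :
    V h * (∑ g, V g * M * R g⁻¹) = (∑ g, V g * M * R g⁻¹) * R h := by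
  rw [Matrix.mul_sum, Matrix.sum_mul]
  rw [← Equiv.sum_comp (Equiv.mulLeft h) (fun g => V g * M * R g⁻¹ * R h)]
  apply Finset.sum_congr rfl
  intro g _
  rw [Equiv.coe_mulLeft, map_mul, _root_.mul_inv_rev, map_mul]
  have : R h⁻¹ * R h = 1 := by rw [← map_mul, inv_mul_cancel, map_one]
  simp only [Matrix.mul_assoc, this, Matrix.mul_one]

theorem avg_apply (V : G →* Matrix κ κ E) (R : G →* Matrix ι ι E) (i a : κ) (j b : ι) :
    (∑ g, V g * Matrix.single i j (1 : E) * R g⁻¹) a b = ∑ g, V g a i * R g⁻¹ j b := by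
  rw [Matrix.sum_apply]
  apply Finset.sum_congr rfl
  intro g _
  rw [Matrix.mul_apply, Finset.sum_eq_single j]
  · rw [Matrix.mul_single_apply_same, mul_one]
  · intro c _ hc
    rw [Matrix.mul_single_apply_of_ne _ _ _ _ _ hc, zero_mul]
  · intro h; exact absurd (Finset.mem_univ _) h

/-- **Orthogonality.** -/
theorem Sp.orth (hV : Submodule.span E (Set.range V) = ⊤) (h : Sp V R) :
    ∑ g, (V g).trace * (R g⁻¹).trace = 0 := by
  have h1 : ∀ i j, ∑ g, V g i i * R g⁻¹ j j = 0 := by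
    intro i j
    rw [← avg_apply, h.hom_zero hV (avg_intertwine V R (Matrix.single i j 1))]
    rfl
  have h2 : ∀ g, (V g).trace * (R g⁻¹).trace = ∑ i, ∑ j, V g i i * R g⁻¹ j j := by
    intro g
    rw [Matrix.trace, Matrix.trace, Finset.sum_mul_sum]
    rfl
  simp only [h2]
  rw [Finset.sum_comm]
  apply Finset.sum_eq_zero
  intro i _
  rw [Finset.sum_comm]
  exact Finset.sum_eq_zero fun j _ => h1 i j

theorem scalar_of_comm (hV : Submodule.span E (Set.range V) = ⊤) [Nonempty κ] {X : Matrix κ κ E}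
    (h : ∀ g, V g * X = X * V g) : ∃ c : E, X = c • 1 := by
  have h1 : ∀ Y : Matrix κ κ E, Y * X = X * Y := by
    intro Y
    obtain ⟨y, rfl⟩ := algExt_surjective hV Y
    exact intertwine h y
  have h2 : X ∈ Set.range (Matrix.scalar κ : E → Matrix κ κ E) := by
    rw [Matrix.mem_range_scalar_iff_commute_single]
    intro i j _
    exact (h1 _)
  obtain ⟨c, hc⟩ := h2
  exact ⟨c, by rw [← hc, Matrix.scalar_apply, Matrix.smul_one_eq_diagonal]⟩

/-- **The norm.** -/
theorem norm_eq (hV : Submodule.span E (Set.range V) = ⊤) [Nonempty κ] (h0 : (Fintype.card κ : E) ≠ 0) :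
    ∑ g, (V g).trace * (V g⁻¹).trace = (Fintype.card G : E) := by
  have h1 : ∀ i j, ∃ c : E, (∑ g, V g * Matrix.single i j (1 : E) * V g⁻¹) = c • 1 := fun i j =>
    scalar_of_comm hV (avg_intertwine V V (Matrix.single i j 1))
  choose c hc using h1
  have h2 : ∀ i j, c i j * Fintype.card κ = if i = j then (Fintype.card G : E) else 0 := by
    intro i j
    have h3 := congrArg Matrix.trace (hc i j)
    rw [Matrix.trace_smul, Matrix.trace_one, smul_eq_mul, Matrix.trace_sum] at h3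
    rw [← h3]
    have h4 : ∀ g, (V g * Matrix.single i j (1 : E) * V g⁻¹).trace = if i = j then 1 else 0 := by
      intro g
      rw [Matrix.trace_mul_cycle, ← map_mul, inv_mul_cancel, map_one, one_mul]
      split_ifs with h
      · rw [h, Matrix.trace_single_eq_same]
      · rw [Matrix.trace_single_eq_of_ne _ _ _ h]
    simp only [h4]
    rw [Finset.sum_const, Finset.card_univ]
    split_ifs
    · rw [nsmul_eq_mul, mul_one]
    · rw [smul_zero]
  have h3 : ∀ i j, ∑ g, V g i i * V g⁻¹ j j = if i = j then c i i else 0 := by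
    intro i j
    rw [← avg_apply, hc, Matrix.smul_apply, Matrix.one_apply]
    split_ifs with h
    · rw [smul_eq_mul, mul_one, h]
    · rw [smul_zero]
  have h4 : ∀ g, (V g).trace * (V g⁻¹).trace = ∑ i, ∑ j, V g i i * V g⁻¹ j j := by
    intro g
    rw [Matrix.trace, Matrix.trace, Finset.sum_mul_sum]
    rfl
  simp only [h4]
  rw [Finset.sum_comm]
  have h5 : ∑ i, ∑ g, ∑ j, V g i i * V g⁻¹ j j = ∑ i, c i i := by
    apply Finset.sum_congr rfl
    intro i _
    rw [Finset.sum_comm]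
    simp only [h3]
    rw [Finset.sum_ite_eq Finset.univ i]
    simp
  rw [h5]
  apply mul_right_cancel₀ h0
  rw [Finset.sum_mul]
  have h6 : ∀ i, c i i * Fintype.card κ = (Fintype.card G : E) := by
    intro i
    rw [h2, if_pos rfl]
  simp only [h6]
  rw [Finset.sum_const, Finset.card_univ, nsmul_eq_mul, mul_comm]

end orth

end Cfsg.Agent.H956.Sep
end

-- part: H956/K1/Kron
section
/-!
# Kronecker products of two 3-dimensional matrices: units, the swap (helper956)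
-/

set_option autoImplicit false

namespace Cfsg.Agent.H956.K1

open Matrix Cfsg Cfsg.Geo Cfsg.Agent.H920.Nine
open scoped Kronecker

variable {E : Type*} [Field E]

/-- the tensor product of two invertible matrices -/
def kr (X Y : GL (Fin 3) E) : GL (Fin 9) E where
  val := kron9 X Y
  inv := kron9 (X⁻¹ : GL (Fin 3) E) (Y⁻¹ : GL (Fin 3) E)
  val_inv := by rw [← kron9_mul, Units.mul_inv, Units.mul_inv, kron9_one]
  inv_val := by rw [← kron9_mul, Units.inv_mul, Units.inv_mul, kron9_one]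

theorem val_kr (X Y : GL (Fin 3) E) : (kr X Y : Matrix (Fin 9) (Fin 9) E) = kron9 X Y := rfl

theorem kr_mul (X Y X' Y' : GL (Fin 3) E) : kr (X * X') (Y * Y') = kr X Y * kr X' Y' := by
  apply Units.ext
  rw [Units.val_mul, val_kr, val_kr, val_kr, Units.val_mul, Units.val_mul, kron9_mul]

theorem kr_one : kr (1 : GL (Fin 3) E) 1 = 1 := by
  apply Units.ext
  rw [val_kr, Units.val_one, Units.val_one, kron9_one]

theorem kr_inv (X Y : GL (Fin 3) E) : (kr X Y)⁻¹ = kr X⁻¹ Y⁻¹ := rfl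

theorem tr_kr (X Y : GL (Fin 3) E) : (kr X Y : Matrix (Fin 9) (Fin 9) E).trace =
    (X : Matrix (Fin 3) (Fin 3) E).trace * (Y : Matrix (Fin 3) (Fin 3) E).trace := trace_kron9 _ _

theorem det_kron9 (X Y : Matrix (Fin 3) (Fin 3) E) : (kron9 X Y).det = X.det ^ 3 * Y.det ^ 3 := by
  unfold kron9
  rw [Matrix.det_reindex_self, Matrix.det_kronecker, Fintype.card_fin]

theorem det_kr {X Y : GL (Fin 3) E} (hX : (X : Matrix (Fin 3) (Fin 3) E).det = 1)
    (hY : (Y : Matrix (Fin 3) (Fin 3) E).det = 1) : (kr X Y : Matrix (Fin 9) (Fin 9) E).det = 1 := by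
  rw [val_kr, det_kron9, hX, hY, one_pow, one_mul]

theorem kron9_smul_left (c : E) (X Y : Matrix (Fin 3) (Fin 3) E) : kron9 (c • X) Y = c • kron9 X Y := by
  unfold kron9
  rw [Matrix.smul_kronecker]
  rfl

theorem exists_entry {X : Matrix (Fin 3) (Fin 3) E} (hX : X ≠ 0) : ∃ i j, X i j ≠ 0 := by
  by_contra h
  push Not at h
  exact hX (Matrix.ext h)

theorem kron9_eq {X Y X' Y' : Matrix (Fin 3) (Fin 3) E} (hX : X ≠ 0) (hY : Y ≠ 0)
    (h : kron9 X Y = kron9 X' Y') : ∃ c : E, c ≠ 0 ∧ X' = c • X ∧ Y = c • Y' := by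
  have h1 : ∀ i k j l, X i k * Y j l = X' i k * Y' j l := by
    intro i k j l
    rw [← kron9_apply, h, kron9_apply]
  obtain ⟨i, k, hik⟩ := exists_entry hX
  obtain ⟨j, l, hjl⟩ := exists_entry hY
  have h2 := h1 i k j l
  have h3 : X' i k * Y' j l ≠ 0 := by rw [← h2]; exact mul_ne_zero hik hjl
  have h4 : X' i k ≠ 0 := left_ne_zero_of_mul h3
  have h5 : Y' j l ≠ 0 := right_ne_zero_of_mul h3
  have hYY : Y = (X' i k / X i k) • Y' := by
    ext a b
    rw [Matrix.smul_apply, smul_eq_mul]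
    have h6 := h1 i k a b
    field_simp
    linear_combination h6
  refine ⟨X' i k / X i k, div_ne_zero h4 hik, ?_, hYY⟩
  ext a b
  rw [Matrix.smul_apply, smul_eq_mul]
  have h6 := h1 a b j l
  rw [hYY, Matrix.smul_apply, smul_eq_mul] at h6
  apply mul_right_cancel₀ h5
  rw [← h6]
  ring

theorem val_ne_zero {n : Type*} [Fintype n] [DecidableEq n] [Nonempty n] (X : GL n E) : (X : Matrix n n E) ≠ 0 :=
  X.ne_zero

theorem kr_eq {X Y X' Y' : GL (Fin 3) E} (h : kr X Y = kr X' Y') :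
    ∃ c : E, c ≠ 0 ∧ (X' : Matrix (Fin 3) (Fin 3) E) = c • (X : Matrix (Fin 3) (Fin 3) E) ∧
      (Y : Matrix (Fin 3) (Fin 3) E) = c • (Y' : Matrix (Fin 3) (Fin 3) E) :=
  kron9_eq (val_ne_zero X) (val_ne_zero Y) (congrArg Units.val h)

/-- the swap of the two factors -/
def swp : Equiv.Perm (Fin 9) :=
  (finProdFinEquiv (m := 3) (n := 3)).symm.trans ((Equiv.prodComm (Fin 3) (Fin 3)).trans finProdFinEquiv)

theorem swp_apply (i j : Fin 3) : swp (finProdFinEquiv (i, j) : Fin (3 * 3)) = (finProdFinEquiv (j, i) : Fin (3 * 3)) := by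
  unfold swp
  rw [Equiv.trans_apply, Equiv.symm_apply_apply]
  rfl

theorem swp_swp (i : Fin 9) : swp (swp i) = i := by
  revert i
  decide

/-- the swap matrix -/
def swm : Matrix (Fin 9) (Fin 9) E := (1 : Matrix (Fin 9) (Fin 9) E).submatrix swp id

theorem swm_mul (M : Matrix (Fin 9) (Fin 9) E) : swm * M = M.submatrix swp id := by
  unfold swm
  ext i j
  rw [Matrix.mul_apply, Finset.sum_eq_single (swp i)]
  · rw [Matrix.submatrix_apply, Matrix.submatrix_apply, id, Matrix.one_apply_eq, one_mul]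
    rfl
  · intro b _ hb
    rw [Matrix.submatrix_apply, id, Matrix.one_apply_ne (Ne.symm hb), zero_mul]
  · intro h; exact absurd (Finset.mem_univ _) h

theorem mul_swm (M : Matrix (Fin 9) (Fin 9) E) : M * swm = M.submatrix id swp := by
  unfold swm
  ext i j
  rw [Matrix.mul_apply, Finset.sum_eq_single (swp j)]
  · rw [Matrix.submatrix_apply, Matrix.submatrix_apply, id, swp_swp, id, Matrix.one_apply_eq, mul_one]
  · intro b _ hb
    rw [Matrix.submatrix_apply, id, Matrix.one_apply_ne, mul_zero]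
    intro h
    apply hb
    rw [← h, swp_swp]
  · intro h; exact absurd (Finset.mem_univ _) h

theorem swm_swm : (swm : Matrix (Fin 9) (Fin 9) E) * swm = 1 := by
  rw [swm_mul]
  unfold swm
  ext i j
  rw [Matrix.submatrix_apply, Matrix.submatrix_apply, swp_swp]
  rfl

/-- the swap as an invertible matrix -/
def sw : GL (Fin 9) E where
  val := swm
  inv := swm
  val_inv := swm_swm
  inv_val := swm_swm

theorem sw_mul_sw : (sw : GL (Fin 9) E) * sw = 1 := Units.ext swm_swm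

theorem sw_inv : (sw : GL (Fin 9) E)⁻¹ = sw := rfl

theorem val_sw : ((sw : GL (Fin 9) E) : Matrix (Fin 9) (Fin 9) E) = swm := rfl

theorem forall_nine {q : Fin 9 → Prop} (h : ∀ i j : Fin 3, q (finProdFinEquiv (i, j) : Fin (3 * 3))) (a : Fin 9) : q a := by
  have := h ((finProdFinEquiv (m := 3) (n := 3)).symm a).1 ((finProdFinEquiv (m := 3) (n := 3)).symm a).2
  rwa [Prod.mk.eta, Equiv.apply_symm_apply] at this

omit [Field E] in
theorem ext_nine {M N : Matrix (Fin 9) (Fin 9) E} (h : ∀ i j k l : Fin 3, M (finProdFinEquiv (i, j) : Fin (3 * 3))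
    (finProdFinEquiv (k, l) : Fin (3 * 3)) = N (finProdFinEquiv (i, j) : Fin (3 * 3)) (finProdFinEquiv (k, l) : Fin (3 * 3))) :
    M = N := by
  ext a b
  revert b
  revert a
  apply forall_nine
  intro i j
  apply forall_nine
  intro k l
  exact h i j k l

theorem swm_kron9 (X Y : Matrix (Fin 3) (Fin 3) E) : swm * kron9 X Y = kron9 Y X * swm := by
  rw [swm_mul, mul_swm]
  apply ext_nine
  intro i j k l
  rw [Matrix.submatrix_apply, Matrix.submatrix_apply, swp_apply, swp_apply, id, id, kron9_apply, kron9_apply, mul_comm]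

theorem sw_kr (X Y : GL (Fin 3) E) : sw * kr X Y = kr Y X * sw := Units.ext (swm_kron9 _ _)

theorem sw_kr_sw (X Y : GL (Fin 3) E) : sw * kr X Y * sw = kr Y X := by
  rw [sw_kr, mul_assoc, sw_mul_sw, mul_one]

theorem sw_not_scalar (c : E) : (swm : Matrix (Fin 9) (Fin 9) E) ≠ c • 1 := by
  intro h
  have h1 := congrFun (congrFun h 1) (swp 1)
  have h2 : (1 : Fin 9) ≠ swp 1 := by decide
  rw [Matrix.smul_apply, Matrix.one_apply_ne h2, smul_zero] at h1
  unfold swm at h1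
  rw [Matrix.submatrix_apply, id, Matrix.one_apply_eq] at h1
  exact one_ne_zero h1

theorem kron9_map {K : Type*} [Field K] (f : E →+* K) (X Y : Matrix (Fin 3) (Fin 3) E) :
    (kron9 X Y).map f = kron9 (X.map f) (Y.map f) := by
  apply ext_nine
  intro i j k l
  rw [Matrix.map_apply, kron9_apply, kron9_apply, Matrix.map_apply, Matrix.map_apply, map_mul]

theorem kron9_transpose (X Y : Matrix (Fin 3) (Fin 3) E) : (kron9 X Y)ᵀ = kron9 Xᵀ Yᵀ := by
  apply ext_nine
  intro i j k l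
  rw [Matrix.transpose_apply, kron9_apply, kron9_apply, Matrix.transpose_apply, Matrix.transpose_apply]

theorem swm_map {K : Type*} [Field K] (f : E →+* K) : (swm : Matrix (Fin 9) (Fin 9) E).map f = swm := by
  unfold swm
  ext i j
  rw [Matrix.map_apply, Matrix.submatrix_apply, Matrix.submatrix_apply, Matrix.one_apply, Matrix.one_apply]
  split_ifs
  · exact map_one f
  · exact map_zero f

theorem swm_transpose : (swm : Matrix (Fin 9) (Fin 9) E)ᵀ = swm := by
  unfold swm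
  ext i j
  rw [Matrix.transpose_apply, Matrix.submatrix_apply, Matrix.submatrix_apply, Matrix.one_apply, Matrix.one_apply]
  apply if_congr _ rfl rfl
  constructor
  · intro h
    rw [id] at h ⊢
    rw [← h, swp_swp]
  · intro h
    rw [id] at h ⊢
    rw [← h, swp_swp]

end Cfsg.Agent.H956.K1
end

-- part: H956/K1/Iso
section
/-!
# The nine-dimensional representations of `3.A₆` (helper956)

`Cov.iso` : `V : P → GL₉(E)` spanning, `V z = ω` ⟹ `V ≅ A ⊗ B`.
-/

set_option autoImplicit false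
set_option maxRecDepth 20000

namespace Cfsg.Agent.H956.K1

open Matrix Cfsg Cfsg.Geo Cfsg.Agent.H173.Pres Cfsg.Agent.H920.Nine Cfsg.Agent.H956.Sep

section basic

variable {P : Type*} [Group P] {E : Type*} [Field E] {n : Type*} [Fintype n] [DecidableEq n]

/-- the matrices of a representation -/
def mo (R : P →* GL n E) : P →* Matrix n n E := (Units.coeHom (Matrix n n E)).comp R

theorem mo_apply (R : P →* GL n E) (g : P) : mo R g = (R g : Matrix n n E) := rfl

/-- the dual representation -/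
def du (R : P →* GL n E) : P →* GL n E where
  toFun g :=
    { val := (R g⁻¹ : Matrix n n E)ᵀ
      inv := (R g : Matrix n n E)ᵀ
      val_inv := by
        rw [← Matrix.transpose_mul, ← Units.val_mul, ← map_mul, mul_inv_cancel, map_one, Units.val_one,
          Matrix.transpose_one]
      inv_val := by
        rw [← Matrix.transpose_mul, ← Units.val_mul, ← map_mul, inv_mul_cancel, map_one, Units.val_one,
          Matrix.transpose_one] }
  map_one' := by
    apply Units.ext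
    show (R 1⁻¹ : Matrix n n E)ᵀ = 1
    rw [inv_one, map_one, Units.val_one, Matrix.transpose_one]
  map_mul' g h := by
    apply Units.ext
    show (R (g * h)⁻¹ : Matrix n n E)ᵀ = (R g⁻¹ : Matrix n n E)ᵀ * (R h⁻¹ : Matrix n n E)ᵀ
    rw [_root_.mul_inv_rev, map_mul, Units.val_mul, Matrix.transpose_mul]

theorem tr_du (R : P →* GL n E) (g : P) : (du R g : Matrix n n E).trace = (R g⁻¹ : Matrix n n E).trace :=
  Matrix.trace_transpose _

/-- the tensor product -/
def tens (A B : P →* GL (Fin 3) E) : P →* GL (Fin 9) E where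
  toFun g := kr (A g) (B g)
  map_one' := by rw [map_one, map_one, kr_one]
  map_mul' g h := by rw [map_mul, map_mul, kr_mul]

theorem tens_apply (A B : P →* GL (Fin 3) E) (g : P) : tens A B g = kr (A g) (B g) := rfl

theorem tr_conj' (R : P →* GL n E) (g t : P) : (R (t * g * t⁻¹) : Matrix n n E).trace = (R g : Matrix n n E).trace := by
  rw [map_mul, map_mul, Units.val_mul, Units.val_mul, Matrix.trace_mul_cycle, ← Units.val_mul, ← map_mul,
    inv_mul_cancel, map_one, Units.val_one, one_mul]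

theorem tr_one (R : P →* GL n E) : (R 1 : Matrix n n E).trace = Fintype.card n := by
  rw [map_one, Units.val_one, Matrix.trace_one]

theorem trace_of_nilp {M : Matrix n n E} {k : ℕ} (h : (M - 1) ^ k = 0) : M.trace = Fintype.card n := by
  have h1 : IsNilpotent (M - 1).trace := Matrix.isNilpotent_trace_of_isNilpotent ⟨k, h⟩
  have h2 := h1.eq_zero
  rw [Matrix.trace_sub, Matrix.trace_one] at h2
  exact sub_eq_zero.1 h2

end basic

namespace Cov

variable {P : Type*} [Group P] {C : Cov P} {E : Type*} [Field E]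

section tr

variable {n : Type*} [Fintype n] [DecidableEq n] {R : P →* GL n E} {c : E}

theorem tr_z (hz : (R C.z : Matrix n n E) = c • 1) (g : P) :
    (R (C.z * g) : Matrix n n E).trace = c * (R g : Matrix n n E).trace := by
  rw [map_mul, Units.val_mul, hz, Matrix.smul_mul, one_mul, Matrix.trace_smul, smul_eq_mul]

/-- elements of order three have trace zero -/
theorem tr_x [Finite P] (hz : (R C.z : Matrix n n E) = c • 1) (hc : c ≠ 1) : (R C.x : Matrix n n E).trace = 0 := by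
  have h1 : C.c⁻¹ * C.x * C.c⁻¹⁻¹ = C.z * C.x := by
    rw [inv_inv, mul_assoc, C.rel, ← mul_assoc C.z, ← C.z_comm C.c]
    group
  have h2 := tr_conj' R C.x C.c⁻¹
  rw [h1, tr_z hz] at h2
  have h3 : (c - 1) * (R C.x : Matrix n n E).trace = 0 := by linear_combination h2
  exact (mul_eq_zero.1 h3).resolve_left (sub_ne_zero.2 hc)

theorem tr_xc [Finite P] (hz : (R C.z : Matrix n n E) = c • 1) (hc : c ≠ 1) :
    (R (C.x * C.c) : Matrix n n E).trace = 0 := by
  have h1 : C.c⁻¹ * (C.x * C.c) * C.c⁻¹⁻¹ = C.z * (C.x * C.c) := by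
    rw [inv_inv]
    nth_rewrite 1 [C.rel]
    rw [← mul_assoc C.z, ← C.z_comm C.c]
    have := C.z_comm C.x
    calc C.c⁻¹ * (C.c * C.z * C.x) * C.c = C.z * C.x * C.c := by group
      _ = C.z * (C.x * C.c) := by group
  have h2 := tr_conj' R (C.x * C.c) C.c⁻¹
  rw [h1, tr_z hz] at h2
  have h3 : (c - 1) * (R (C.x * C.c) : Matrix n n E).trace = 0 := by linear_combination h2
  exact (mul_eq_zero.1 h3).resolve_left (sub_ne_zero.2 hc)

variable (R) in
theorem tr_inv_of_conj {g t : P} (h : t * g = g⁻¹ * t) : (R g⁻¹ : Matrix n n E).trace = (R g : Matrix n n E).trace :=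
  (trace_conj_GL R h).symm

variable (C R) in
theorem tr_a_inv : (R C.a⁻¹ : Matrix n n E).trace = (R C.a : Matrix n n E).trace := by
  have h10 : C.a⁻¹ = C.a := by
    rw [inv_eq_iff_mul_eq_one, ← pow_two, C.a2]
  rw [h10]

variable (C R) in
theorem tr_b_inv : (R C.b⁻¹ : Matrix n n E).trace = (R C.b : Matrix n n E).trace := by
  obtain ⟨t, ht⟩ := C.b_conj
  exact tr_inv_of_conj R ht

variable (C R) in
theorem tr_u_inv [Finite P] : (R C.u⁻¹ : Matrix n n E).trace = (R C.u : Matrix n n E).trace := by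
  obtain ⟨t, ht⟩ := C.u_conj
  exact tr_inv_of_conj R ht

variable (C R) in
theorem tr_u2_inv [Finite P] : (R (C.u ^ 2)⁻¹ : Matrix n n E).trace = (R (C.u ^ 2) : Matrix n n E).trace := by
  obtain ⟨t, ht⟩ := C.u_conj
  apply tr_inv_of_conj R (t := t)
  rw [pow_two, ← mul_assoc, ht, mul_assoc, ht]
  group

end tr

section three

variable [Finite P] {p : Par E} {A : P →* GL (Fin 3) E} (ha : A C.a = p.gA) (hb : A C.b = p.gB)

include ha hb

omit ha hb [Finite P] in
theorem t1 : (A 1 : Matrix (Fin 3) (Fin 3) E).trace = 3 := by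
  rw [tr_one, Fintype.card_fin]
  norm_num

omit [Finite P] hb in
theorem t2 : (A C.a : Matrix (Fin 3) (Fin 3) E).trace = -1 := by rw [ha, Par.tr_A]

omit [Finite P] ha in
theorem t4 : (A C.b : Matrix (Fin 3) (Fin 3) E).trace = 1 := by rw [hb, Par.tr_B]

omit [Finite P] in
theorem t5 : (A C.u : Matrix (Fin 3) (Fin 3) E).trace = 1 - p.φ := by rw [rep_u ha hb, Par.tr_u]

omit [Finite P] in
theorem t55 : (A (C.u ^ 2) : Matrix (Fin 3) (Fin 3) E).trace = p.φ := by rw [map_pow, rep_u ha hb, Par.tr_u2]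

end three

section iso

variable {p : Par E} {A B : P →* GL (Fin 3) E} {V : P →* GL (Fin 9) E}

theorem tr_z_inv {n : Type*} [Fintype n] [DecidableEq n] {R : P →* GL n E} {c d : E}
    (hz : (R C.z : Matrix n n E) = c • 1) (hcd : c * d = 1) (g : P) :
    (R (C.z * g)⁻¹ : Matrix n n E).trace = d * (R g⁻¹ : Matrix n n E).trace := by
  have hzi : (R C.z⁻¹ : Matrix n n E) = d • 1 := by
    have h8 : (R C.z : Matrix n n E) * (R C.z⁻¹ : Matrix n n E) = 1 := by
      rw [← Units.val_mul, ← map_mul, mul_inv_cancel, map_one, Units.val_one]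
    rw [hz, Matrix.smul_mul, one_mul] at h8
    have h9 := congrArg (fun M => d • M) h8
    simp only [smul_smul] at h9
    rw [mul_comm, hcd, one_smul] at h9
    exact h9
  rw [_root_.mul_inv_rev, map_mul, Units.val_mul, hzi, Matrix.mul_smul, mul_one, Matrix.trace_smul, smul_eq_mul]

/-- orthogonality for two representations with inverse central characters -/
theorem orth_eq [Fintype P] {n : Type} [Fintype n] [DecidableEq n] {R : P →* GL n E}
    (hV : Submodule.span E (Set.range (mo V)) = ⊤) (hz : (V C.z : Matrix (Fin 9) (Fin 9) E) = p.ω • 1)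
    (hR : ∀ g, (R (C.z * g)⁻¹ : Matrix n n E).trace = p.ω ^ 2 * (R g⁻¹ : Matrix n n E).trace)
    (h : Sp (mo V) (mo R)) :
    2 * (9 * (Fintype.card n : E)) + 90 * ((V C.a : Matrix (Fin 9) (Fin 9) E).trace * (R C.a : Matrix n n E).trace) +
      180 * ((V C.b : Matrix (Fin 9) (Fin 9) E).trace * (R C.b : Matrix n n E).trace) +
      144 * ((V C.u : Matrix (Fin 9) (Fin 9) E).trace * (R C.u : Matrix n n E).trace +
        (V (C.u ^ 2) : Matrix (Fin 9) (Fin 9) E).trace * (R (C.u ^ 2) : Matrix n n E).trace) = 0 := by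
  have h1 := h.orth hV
  have h2 := C.sum_eq (fun g => (V g : Matrix (Fin 9) (Fin 9) E).trace * (R g⁻¹ : Matrix n n E).trace) (by
      intro g t
      rw [tr_conj', show (t * g * t⁻¹)⁻¹ = t * g⁻¹ * t⁻¹ by group, tr_conj']) (by
      intro g
      rw [tr_z hz, hR]
      linear_combination ((V g : Matrix (Fin 9) (Fin 9) E).trace * (R g⁻¹ : Matrix n n E).trace) * p.ω_cube) (by
      rw [tr_x hz p.ω_ne_one, zero_mul]) (by
      rw [tr_xc hz p.ω_ne_one, zero_mul])
  have h3 : ∑ g, (V g : Matrix (Fin 9) (Fin 9) E).trace * (R g⁻¹ : Matrix n n E).trace = 0 := h1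
  rw [h3, mul_zero, inv_one, tr_one, tr_one, tr_a_inv, tr_b_inv, tr_u_inv, tr_u2_inv, Fintype.card_fin] at h2
  have h4 := (mul_eq_zero.1 h2.symm).resolve_left p.h3
  push_cast at h4
  exact h4

/-- the norm of the character -/
theorem norm_eq' [Fintype P] (hV : Submodule.span E (Set.range (mo V)) = ⊤)
    (hz : (V C.z : Matrix (Fin 9) (Fin 9) E) = p.ω • 1) :
    162 + 90 * ((V C.a : Matrix (Fin 9) (Fin 9) E).trace ^ 2) +
      180 * ((V C.b : Matrix (Fin 9) (Fin 9) E).trace ^ 2) +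
      144 * ((V C.u : Matrix (Fin 9) (Fin 9) E).trace ^ 2 +
        (V (C.u ^ 2) : Matrix (Fin 9) (Fin 9) E).trace ^ 2) = 720 := by
  have h9 : ((Fintype.card (Fin 9) : ℕ) : E) ≠ 0 := by
    rw [Fintype.card_fin]
    have : ((9 : ℕ) : E) = 3 * 3 := by norm_num
    rw [this]
    exact mul_ne_zero p.h3 p.h3
  have h1 := Sep.norm_eq hV h9
  have hω : p.ω * p.ω ^ 2 = 1 := by linear_combination p.ω_cube
  have h2 := C.sum_eq (fun g => (V g : Matrix (Fin 9) (Fin 9) E).trace * (V g⁻¹ : Matrix (Fin 9) (Fin 9) E).trace) (by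
      intro g t
      rw [tr_conj', show (t * g * t⁻¹)⁻¹ = t * g⁻¹ * t⁻¹ by group, tr_conj']) (by
      intro g
      rw [tr_z hz, tr_z_inv hz hω]
      linear_combination ((V g : Matrix (Fin 9) (Fin 9) E).trace * (V g⁻¹ : Matrix (Fin 9) (Fin 9) E).trace) *
        p.ω_cube) (by
      rw [tr_x hz p.ω_ne_one, zero_mul]) (by
      rw [tr_xc hz p.ω_ne_one, zero_mul])
  have h3 : ∑ g, (V g : Matrix (Fin 9) (Fin 9) E).trace * (V g⁻¹ : Matrix (Fin 9) (Fin 9) E).trace =
      (Fintype.card P : E) := h1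
  have hP : Fintype.card P = 1080 := by
    rw [← Nat.card_eq_fintype_card]
    have h4 := Subgroup.card_mul_index C.π.ker
    have h5 := Subgroup.index_ker C.π
    rw [MonoidHom.range_eq_top.2 C.surj, Subgroup.card_top, card_a6] at h5
    rw [C.card, h5] at h4
    omega
  rw [h3, hP, inv_one, tr_one, tr_a_inv, tr_b_inv, tr_u_inv, tr_u2_inv, Fintype.card_fin] at h2
  have h4 : (3 : E) * (162 + 90 * ((V C.a : Matrix (Fin 9) (Fin 9) E).trace ^ 2) +
      180 * ((V C.b : Matrix (Fin 9) (Fin 9) E).trace ^ 2) +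
      144 * ((V C.u : Matrix (Fin 9) (Fin 9) E).trace ^ 2 +
        (V (C.u ^ 2) : Matrix (Fin 9) (Fin 9) E).trace ^ 2) - 720) = 0 := by
    push_cast at h2
    linear_combination -h2
  exact sub_eq_zero.1 ((mul_eq_zero.1 h4).resolve_left p.h3)

theorem du_z {R : P →* GL (Fin 3) E} (hR : (R C.z : Matrix (Fin 3) (Fin 3) E) = (p.ω * p.ω) • 1) (g : P) :
    (du R (C.z * g)⁻¹ : Matrix (Fin 3) (Fin 3) E).trace = p.ω ^ 2 * (du R g⁻¹ : Matrix (Fin 3) (Fin 3) E).trace := by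
  rw [tr_du, tr_du, inv_inv, inv_inv, tr_z hR, pow_two]

theorem tens_z {R S : P →* GL (Fin 3) E} (hR : (R C.z : Matrix (Fin 3) (Fin 3) E) = (p.ω * p.ω) • 1)
    (hS : (S C.z : Matrix (Fin 3) (Fin 3) E) = (p.ω * p.ω) • 1) (g : P) :
    (tens R S (C.z * g)⁻¹ : Matrix (Fin 9) (Fin 9) E).trace =
      p.ω ^ 2 * (tens R S g⁻¹ : Matrix (Fin 9) (Fin 9) E).trace := by
  have hω : p.ω * p.ω * p.ω = 1 := by linear_combination p.ω_cube
  rw [tens_apply, tens_apply, tr_kr, tr_kr, tr_z_inv hR hω, tr_z_inv hS hω]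
  ring

theorem du_zz {R : P →* GL (Fin 3) E} {c d : E} (hR : (R C.z : Matrix (Fin 3) (Fin 3) E) = c • 1) (hcd : c * d = 1) :
    (du R C.z : Matrix (Fin 3) (Fin 3) E) = d • 1 := by
  have h1 : (du R C.z : Matrix (Fin 3) (Fin 3) E) * (R C.z : Matrix (Fin 3) (Fin 3) E)ᵀ = 1 := by
    show (R C.z⁻¹ : Matrix (Fin 3) (Fin 3) E)ᵀ * _ = 1
    rw [← Matrix.transpose_mul, ← Units.val_mul, ← map_mul, mul_inv_cancel, map_one, Units.val_one, Matrix.transpose_one]
  rw [hR, Matrix.transpose_smul, Matrix.transpose_one, Matrix.mul_smul, mul_one] at h1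
  have h2 := congrArg (fun M => d • M) h1
  simp only [smul_smul] at h2
  rw [mul_comm d, hcd, one_smul] at h2
  exact h2

theorem tr_du_x [Finite P] {R : P →* GL (Fin 3) E} {c d : E} (hR : (R C.z : Matrix (Fin 3) (Fin 3) E) = c • 1)
    (hcd : c * d = 1) (hd : d ≠ 1) : (R C.x⁻¹ : Matrix (Fin 3) (Fin 3) E).trace = 0 := by
  rw [← tr_du]
  exact tr_x (du_zz hR hcd) hd

theorem tr_du_xc [Finite P] {R : P →* GL (Fin 3) E} {c d : E} (hR : (R C.z : Matrix (Fin 3) (Fin 3) E) = c • 1)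
    (hcd : c * d = 1) (hd : d ≠ 1) : (R (C.x * C.c)⁻¹ : Matrix (Fin 3) (Fin 3) E).trace = 0 := by
  rw [← tr_du]
  exact tr_xc (du_zz hR hcd) hd

/-- the symmetric square is not absolutely irreducible -/
theorem not_sym [Fintype P] (hV : Submodule.span E (Set.range (mo V)) = ⊤) {X : GL (Fin 9) E}
    (h : ∀ g, V g = X * kr (A g) (A g) * X⁻¹) : False := by
  obtain ⟨c, hc⟩ := scalar_of_comm hV (X := ((X * sw * X⁻¹ : GL (Fin 9) E) : Matrix (Fin 9) (Fin 9) E)) (by
    intro g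
    rw [mo_apply, ← Units.val_mul, ← Units.val_mul]
    congr 1
    rw [h g]
    calc X * kr (A g) (A g) * X⁻¹ * (X * sw * X⁻¹) = X * (kr (A g) (A g) * sw) * X⁻¹ := by group
      _ = X * (sw * kr (A g) (A g)) * X⁻¹ := by rw [sw_kr]
      _ = X * sw * X⁻¹ * (X * kr (A g) (A g) * X⁻¹) := by group)
  apply sw_not_scalar c
  have h1 : (swm : Matrix (Fin 9) (Fin 9) E) = ((X⁻¹ : GL (Fin 9) E) : Matrix (Fin 9) (Fin 9) E) *
      ((X * sw * X⁻¹ : GL (Fin 9) E) : Matrix (Fin 9) (Fin 9) E) * (X : Matrix (Fin 9) (Fin 9) E) := by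
    rw [← Units.val_mul, ← Units.val_mul, ← val_sw]
    congr 1
    group
  rw [h1, hc, Matrix.mul_smul, mul_one, Matrix.smul_mul, ← Units.val_mul, inv_mul_cancel, Units.val_one]

attribute [-instance] instNoNatZeroDivisorsOfIsAddTorsionFree instIsCharPOfIsLeftCancelAddOfCharP in
/-- **The isomorphism type of `V`.** -/
theorem iso [Fintype P] (ha : A C.a = p.gA) (hb : A C.b = p.gB)
    (ha' : B C.a = p.swap.gA) (hb' : B C.b = p.swap.gB)
    (hV : Submodule.span E (Set.range (mo V)) = ⊤) (hz : (V C.z : Matrix (Fin 9) (Fin 9) E) = p.ω • 1)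
    (h5 : (5 : E) = 0 → (V C.a : Matrix (Fin 9) (Fin 9) E).trace = -3 ∧
      (V C.b : Matrix (Fin 9) (Fin 9) E).trace = 3) :
    ∃ X : GL (Fin 9) E, ∀ g, V g = X * kr (A g) (B g) * X⁻¹ := by
  have hAz : (A C.z : Matrix (Fin 3) (Fin 3) E) = (p.ω * p.ω) • 1 := rep_z ha hb
  have hBz : (B C.z : Matrix (Fin 3) (Fin 3) E) = (p.ω * p.ω) • 1 := rep_z (p := p.swap) ha' hb'
  have hww : p.ω * p.ω ≠ 1 := ww_ne p
  have hwww : p.ω * p.ω * p.ω = 1 := by linear_combination p.ω_cube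
  have lift : ∀ R : P →* GL (Fin 9) E, (∃ Y : GL (Fin 9) E, ∀ g, mo V g = (Y : Matrix (Fin 9) (Fin 9) E) * mo R g *
      ((Y⁻¹ : GL (Fin 9) E) : Matrix (Fin 9) (Fin 9) E)) → ∃ Y : GL (Fin 9) E, ∀ g, V g = Y * R g * Y⁻¹ := by
    rintro R ⟨Y, hY⟩
    exact ⟨Y, fun g => Units.ext (hY g)⟩
  obtain ⟨t, ht⟩ : ∃ t, t = (V C.a : Matrix (Fin 9) (Fin 9) E).trace := ⟨_, rfl⟩
  obtain ⟨r, hr⟩ : ∃ t, t = (V C.b : Matrix (Fin 9) (Fin 9) E).trace := ⟨_, rfl⟩
  obtain ⟨u₁, hu₁⟩ : ∃ t, t = (V C.u : Matrix (Fin 9) (Fin 9) E).trace := ⟨_, rfl⟩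
  obtain ⟨u₂, hu₂⟩ : ∃ t, t = (V (C.u ^ 2) : Matrix (Fin 9) (Fin 9) E).trace := ⟨_, rfl⟩
  have hsw : p.swap.φ = 1 - p.φ := rfl
  by_cases h2 : (2 : E) = 0
  · -- characteristic two
    have hn9 : ((Fintype.card (Fin 9) : ℕ) : E) = 1 := by
      rw [Fintype.card_fin]
      push_cast
      linear_combination 4 * h2
    have et : t = 1 := by
      rw [ht, ← hn9]
      apply trace_of_nilp (k := 2)
      have h3 : (V C.a : Matrix (Fin 9) (Fin 9) E) * (V C.a : Matrix (Fin 9) (Fin 9) E) = 1 := by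
        rw [← Units.val_mul, ← map_mul, ← pow_two, C.a2, map_one, Units.val_one]
      rw [pow_two, sub_mul, mul_sub, mul_sub, h3, mul_one, one_mul, one_mul]
      ext i j
      have : ∀ x : E, x + x = 0 := fun x => by linear_combination x * h2
      simp only [Matrix.sub_apply, Matrix.zero_apply]
      linear_combination ((1 : Matrix (Fin 9) (Fin 9) E) i j - (V C.a : Matrix (Fin 9) (Fin 9) E) i j) * h2
    have er : r = 1 := by
      rw [hr, ← hn9]
      apply trace_of_nilp (k := 4)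
      obtain ⟨β, hβ⟩ : ∃ β, β = (V C.b : Matrix (Fin 9) (Fin 9) E) := ⟨_, rfl⟩
      have h3 : β * β * (β * β) = 1 := by
        rw [hβ, ← Units.val_mul, ← map_mul, ← Units.val_mul, ← map_mul]
        have : C.b * C.b * (C.b * C.b) = C.b ^ 4 := by rw [← pow_two, ← pow_two, ← pow_mul]
        rw [this, C.b4, map_one, Units.val_one]
      rw [← hβ]
      have h4 : ∀ M : Matrix (Fin 9) (Fin 9) E, (M - 1) * (M - 1) = M * M - 1 := by
        intro M
        rw [sub_mul, mul_sub, mul_sub, mul_one, one_mul, one_mul]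
        ext i j
        simp only [Matrix.sub_apply]
        linear_combination ((1 : Matrix (Fin 9) (Fin 9) E) i j - M i j) * h2
      rw [show 4 = 2 * 2 from rfl, pow_mul, pow_two (β - 1), h4, pow_two, h4, h3, sub_self]
    apply lift (tens A B)
    obtain ⟨c₁, hc₁⟩ : ∃ c, c = 1 + u₁ + u₂ := ⟨_, rfl⟩
    obtain ⟨c₂, hc₂⟩ : ∃ c, c = u₁ + c₁ + p.φ * (u₁ + u₂) := ⟨_, rfl⟩
    obtain ⟨c₃, hc₃⟩ : ∃ c, c = u₁ + u₂ + c₂ := ⟨_, rfl⟩
    refine conj_of_trace3 (R₁ := mo (tens A B)) (R₂ := mo (du A)) (R₃ := mo (du B)) hV (by decide)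
      (c₁ := c₁) (c₂ := c₂) (c₃ := c₃) ?_
    have key := C.eq_zero_of_reps (ζ := p.ω) (fun g => (V g : Matrix (Fin 9) (Fin 9) E).trace -
      (c₁ * (tens A B g : Matrix (Fin 9) (Fin 9) E).trace + c₂ * (du A g : Matrix (Fin 3) (Fin 3) E).trace +
        c₃ * (du B g : Matrix (Fin 3) (Fin 3) E).trace)) ?_ ?_ ?_
    · intro g
      exact sub_eq_zero.1 (key g)
    · intro g s
      rw [tr_conj', tr_conj', tr_conj', tr_conj']
    · intro g
      rw [tr_z hz, tens_apply, tr_kr, tr_z hAz, tr_z hBz, tr_du, tr_du, tr_z_inv hAz hwww, tr_z_inv hBz hwww,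
        tens_apply, tr_kr, tr_du, tr_du]
      linear_combination (-c₁ * (A g : Matrix (Fin 3) (Fin 3) E).trace * (B g : Matrix (Fin 3) (Fin 3) E).trace * p.ω) *
        hwww
    · rintro g (rfl | rfl | rfl | rfl | rfl | rfl | rfl)
      · rw [tr_one, tr_one, tr_one, tr_one, hn9, Fintype.card_fin]
        push_cast
        (clear * - h2 hc₁ hc₃; grobner)
      · rw [← ht, et, tens_apply, tr_kr, tr_du, tr_du, tr_a_inv, tr_a_inv, t2 ha, t2 ha']
        (clear * - h2 hc₁ hc₃; grobner)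
      · rw [← hr, er, tens_apply, tr_kr, tr_du, tr_du, tr_b_inv, tr_b_inv, t4 hb, t4 hb']
        (clear * - h2 hc₁ hc₃; grobner)
      · rw [← hu₁, tens_apply, tr_kr, tr_du, tr_du, tr_u_inv, tr_u_inv, t5 ha hb, t5 ha' hb', hsw]
        have := p.hφ
        (clear * - h2 hc₁ hc₂ hc₃ this; grobner)
      · rw [← hu₂, tens_apply, tr_kr, tr_du, tr_du, tr_u2_inv, tr_u2_inv, t55 ha hb, t55 ha' hb', hsw]
        have := p.hφ
        (clear * - h2 hc₁ hc₂ hc₃ this; grobner)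
      · rw [tr_x hz p.ω_ne_one, tens_apply, tr_kr, tr_x hAz hww, tr_du, tr_du, tr_du_x hAz hwww p.ω_ne_one,
          tr_du_x hBz hwww p.ω_ne_one]
        ring
      · rw [tr_xc hz p.ω_ne_one, tens_apply, tr_kr, tr_xc hAz hww, tr_du, tr_du, tr_du_xc hAz hwww p.ω_ne_one,
          tr_du_xc hBz hwww p.ω_ne_one]
        ring
  by_cases h5' : (5 : E) = 0
  · -- characteristic five
    exfalso
    obtain ⟨et, er⟩ := h5 h5'
    have hch : CharP E 5 := by
      refine (CharP.charP_iff_prime_eq_zero (by norm_num)).2 ?_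
      exact_mod_cast h5'
    have nilp : ∀ {n : Type} [Fintype n] [DecidableEq n] [Nonempty n] (R : P →* GL n E) (g : P), g ^ 5 = 1 →
        (R g : Matrix n n E).trace = Fintype.card n := by
      intro n _ _ _ R g hg
      apply trace_of_nilp (k := 5)
      have : Fact (Nat.Prime 5) := ⟨by norm_num⟩
      rw [sub_pow_char_of_commute 5 (Commute.one_right _), one_pow, ← Units.val_pow_eq_pow_val, ← map_pow, hg, map_one,
        Units.val_one, sub_self]
    have hu5 := C.u_five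
    have hu5' : (C.u ^ 2) ^ 5 = 1 := by rw [← pow_mul, mul_comm, pow_mul, hu5, one_pow]
    refine false_of_trace (R := mo (du A)) hV (by decide) (c := 3) ?_
    have key := C.eq_zero_of_reps (ζ := p.ω) (fun g => (V g : Matrix (Fin 9) (Fin 9) E).trace -
      3 * (du A g : Matrix (Fin 3) (Fin 3) E).trace) ?_ ?_ ?_
    · intro g
      exact sub_eq_zero.1 (key g)
    · intro g s
      rw [tr_conj', tr_conj']
    · intro g
      rw [tr_z hz, tr_du, tr_du, tr_z_inv hAz hwww]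
      ring
    · rintro g (rfl | rfl | rfl | rfl | rfl | rfl | rfl)
      · rw [tr_one, tr_one, Fintype.card_fin, Fintype.card_fin]
        push_cast
        norm_num
      · rw [et, tr_du, tr_a_inv, t2 ha]
        norm_num
      · rw [er, tr_du, tr_b_inv, t4 hb]
        norm_num
      · rw [nilp V _ hu5, nilp (du A) _ hu5, Fintype.card_fin, Fintype.card_fin]
        norm_num
      · rw [nilp V _ hu5', nilp (du A) _ hu5', Fintype.card_fin, Fintype.card_fin]
        norm_num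
      · rw [tr_x hz p.ω_ne_one, tr_du, tr_du_x hAz hwww p.ω_ne_one]
        ring
      · rw [tr_xc hz p.ω_ne_one, tr_du, tr_du_xc hAz hwww p.ω_ne_one]
        ring
  -- characteristic at least seven
  rcases conj_or_sp (V := mo V) (R := mo (tens A B)) hV with h | s3
  · exact lift (tens A B) h
  rcases conj_or_sp (V := mo V) (R := mo (tens A A)) hV with h | s4
  · exfalso
    obtain ⟨X, hX⟩ := lift (tens A A) h
    exact not_sym (A := A) hV hX
  exfalso
  have s1 := sp_of_lt (V := mo V) (R := mo (du A)) hV (by decide)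
  have s2 := sp_of_lt (V := mo V) (R := mo (du B)) hV (by decide)
  have O1 := orth_eq hV hz (du_z hAz) s1
  have O2 := orth_eq hV hz (du_z hBz) s2
  have O3 := orth_eq hV hz (tens_z hAz hBz) s3
  have O4 := orth_eq hV hz (tens_z hAz hAz) s4
  have O5 := norm_eq' hV hz
  simp only [tens_apply, tr_kr, tr_du, tr_a_inv, tr_b_inv, tr_u_inv, tr_u2_inv, t2 ha, t2 ha', t4 hb, t4 hb',
    t5 ha hb, t5 ha' hb', t55 ha hb, t55 ha' hb', hsw, Fintype.card_fin, ← ht, ← hr, ← hu₁, ← hu₂] at O1 O2 O3 O4 O5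
  push_cast at O1 O2 O3 O4 O5
  have hφ := p.hφ
  have h3 := p.h3
  have hu : u₁ = u₂ := by
    have : ((2 : E) ^ 4 * 3 ^ 2 * 5) * (u₁ - u₂) = 0 := by
      linear_combination (1 - 2 * p.φ) * (O1 - O2) - (576 * (u₁ - u₂)) * hφ
    have h6 : ((2 : E) ^ 4 * 3 ^ 2 * 5) ≠ 0 :=
      mul_ne_zero (mul_ne_zero (pow_ne_zero _ h2) (pow_ne_zero _ h3)) h5'
    exact sub_eq_zero.1 ((mul_eq_zero.1 this).resolve_left h6)
  subst hu
  have hu0 : u₁ = 0 := by
    have : ((2 : E) ^ 4 * 3 ^ 2 * 5) * u₁ = 0 := by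
      linear_combination O4 - O3 - (576 * u₁) * hφ
    have h6 : ((2 : E) ^ 4 * 3 ^ 2 * 5) ≠ 0 :=
      mul_ne_zero (mul_ne_zero (pow_ne_zero _ h2) (pow_ne_zero _ h3)) h5'
    exact (mul_eq_zero.1 this).resolve_left h6
  have hr5 : 5 * r = -3 := by
    have : ((2 : E) ^ 3 * 3 ^ 2) * (5 * r + 3) = 0 := by
      rw [hu0] at O1 O3
      linear_combination O1 + O3
    have h6 : ((2 : E) ^ 3 * 3 ^ 2) ≠ 0 := mul_ne_zero (pow_ne_zero _ h2) (pow_ne_zero _ h3)
    linear_combination (mul_eq_zero.1 this).resolve_left h6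
  have ht5 : 5 * t = -3 := by
    have : ((2 : E) ^ 2 * 3 ^ 2) * (5 * t + 3) = 0 := by
      rw [hu0] at O1 O3
      linear_combination O3 - O1
    have h6 : ((2 : E) ^ 2 * 3 ^ 2) ≠ 0 := mul_ne_zero (pow_ne_zero _ h2) (pow_ne_zero _ h3)
    linear_combination (mul_eq_zero.1 this).resolve_left h6
  have hfin : ((2 : E) ^ 8 * 3 ^ 2 * 5) = 0 := by
    rw [hu0] at O5
    linear_combination (-25) * O5 + 90 * (5 * t - 3) * ht5 + 180 * (5 * r - 3) * hr5
  have h6 : ((2 : E) ^ 8 * 3 ^ 2 * 5) ≠ 0 :=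
    mul_ne_zero (mul_ne_zero (pow_ne_zero _ h2) (pow_ne_zero _ h3)) h5'
  exact h6 hfin

end iso

end Cov

end Cfsg.Agent.H956.K1
end

-- part: H956/K1/Utd
section
/-!
# Uniqueness of the tensor decomposition (helper956)
-/

set_option autoImplicit false
set_option maxRecDepth 20000

namespace Cfsg.Agent.H956.K1

open Matrix Cfsg Cfsg.Geo Cfsg.Agent.H173.Pres Cfsg.Agent.H920.Nine Cfsg.Agent.H956.Sep

section scl

variable {E : Type*} [Field E] {n : Type*} [Fintype n] [DecidableEq n]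

/-- scalar matrices -/
def scl (n : Type*) [Fintype n] [DecidableEq n] : Eˣ →* GL n E where
  toFun c :=
    { val := (c : E) • 1
      inv := ((c⁻¹ : Eˣ) : E) • 1
      val_inv := by rw [Matrix.smul_mul, one_mul, smul_smul, Units.mul_inv, one_smul]
      inv_val := by rw [Matrix.smul_mul, one_mul, smul_smul, Units.inv_mul, one_smul] }
  map_one' := Units.ext (by
    show ((1 : Eˣ) : E) • (1 : Matrix n n E) = 1
    rw [Units.val_one, one_smul])
  map_mul' c d := Units.ext (by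
    show ((c * d : Eˣ) : E) • (1 : Matrix n n E) = ((c : E) • 1) * ((d : E) • 1)
    rw [Matrix.smul_mul, one_mul, smul_smul, Units.val_mul])

theorem val_scl (c : Eˣ) : ((scl n c : GL n E) : Matrix n n E) = (c : E) • 1 := rfl

theorem scl_comm (c : Eˣ) (g : GL n E) : g * scl n c = scl n c * g := by
  apply Units.ext
  rw [Units.val_mul, Units.val_mul, val_scl, Matrix.smul_mul, Matrix.mul_smul, one_mul, mul_one]

theorem val_scl_mul (c : Eˣ) (g : GL n E) : ((scl n c * g : GL n E) : Matrix n n E) = (c : E) • (g : Matrix n n E) := by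
  rw [Units.val_mul, val_scl, Matrix.smul_mul, one_mul]

theorem kr_scl (c : Eˣ) (X Y : GL (Fin 3) E) : kr (scl _ c * X) Y = scl _ c * kr X Y := by
  apply Units.ext
  rw [val_kr, val_scl_mul, val_scl_mul, kron9_smul_left, val_kr]

theorem kr_eq' {X Y X' Y' : GL (Fin 3) E} (h : kr X Y = kr X' Y') :
    ∃ c : Eˣ, X' = scl _ c * X ∧ Y = scl _ c * Y' := by
  obtain ⟨c, hc, h1, h2⟩ := kr_eq h
  refine ⟨Units.mk0 c hc, Units.ext ?_, Units.ext ?_⟩
  · rw [val_scl_mul, h1, Units.val_mk0]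
  · rw [val_scl_mul, h2, Units.val_mk0]

theorem conj_scl (c : Eˣ) (Y g : GL n E) : (scl n c * Y) * g * (scl n c * Y)⁻¹ = Y * g * Y⁻¹ := by
  rw [_root_.mul_inv_rev]
  calc scl n c * Y * g * (Y⁻¹ * (scl n c)⁻¹) = scl n c * (Y * g * Y⁻¹) * (scl n c)⁻¹ := by group
    _ = (Y * g * Y⁻¹) * scl n c * (scl n c)⁻¹ := by rw [scl_comm]
    _ = _ := by group

omit [Fintype n] [DecidableEq n] in
theorem exists_scl {P : Type*} [Group P] [Fintype P] {n : Type} [Fintype n] [DecidableEq n] [Nonempty n]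
    {V : P →* GL n E} (hV : Submodule.span E (Set.range (mo V)) = ⊤) {W : GL n E} (h : ∀ g, V g * W = W * V g) :
    ∃ c : Eˣ, W = scl n c := by
  obtain ⟨c, hc⟩ := scalar_of_comm hV (X := (W : Matrix n n E)) (by
    intro g
    rw [mo_apply, ← Units.val_mul, ← Units.val_mul, h])
  have h0 : c ≠ 0 := by
    rintro rfl
    rw [zero_smul] at hc
    exact val_ne_zero W hc
  exact ⟨Units.mk0 c h0, Units.ext (by rw [hc, val_scl, Units.val_mk0])⟩

end scl

namespace Cov

variable {P : Type*} [Group P] [Fintype P] {C : Cov P} {E : Type*} [Field E] {p : Par E} {A B : P →* GL (Fin 3) E}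
  {V : P →* GL (Fin 9) E}

/-- **The tensor decomposition is unique.** -/
theorem utd (ha : A C.a = p.gA) (hb : A C.b = p.gB) (ha' : B C.a = p.swap.gA) (hb' : B C.b = p.swap.gB)
    (hV : Submodule.span E (Set.range (mo V)) = ⊤) {X X' : GL (Fin 9) E} {A' B' : P →* GL (Fin 3) E}
    (h : ∀ g, V g = X * kr (A g) (B g) * X⁻¹) (h' : ∀ g, V g = X' * kr (A' g) (B' g) * X'⁻¹)
    (hA' : (A' C.z : Matrix (Fin 3) (Fin 3) E) = (p.ω * p.ω) • 1)
    (hB' : (B' C.z : Matrix (Fin 3) (Fin 3) E) = (p.ω * p.ω) • 1) :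
    (∃ Y₁ Y₂, X' = X * kr Y₁ Y₂ ∧ (∀ g, A g = Y₁ * A' g * Y₁⁻¹) ∧ ∀ g, B g = Y₂ * B' g * Y₂⁻¹) ∨
    (∃ Y₁ Y₂, X' = X * kr Y₁ Y₂ * sw ∧ (∀ g, A g = Y₁ * B' g * Y₁⁻¹) ∧ ∀ g, B g = Y₂ * A' g * Y₂⁻¹) := by
  obtain ⟨Y, hY⟩ := rep3' (C := C) p ha hb ha' hb' A' hA'
  obtain ⟨Z, hZ⟩ := rep3' (C := C) p ha hb ha' hb' B' hB'
  rcases hY with hY | hY <;> rcases hZ with hZ | hZ
  · -- both of type A
    exfalso
    refine not_sym (A := A) (V := V) hV (X := X' * kr Y Z) (fun g => ?_)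
    rw [h' g, hY g, hZ g, kr_mul, kr_mul, _root_.mul_inv_rev, kr_inv]
    simp only [mul_assoc]
  · -- (A, B)
    left
    obtain ⟨c, hc⟩ := exists_scl hV (W := X' * kr Y Z * X⁻¹) (by
      intro g
      have h1 : V g = X' * kr Y Z * kr (A g) (B g) * (X' * kr Y Z)⁻¹ := by
        rw [h' g, hY g, hZ g, kr_mul, kr_mul, _root_.mul_inv_rev, kr_inv]
        simp only [mul_assoc]
      nth_rewrite 1 [h1]
      rw [h g]
      group)
    refine ⟨scl _ c * Y⁻¹, Z⁻¹, ?_, ?_, ?_⟩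
    · rw [kr_scl, ← mul_assoc, scl_comm, ← hc, ← kr_inv]
      group
    · intro g
      rw [conj_scl, hY g]
      group
    · intro g
      rw [hZ g]
      group
  · -- (B, A)
    right
    obtain ⟨c, hc⟩ := exists_scl hV (W := X' * kr Y Z * sw * X⁻¹) (by
      intro g
      have h1 : V g = X' * kr Y Z * sw * kr (A g) (B g) * (X' * kr Y Z * sw)⁻¹ := by
        rw [h' g, hY g, hZ g, kr_mul, kr_mul, _root_.mul_inv_rev, _root_.mul_inv_rev, kr_inv, sw_inv,
          ← sw_kr_sw (A g) (B g)]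
        simp only [mul_assoc]
      nth_rewrite 1 [h1]
      rw [h g]
      group)
    refine ⟨scl _ c * Z⁻¹, Y⁻¹, ?_, ?_, ?_⟩
    · have h2 : kr Z⁻¹ Y⁻¹ * sw = sw * (kr Y Z)⁻¹ := by rw [kr_inv, sw_kr]
      rw [kr_scl, ← mul_assoc, scl_comm, mul_assoc, mul_assoc, h2, ← hc]
      calc X' = X' * kr Y Z * (sw * sw) * (kr Y Z)⁻¹ := by rw [sw_mul_sw]; group
        _ = _ := by group
    · intro g
      rw [conj_scl, hZ g]
      group
    · intro g
      rw [hY g]
      group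
  · -- both of type B
    exfalso
    refine not_sym (A := B) (V := V) hV (X := X' * kr Y Z) (fun g => ?_)
    rw [h' g, hY g, hZ g, kr_mul, kr_mul, _root_.mul_inv_rev, kr_inv]
    simp only [mul_assoc]

end Cov

end Cfsg.Agent.H956.K1
end

-- part: H956/K1/Kill
section
/-!
# `3.A₆` in dimension nine: the abstract contradiction (helper956)

`kill` : `G = {g ∈ SL₉(E) : g° = g}` for an involutory automorphism `°` of `GL₉(E)` compatible with the tensor
decomposition, `P = 3.A₆` spanning normal in a maximal subgroup `H` of `G` ⟹ contradiction.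
-/

set_option autoImplicit false
set_option maxRecDepth 20000

namespace Cfsg.Agent.H956.K1

open Matrix Cfsg Cfsg.Geo Cfsg.Agent.H173.Pres Cfsg.Agent.H920.Nine Cfsg.Agent.H956.Sep

/-- an involutory automorphism compatible with the tensor decomposition -/
structure Circ (E : Type*) [Field E] where
  /-- the action on scalars -/
  τ : Eˣ → Eˣ
  /-- dimension three -/
  c3 : GL (Fin 3) E →* GL (Fin 3) E
  /-- dimension nine -/
  c9 : GL (Fin 9) E →* GL (Fin 9) E
  inv9 : ∀ g, c9 (c9 g) = g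
  c9_kr : ∀ X Y, c9 (kr X Y) = kr (c3 X) (c3 Y)
  c9_sw : c9 sw = sw
  inv3 : ∀ g, c3 (c3 g) = g
  c3_scl : ∀ c, c3 (scl _ c) = scl _ (τ c)
  c9_scl : ∀ c, c9 (scl _ c) = scl _ (τ c)
  det3 : ∀ g : GL (Fin 3) E, (g : Matrix (Fin 3) (Fin 3) E).det = 1 → (c3 g : Matrix (Fin 3) (Fin 3) E).det = 1

section TW

variable {E : Type*} [Field E]

/-- the stabiliser of the tensor decomposition -/
def TW (E : Type*) [Field E] : Subgroup (GL (Fin 9) E) where
  carrier := {t | ∃ Y₁ Y₂, t = kr Y₁ Y₂ ∨ t = kr Y₁ Y₂ * sw}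
  one_mem' := ⟨1, 1, Or.inl kr_one.symm⟩
  mul_mem' := by
    rintro _ _ ⟨Y₁, Y₂, rfl | rfl⟩ ⟨Z₁, Z₂, rfl | rfl⟩
    · exact ⟨_, _, Or.inl (kr_mul _ _ _ _).symm⟩
    · exact ⟨Y₁ * Z₁, Y₂ * Z₂, Or.inr (by rw [kr_mul, mul_assoc])⟩
    · exact ⟨Y₁ * Z₂, Y₂ * Z₁, Or.inr (by rw [kr_mul, mul_assoc, mul_assoc, sw_kr])⟩
    · refine ⟨Y₁ * Z₂, Y₂ * Z₁, Or.inl ?_⟩
      rw [kr_mul, ← sw_kr_sw Z₁ Z₂]
      simp only [mul_assoc]
  inv_mem' := by
    rintro _ ⟨Y₁, Y₂, rfl | rfl⟩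
    · exact ⟨_, _, Or.inl (kr_inv _ _)⟩
    · refine ⟨Y₂⁻¹, Y₁⁻¹, Or.inr ?_⟩
      rw [_root_.mul_inv_rev, sw_inv, kr_inv, sw_kr]

theorem card_GL_le [Finite E] : Nat.card (GL (Fin 3) E) ≤ Nat.card E ^ 9 := by
  have h1 := Nat.card_le_card_of_injective (fun g : GL (Fin 3) E => (g : Matrix (Fin 3) (Fin 3) E)) (fun g h => Units.ext)
  have h2 : Nat.card (Matrix (Fin 3) (Fin 3) E) = Nat.card E ^ 9 := by
    show Nat.card (Fin 3 → Fin 3 → E) = _
    rw [Nat.card_fun, Nat.card_fun, Nat.card_eq_fintype_card (α := Fin 3), Fintype.card_fin, ← pow_mul]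
  rwa [h2] at h1

theorem card_TW_le [Finite E] : Nat.card (TW E) ≤ 2 * Nat.card E ^ 18 := by
  let f : (GL (Fin 3) E × GL (Fin 3) E) × Bool → TW E := fun y =>
    if y.2 then ⟨kr y.1.1 y.1.2, ⟨_, _, Or.inl rfl⟩⟩ else ⟨kr y.1.1 y.1.2 * sw, ⟨_, _, Or.inr rfl⟩⟩
  have hf : Function.Surjective f := by
    rintro ⟨_, Y₁, Y₂, rfl | rfl⟩
    · exact ⟨((Y₁, Y₂), true), rfl⟩
    · exact ⟨((Y₁, Y₂), false), rfl⟩
  have h1 := Nat.card_le_card_of_surjective f hf
  rw [Nat.card_prod, Nat.card_prod, Nat.card_eq_fintype_card (α := Bool), Fintype.card_bool] at h1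
  calc _ ≤ _ := h1
    _ ≤ Nat.card E ^ 9 * Nat.card E ^ 9 * 2 :=
        Nat.mul_le_mul_right _ (Nat.mul_le_mul card_GL_le card_GL_le)
    _ = 2 * Nat.card E ^ 18 := by ring

theorem four_le [Fintype E] (p : Par E) : 4 ≤ Fintype.card E := by
  classical
  have h1 : orderOf p.ω = 3 := by
    apply orderOf_eq_prime p.ω_cube p.ω_ne_one
  have h2 : orderOf (Units.mk0 p.ω p.ω_ne_zero) = 3 := by
    rw [← orderOf_units, Units.val_mk0, h1]
  have h3 : 3 ∣ Fintype.card Eˣ := by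
    rw [← h2]
    exact orderOf_dvd_card
  rw [Fintype.card_units] at h3
  have h4 := Fintype.one_lt_card (α := E)
  omega

theorem card_SL3 [Fintype E] (p : Par E) : 1080 < Nat.card (_root_.Matrix.SpecialLinearGroup (Fin 3) E) := by
  have h4 := four_le p
  have h1 := Cfsg.Agent.ClassicalGeometry.PSL2Basic.card_SL_mul (Fin 3) E
  rw [Matrix.card_GL_field, Fin.prod_univ_three] at h1
  obtain ⟨q, hq⟩ : ∃ q, q = Fintype.card E := ⟨_, rfl⟩
  rw [← hq] at h1 h4
  by_contra hlt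
  push Not at hlt
  obtain ⟨k, rfl⟩ : ∃ k, q = k + 4 := ⟨q - 4, by omega⟩
  have h5 : (k + 4) ^ 3 - (k + 4) ^ 0 ≥ 63 := by
    have : (k + 4) ^ 3 ≥ 4 ^ 3 := Nat.pow_le_pow_left (by omega) 3
    rw [pow_zero]
    omega
  have h6 : (k + 4) ^ 3 - (k + 4) ^ 1 ≥ 60 := by
    rw [pow_one]
    have : (k + 4) ^ 3 = (k + 4) * (k + 4) ^ 2 := by ring
    have h7 : (k + 4) ^ 2 ≥ 4 ^ 2 := Nat.pow_le_pow_left (by omega) 2
    have h8 : (k + 4) * (k + 4) ^ 2 ≥ (k + 4) * 16 := Nat.mul_le_mul_left _ h7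
    omega
  have h7 : (k + 4) ^ 3 - (k + 4) ^ 2 ≥ 16 * (k + 4 - 1) := by
    have e1 : (k + 4) ^ 3 = (k + 3) * (k + 4) ^ 2 + (k + 4) ^ 2 := by ring
    have h7 : (k + 4) ^ 2 ≥ 4 ^ 2 := Nat.pow_le_pow_left (by omega) 2
    have h8 : (k + 3) * (k + 4) ^ 2 ≥ (k + 3) * 16 := Nat.mul_le_mul_left _ h7
    omega
  have h8 : 1080 * (k + 4 - 1) ≥ 63 * 60 * (16 * (k + 4 - 1)) := by
    calc 1080 * (k + 4 - 1) ≥ Nat.card (_root_.Matrix.SpecialLinearGroup (Fin 3) E) * (k + 4 - 1) := Nat.mul_le_mul_right _ hlt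
      _ = _ := h1
      _ ≥ _ := Nat.mul_le_mul (Nat.mul_le_mul h5 h6) h7
  omega

end TW

namespace Cov

variable {P : Type*} [Group P] {C : Cov P} {E : Type*} [Field E] {p : Par E} {A : P →* GL (Fin 3) E}

theorem pi_ab : C.π C.a * C.π C.b ≠ C.π C.b * C.π C.a := by
  rw [C.πa, C.πb]
  decide

theorem pi_eq_of_scl (hi : Function.Injective A) {c : Eˣ} {k g : P} (h : A k = scl _ c * A g) : C.π k = C.π g := by
  have h1 : k * g⁻¹ ∈ Subgroup.center P := by
    rw [Subgroup.mem_center_iff]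
    intro y
    apply hi
    have e : A (k * g⁻¹) = scl _ c := by
      rw [map_mul, map_inv, h]
      group
    rw [map_mul A y, map_mul A (k * g⁻¹), e, scl_comm]
  have h2 : C.π (k * g⁻¹) ∈ Subgroup.center (alternatingGroup (Fin 6)) := by
    rw [Subgroup.mem_center_iff]
    intro y
    obtain ⟨y, rfl⟩ := C.surj y
    rw [← map_mul, ← map_mul, Subgroup.mem_center_iff.1 h1 y]
  rw [alternatingGroup.center_eq_bot (by rw [Nat.card_eq_fintype_card, Fintype.card_fin]; norm_num),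
    Subgroup.mem_bot, map_mul, map_inv, mul_inv_eq_one] at h2
  exact h2

end Cov


section kill

variable {E : Type*} [Field E] [Fintype E] (o : Circ E) (p : Par E) {H P : Subgroup (GL (Fin 9) E)}

omit [Fintype E] in
/-- case K -/
theorem kill_K (C : Cov P) {A B : P →* GL (Fin 3) E} (hAi : Function.Injective A) (hBi : Function.Injective B)
    {X : GL (Fin 9) E} (hX : ∀ g : P, (g : GL (Fin 9) E) = X * kr (A g) (B g) * X⁻¹) {Y₁ Y₂ : GL (Fin 3) E}
    (hXo : o.c9 X = X * kr Y₁ Y₂) (hA : ∀ g, A g = Y₁ * o.c3 (A g) * Y₁⁻¹)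
    (hHG : ∀ g : GL (Fin 9) E, (g : Matrix (Fin 9) (Fin 9) E).det = 1 → o.c9 g = g → X⁻¹ * g * X ∈ TW E → g ∈ H)
    (hn : ∀ h ∈ H, ∀ g ∈ P, h * g * h⁻¹ ∈ P) : False := by
  have hL : ∀ g : P, X * kr (A g) 1 * X⁻¹ ∈ H := by
    intro g
    apply hHG
    · rw [Units.val_mul, Units.val_mul, Matrix.det_mul_right_comm, ← Units.val_mul, mul_inv_cancel, Units.val_one,
        one_mul]
      exact det_kr (C.det_one A g) (by rw [Units.val_one, Matrix.det_one])
    · rw [map_mul, map_mul, map_inv, hXo, o.c9_kr, map_one]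
      nth_rewrite 2 [hA g]
      have : kr (Y₁ * o.c3 (A g) * Y₁⁻¹) 1 = kr Y₁ Y₂ * kr (o.c3 (A g)) 1 * (kr Y₁ Y₂)⁻¹ := by
        rw [kr_inv, ← kr_mul, ← kr_mul, mul_one, mul_inv_cancel]
      rw [this]
      group
    · refine ⟨A g, 1, Or.inl ?_⟩
      group
  have key : ∀ g h : P, C.π (g * h * g⁻¹) = C.π h := by
    intro g h
    have h1 := hn _ (hL g) h h.2
    obtain ⟨k, hk⟩ : ∃ k : P, (k : GL (Fin 9) E) = X * kr (A g) 1 * X⁻¹ * h * (X * kr (A g) 1 * X⁻¹)⁻¹ := ⟨⟨_, h1⟩, rfl⟩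
    have h2 : kr (A k) (B k) = kr (A (g * h * g⁻¹)) (B h) := by
      have h3 : X * kr (A k) (B k) * X⁻¹ = X * (kr (A g) 1 * kr (A h) (B h) * (kr (A g) 1)⁻¹) * X⁻¹ := by
        rw [← hX k, hk, hX h]
        group
      have h4 := mul_left_cancel (mul_right_cancel h3)
      rw [h4, kr_inv, ← kr_mul, ← kr_mul, map_mul, map_mul, map_inv, inv_one, one_mul, mul_one]
    obtain ⟨c, h5, h6⟩ := kr_eq' h2
    rw [C.pi_eq_of_scl hAi h5, C.pi_eq_of_scl hBi h6]
  have h1 := key C.a C.b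
  rw [map_mul, map_mul, map_inv, mul_inv_eq_iff_eq_mul] at h1
  exact C.pi_ab h1

/-- case KS -/
theorem kill_KS (C : Cov P) {A B : P →* GL (Fin 3) E} (ha : A C.a = p.gA) (hb : A C.b = p.gB)
    (hAi : Function.Injective A)
    {X : GL (Fin 9) E} (hX : ∀ g : P, (g : GL (Fin 9) E) = X * kr (A g) (B g) * X⁻¹) {Y₁ Y₂ : GL (Fin 3) E}
    (hXo : o.c9 X = X * kr Y₁ Y₂ * sw)
    (hHG : ∀ g : GL (Fin 9) E, (g : Matrix (Fin 9) (Fin 9) E).det = 1 → o.c9 g = g → X⁻¹ * g * X ∈ TW E → g ∈ H)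
    (hn : ∀ h ∈ H, ∀ g ∈ P, h * g * h⁻¹ ∈ P) : False := by
  -- `Y₁ Y₂°` is scalar
  obtain ⟨c, hc⟩ : ∃ c : Eˣ, Y₁ * o.c3 Y₂ = scl _ c := by
    have h1 : X = X * kr (Y₁ * o.c3 Y₂) (Y₂ * o.c3 Y₁) := by
      have h2 := o.inv9 X
      rw [hXo, map_mul, map_mul, o.c9_kr, o.c9_sw, hXo] at h2
      rw [kr_mul, ← sw_kr_sw (o.c3 Y₁) (o.c3 Y₂)]
      nth_rewrite 1 [← h2]
      simp only [mul_assoc]
    have h3 : kr (1 : GL (Fin 3) E) 1 = kr (Y₁ * o.c3 Y₂) (Y₂ * o.c3 Y₁) := by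
      rw [kr_one]
      nth_rewrite 1 [← mul_one X] at h1
      exact mul_left_cancel h1
    obtain ⟨c, h4, -⟩ := kr_eq' h3
    exact ⟨c, by rw [h4, mul_one]⟩
  have hm : ∀ a : GL (Fin 3) E, (a : Matrix (Fin 3) (Fin 3) E).det = 1 → X * kr a (Y₂ * o.c3 a * Y₂⁻¹) * X⁻¹ ∈ H := by
    intro a hda
    apply hHG
    · rw [Units.val_mul, Units.val_mul, Matrix.det_mul_right_comm, ← Units.val_mul, mul_inv_cancel, Units.val_one,
        one_mul]
      apply det_kr hda
      rw [Units.val_mul, Units.val_mul, Matrix.det_mul_right_comm, ← Units.val_mul, mul_inv_cancel, Units.val_one,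
        one_mul]
      exact o.det3 a hda
    · rw [map_mul, map_mul, map_inv, hXo, o.c9_kr, map_mul, map_mul, map_inv, o.inv3]
      have e1 : X * kr Y₁ Y₂ * sw * kr (o.c3 a) (o.c3 Y₂ * a * (o.c3 Y₂)⁻¹) * (X * kr Y₁ Y₂ * sw)⁻¹ =
          X * (kr Y₁ Y₂ * (sw * kr (o.c3 a) (o.c3 Y₂ * a * (o.c3 Y₂)⁻¹) * sw) * (kr Y₁ Y₂)⁻¹) * X⁻¹ := by
        rw [_root_.mul_inv_rev, _root_.mul_inv_rev, sw_inv]
        simp only [mul_assoc]
      rw [e1, sw_kr_sw, kr_inv, ← kr_mul, ← kr_mul]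
      have e2 : Y₁ * (o.c3 Y₂ * a * (o.c3 Y₂)⁻¹) * Y₁⁻¹ = (Y₁ * o.c3 Y₂) * a * (Y₁ * o.c3 Y₂)⁻¹ := by group
      have e3 : (scl (Fin 3) c) * a * (scl (Fin 3) c)⁻¹ = a := by
        rw [← scl_comm]
        group
      rw [e2, hc, e3]
    · refine ⟨a, Y₂ * o.c3 a * Y₂⁻¹, Or.inl ?_⟩
      group
  -- scalars of order dividing three
  have hsc : ∀ c : Eˣ, (c : E) ^ 3 = 1 → ∃ k : P, A k = scl _ c := by
    intro c hc3
    have hz : (A C.z : Matrix (Fin 3) (Fin 3) E) = (p.ω * p.ω) • 1 := Cov.rep_z ha hb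
    have h1 : ((c : E) - 1) * (((c : E) - p.ω) * ((c : E) - p.ω * p.ω)) = 0 := by
      linear_combination hc3 + p.ω_cube * ((c : E) - 1) + ((c : E) - (c : E) ^ 2) * p.hω
    rcases mul_eq_zero.1 h1 with h2 | h2
    · refine ⟨1, ?_⟩
      have : c = 1 := Units.ext (sub_eq_zero.1 h2)
      rw [this, map_one, map_one]
    rcases mul_eq_zero.1 h2 with h2 | h2
    · refine ⟨C.z ^ 2, Units.ext ?_⟩
      rw [map_pow, pow_two, Units.val_mul, hz, Matrix.smul_mul, one_mul, smul_smul, val_scl, sub_eq_zero.1 h2]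
      congr 1
      linear_combination p.ω * p.ω_cube
    · refine ⟨C.z, Units.ext ?_⟩
      rw [hz, val_scl, sub_eq_zero.1 h2]
  -- the image is normal in `SL₃(E)`
  have hnorm : ∀ a : GL (Fin 3) E, (a : Matrix (Fin 3) (Fin 3) E).det = 1 → ∀ g : P, a * A g * a⁻¹ ∈ A.range := by
    intro a hda g
    have h1 := hn _ (hm a hda) g g.2
    obtain ⟨k, hk⟩ : ∃ k : P, (k : GL (Fin 9) E) = X * kr a (Y₂ * o.c3 a * Y₂⁻¹) * X⁻¹ * g *
      (X * kr a (Y₂ * o.c3 a * Y₂⁻¹) * X⁻¹)⁻¹ := ⟨⟨_, h1⟩, rfl⟩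
    obtain ⟨b, hb⟩ : ∃ b, b = Y₂ * o.c3 a * Y₂⁻¹ := ⟨_, rfl⟩
    rw [← hb] at hk
    have h2 : kr (A k) (B k) = kr (a * A g * a⁻¹) (b * B g * b⁻¹) := by
      have h3 : X * kr (A k) (B k) * X⁻¹ = X * (kr a b * kr (A g) (B g) * (kr a b)⁻¹) * X⁻¹ := by
        rw [← hX k, hk, hX g]
        group
      have h4 := mul_left_cancel (mul_right_cancel h3)
      rw [h4, kr_inv, ← kr_mul, ← kr_mul]
    obtain ⟨e, h5, -⟩ := kr_eq' h2
    have hdet : (e : E) ^ 3 = 1 := by
      have h6 := congrArg (fun M : GL (Fin 3) E => (M : Matrix (Fin 3) (Fin 3) E).det) h5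
      simp only [val_scl_mul, Matrix.det_smul, Fintype.card_fin] at h6
      rw [C.det_one A k, mul_one, Units.val_mul, Units.val_mul, Matrix.det_mul_right_comm, ← Units.val_mul,
        mul_inv_cancel, Units.val_one, one_mul, C.det_one A g] at h6
      exact h6.symm
    obtain ⟨l, hl⟩ := hsc e hdet
    exact ⟨l * k, by rw [map_mul, hl, h5]⟩
  let N : Subgroup (_root_.Matrix.SpecialLinearGroup (Fin 3) E) := A.range.comap SpecialLinearGroup.toGL
  have hN : N.Normal := by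
    constructor
    intro s hs t
    obtain ⟨g, hg⟩ : SpecialLinearGroup.toGL s ∈ A.range := hs
    show SpecialLinearGroup.toGL (t * s * t⁻¹) ∈ A.range
    rw [map_mul, map_mul, map_inv, ← hg]
    exact hnorm _ (by exact t.2) g
  have hNtop : N ≠ ⊤ := by
    intro h
    have h1 : Nat.card N ≤ Nat.card A.range := by
      apply Nat.card_le_card_of_injective (fun s : N => (⟨SpecialLinearGroup.toGL s.1, s.2⟩ : A.range))
      intro s t hst
      apply Subtype.ext
      apply SpecialLinearGroup.toGL_injective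
      exact congrArg Subtype.val hst
    have h2 : Nat.card A.range = 1080 := by
      rw [← Nat.card_congr (MonoidHom.ofInjective hAi).toEquiv]
      have h4 := Subgroup.card_mul_index C.π.ker
      have h5 := Subgroup.index_ker C.π
      rw [MonoidHom.range_eq_top.2 C.surj, Subgroup.card_top, card_a6] at h5
      rw [C.card, h5] at h4
      omega
    rw [h, Subgroup.card_top, h2] at h1
    have := card_SL3 p
    omega
  have hle := Cfsg.Agent.Classification.PSLThreeRecog.le_center_of_normal N hNtop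
  have mk : ∀ g : P, ∃ s : _root_.Matrix.SpecialLinearGroup (Fin 3) E, SpecialLinearGroup.toGL s = A g := fun g =>
    ⟨⟨(A g : Matrix (Fin 3) (Fin 3) E), C.det_one A g⟩, Units.ext rfl⟩
  obtain ⟨s, hs⟩ := mk C.a
  obtain ⟨t, ht⟩ := mk C.b
  have hs' : s ∈ Subgroup.center _ := hle (show SpecialLinearGroup.toGL s ∈ A.range from ⟨C.a, hs.symm⟩)
  have h1 := Subgroup.mem_center_iff.1 hs' t
  have h2 := congrArg SpecialLinearGroup.toGL h1
  rw [map_mul, map_mul, hs, ht, ← map_mul, ← map_mul] at h2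
  have h3 := hAi h2
  apply C.pi_ab
  rw [← map_mul, ← map_mul, h3]

/-- **The abstract contradiction.** -/
theorem kill (C : Cov P) (hz : ((C.z : GL (Fin 9) E) : Matrix (Fin 9) (Fin 9) E) = p.ω • 1)
    (hspan : Submodule.span E (Set.range (mo P.subtype)) = ⊤)
    (h5 : (5 : E) = 0 → ((C.a : GL (Fin 9) E) : Matrix (Fin 9) (Fin 9) E).trace = -3 ∧
      ((C.b : GL (Fin 9) E) : Matrix (Fin 9) (Fin 9) E).trace = 3)
    {G : Subgroup (GL (Fin 9) E)}
    (hG : ∀ g : GL (Fin 9) E, g ∈ G ↔ (g : Matrix (Fin 9) (Fin 9) E).det = 1 ∧ o.c9 g = g)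
    (hcard : 2 * Nat.card E ^ 18 < Nat.card G)
    (hHG : H ≤ G) (hmax : ∀ M, H ≤ M → M ≤ G → M = H ∨ M = G) (hPH : P ≤ H)
    (hn : ∀ h ∈ H, ∀ g ∈ P, h * g * h⁻¹ ∈ P) : False := by
  classical
  have : Fintype P := Fintype.ofFinite _
  obtain ⟨A, ha, hb, hAi⟩ := C.exists_rep p
  obtain ⟨B, ha', hb', hBi⟩ := C.exists_rep p.swap
  obtain ⟨X, hX⟩ := C.iso ha hb ha' hb' (V := P.subtype) hspan hz h5
  have hX' : ∀ g : P, (g : GL (Fin 9) E) = X * kr (A g) (B g) * X⁻¹ := hX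
  have hAz : (A C.z : Matrix (Fin 3) (Fin 3) E) = (p.ω * p.ω) • 1 := Cov.rep_z ha hb
  have hBz : (B C.z : Matrix (Fin 3) (Fin 3) E) = (p.ω * p.ω) • 1 := Cov.rep_z (p := p.swap) ha' hb'
  let M : Subgroup (GL (Fin 9) E) := G ⊓ (TW E).comap (MulAut.conj X⁻¹).toMonoidHom
  have hMmem : ∀ g, g ∈ M ↔ g ∈ G ∧ X⁻¹ * g * X ∈ TW E := by
    intro g
    rw [Subgroup.mem_inf, Subgroup.mem_comap]
    show g ∈ G ∧ X⁻¹ * g * X⁻¹⁻¹ ∈ TW E ↔ _
    rw [inv_inv]
  have hHM : H ≤ M := by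
    intro h hh
    rw [hMmem]
    refine ⟨hHG hh, ?_⟩
    let α : P →* P :=
      { toFun := fun g => ⟨h * g * h⁻¹, hn h hh g g.2⟩
        map_one' := Subtype.ext (by simp)
        map_mul' := fun g g' => Subtype.ext (by
          show h * (g * g' : GL (Fin 9) E) * h⁻¹ = h * g * h⁻¹ * (h * g' * h⁻¹)
          group) }
    have hαz : α C.z = C.z := by
      apply Subtype.ext
      show h * (C.z : GL (Fin 9) E) * h⁻¹ = C.z
      have h1 : (C.z : GL (Fin 9) E) = scl _ (Units.mk0 p.ω p.ω_ne_zero) := Units.ext hz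
      rw [h1, scl_comm]
      group
    have h1 : ∀ g : P, P.subtype g = (h⁻¹ * X) * kr (A.comp α g) (B.comp α g) * (h⁻¹ * X)⁻¹ := by
      intro g
      have h2 := hX' (α g)
      have h3 : ((α g : P) : GL (Fin 9) E) = h * g * h⁻¹ := rfl
      rw [h3] at h2
      calc (g : GL (Fin 9) E) = h⁻¹ * (h * g * h⁻¹) * h := by group
        _ = h⁻¹ * (X * kr (A (α g)) (B (α g)) * X⁻¹) * h := by rw [h2]
        _ = _ := by
          rw [_root_.mul_inv_rev, inv_inv]
          simp only [mul_assoc]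
          rfl
    have h4 : X⁻¹ * h⁻¹ * X ∈ TW E := by
      rcases C.utd ha hb ha' hb' hspan hX h1 (by rw [MonoidHom.comp_apply, hαz, hAz])
        (by rw [MonoidHom.comp_apply, hαz, hBz]) with ⟨Y₁, Y₂, h5, -, -⟩ | ⟨Y₁, Y₂, h5, -, -⟩
      · refine ⟨Y₁, Y₂, Or.inl ?_⟩
        rw [mul_assoc, h5]
        group
      · refine ⟨Y₁, Y₂, Or.inr ?_⟩
        rw [mul_assoc, h5]
        group
    have h6 := inv_mem h4
    have h7 : (X⁻¹ * h⁻¹ * X)⁻¹ = X⁻¹ * h * X := by group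
    rwa [h7] at h6
  have hMG : M ≠ G := by
    intro h
    have h1 : Nat.card G ≤ Nat.card (TW E) := by
      apply Nat.card_le_card_of_injective (fun g : G => (⟨X⁻¹ * g * X, ((hMmem g).1 (h.symm ▸ g.2)).2⟩ : TW E))
      intro g g' hgg
      apply Subtype.ext
      have h2 : X⁻¹ * (g : GL (Fin 9) E) * X = X⁻¹ * g' * X := congrArg Subtype.val hgg
      exact mul_left_cancel (mul_right_cancel h2)
    have h2 := card_TW_le (E := E)
    omega
  have hMH : M = H := (hmax M hHM inf_le_left).resolve_right hMG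
  have hHG' : ∀ g : GL (Fin 9) E, (g : Matrix (Fin 9) (Fin 9) E).det = 1 → o.c9 g = g → X⁻¹ * g * X ∈ TW E → g ∈ H := by
    intro g h1 h2 h3
    rw [← hMH, hMmem]
    exact ⟨(hG g).2 ⟨h1, h2⟩, h3⟩
  -- the twisted decomposition
  have hfix : ∀ g : P, o.c9 g = g := fun g => ((hG g).1 (hHG (hPH g.2))).2
  have hτ : o.c3 (scl _ (Units.mk0 p.ω p.ω_ne_zero)) = scl _ (Units.mk0 p.ω p.ω_ne_zero) := by
    have h1 : (C.z : GL (Fin 9) E) = scl _ (Units.mk0 p.ω p.ω_ne_zero) := Units.ext hz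
    have h2 := hfix C.z
    rw [h1, o.c9_scl] at h2
    have h3 := congrArg (fun M : GL (Fin 9) E => (M : Matrix (Fin 9) (Fin 9) E) 0 0) h2
    simp only [val_scl, Matrix.smul_apply, Matrix.one_apply_eq, smul_eq_mul, mul_one] at h3
    rw [o.c3_scl, Units.ext h3]
  have hz3 : ∀ R : P →* GL (Fin 3) E, (R C.z : Matrix (Fin 3) (Fin 3) E) = (p.ω * p.ω) • 1 →
      ((o.c3.comp R C.z : GL (Fin 3) E) : Matrix (Fin 3) (Fin 3) E) = (p.ω * p.ω) • 1 := by
    intro R hR
    have h1 : R C.z = scl _ (Units.mk0 p.ω p.ω_ne_zero) * scl _ (Units.mk0 p.ω p.ω_ne_zero) := by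
      apply Units.ext
      rw [hR, val_scl_mul, val_scl, smul_smul, Units.val_mk0]
    rw [MonoidHom.comp_apply, h1, map_mul, hτ, ← h1, hR]
  have h1 : ∀ g : P, P.subtype g = o.c9 X * kr (o.c3.comp A g) (o.c3.comp B g) * (o.c9 X)⁻¹ := by
    intro g
    show (g : GL (Fin 9) E) = _
    rw [← hfix g]
    nth_rewrite 1 [hX' g]
    rw [map_mul, map_mul, map_inv, o.c9_kr]
    rfl
  rcases C.utd ha hb ha' hb' hspan hX h1 (hz3 A hAz) (hz3 B hBz) with ⟨Y₁, Y₂, h5, h6, h7⟩ | ⟨Y₁, Y₂, h5, h6, h7⟩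
  · exact kill_K o C hAi hBi hX' h5 h6 hHG' hn
  · exact kill_KS o p C ha hb hAi hX' h5 hHG' hn

end kill

end Cfsg.Agent.H956.K1
end
end

-- part: H956/K1/Circs
section
set_option linter.all false
open scoped Cfsg.Agent.FastGrp

-- part: H956/K1/Trans
section
/-!
# `3.A₆` in dimension nine: from the residual core to the abstract contradiction (helper956)
-/

set_option autoImplicit false
set_option maxRecDepth 20000

namespace Cfsg.Agent.H956.K1

open Matrix Cfsg Cfsg.Geo Cfsg.Agent.H173.Pres Cfsg.Agent.H920.Nine Cfsg.Agent.H956.Sep Cfsg.Agent.H915.LD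

universe u v

/-- transport of a cover along an isomorphism -/
def Cov.transport {P : Type*} [Group P] {Q : Type*} [Group Q] (C : Cov P) (ε : P ≃* Q) : Cov Q where
  π := C.π.comp ε.symm.toMonoidHom
  surj := C.surj.comp ε.symm.surjective
  cent := by
    intro k hk
    have h1 : ε.symm k ∈ C.π.ker := hk
    rw [Subgroup.mem_center_iff]
    intro g
    apply ε.symm.injective
    rw [map_mul, map_mul]
    exact C.ker_comm h1 _
  card := by
    rw [← C.card]
    exact Nat.card_congr (Equiv.subtypeEquiv ε.symm.toEquiv (fun k => Iff.rfl))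
  perf := by
    have h1 := congrArg (Subgroup.map ε.toMonoidHom) C.perf
    rw [commutator_def, Subgroup.map_commutator] at h1
    have h2 : Subgroup.map ε.toMonoidHom ⊤ = ⊤ := by
      rw [← MonoidHom.range_eq_map, MonoidHom.range_eq_top]
      exact ε.surjective
    rwa [h2] at h1
  a := ε C.a
  b := ε C.b
  πa := by
    rw [MonoidHom.comp_apply]
    show C.π (ε.symm (ε C.a)) = _
    rw [ε.symm_apply_apply, C.πa]
  πb := by
    rw [MonoidHom.comp_apply]
    show C.π (ε.symm (ε C.b)) = _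
    rw [ε.symm_apply_apply, C.πb]
  a2 := by rw [← map_pow, C.a2, map_one]
  b4 := by rw [← map_pow, C.b4, map_one]

theorem Cov.transport_z {P : Type*} [Group P] {Q : Type*} [Group Q] (C : Cov P) (ε : P ≃* Q) :
    (C.transport ε).z = ε C.z := by
  show (ε C.a * ε C.b) ^ 5 = ε ((C.a * C.b) ^ 5)
  rw [map_pow, map_mul]

section

variable {F : Type u} [Field F] {E : Type v} [Field E] (f : F →+* E)

theorem val_gmap (g : GL (Fin 9) F) : (Matrix.GeneralLinearGroup.map f g : Matrix (Fin 9) (Fin 9) E) =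
    (g : Matrix (Fin 9) (Fin 9) F).map f := rfl

theorem gmap_injective : Function.Injective (Matrix.GeneralLinearGroup.map (n := Fin 9) f) := by
  intro g h hgh
  apply Units.ext
  ext i j
  have h1 := congrArg (fun M : GL (Fin 9) E => (M : Matrix (Fin 9) (Fin 9) E) i j) hgh
  exact f.injective h1

/-- absolutely irreducible groups span after base change -/
theorem span_map {P : Subgroup (GL (Fin 9) F)} (hP : ActsAbsolutelyIrreducibly (matrixSet P)) :
    Submodule.span E (Set.range (mo (P.map (Matrix.GeneralLinearGroup.map f)).subtype)) = ⊤ := by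
  have h1 := Cfsg.Agent.H920.span_eq_top hP
  set W := Submodule.span E (Set.range (mo (P.map (Matrix.GeneralLinearGroup.map f)).subtype)) with hW
  have key : ∀ X : Matrix (Fin 9) (Fin 9) F, X.map f ∈ W := by
    intro X
    have hX : X ∈ Submodule.span F (matrixSet P) := by rw [h1]; trivial
    induction hX using Submodule.span_induction with
    | mem x hx =>
      obtain ⟨g, hg, rfl⟩ := hx
      apply Submodule.subset_span
      exact ⟨⟨Matrix.GeneralLinearGroup.map f g, g, hg, rfl⟩, rfl⟩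
    | zero =>
      have : (0 : Matrix (Fin 9) (Fin 9) F).map f = 0 := by ext i j; simp
      rw [this]
      exact W.zero_mem
    | add a b _ _ ha hb =>
      have : (a + b).map f = a.map f + b.map f := by ext i j; simp
      rw [this]
      exact W.add_mem ha hb
    | smul c a _ ha =>
      have : (c • a).map f = f c • a.map f := by ext i j; simp
      rw [this]
      exact W.smul_mem _ ha
  rw [eq_top_iff]
  intro M _
  rw [Matrix.matrix_eq_sum_single M]
  apply Submodule.sum_mem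
  intro i _
  apply Submodule.sum_mem
  intro j _
  have h2 : Matrix.single i j (M i j) = M i j • (Matrix.single i j (1 : F)).map f := by
    ext a b
    simp only [Matrix.smul_apply, Matrix.map_apply, Matrix.single_apply, smul_eq_mul]
    split_ifs
    · rw [map_one, mul_one]
    · rw [map_zero, mul_zero]
  rw [h2]
  exact W.smul_mem _ (key _)

end

/-- the order of the centre -/
theorem card_scalars {F : Type u} [Field F] [Finite F] {P : Subgroup (GL (Fin 9) F)} (hC : Core P)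
    (e : Soc P ≃* alternatingGroup (Fin 6)) (hsd : ¬ SD P) : Nat.card ((scalars (Fin 9) F).subgroupOf P) = 3 := by
  have h3 : 3 ∣ Nat.card ((scalars (Fin 9) F).subgroupOf P) := by
    by_contra h
    exact hsd (H937.T2.a6_sd hC e h)
  have h6 : Nat.card ((scalars (Fin 9) F).subgroupOf P) ∣ 6 := by
    have h1 := hC.card_scalars_dvd e (Cfsg.Agent.S2116.result 6 (Or.inl rfl))
    rwa [Nat.card_eq_fintype_card (α := Multiplicative (ZMod 6)), Fintype.card_multiplicative, ZMod.card] at h1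
  have h2 : ¬ 2 ∣ Nat.card ((scalars (Fin 9) F).subgroupOf P) := by
    intro h
    have : Fact (Nat.Prime 2) := ⟨Nat.prime_two⟩
    obtain ⟨x, hx⟩ := exists_prime_orderOf_dvd_card' 2 h
    have h4 := hC.pow_card x.2
    rw [Fintype.card_fin] at h4
    have h5 : x ^ 9 = 1 := Subtype.ext h4
    have h7 := orderOf_dvd_of_pow_eq_one h5
    rw [hx] at h7
    omega
  have h7 := Nat.le_of_dvd (by norm_num) h6
  interval_cases Nat.card ((scalars (Fin 9) F).subgroupOf P) <;> omega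

end Cfsg.Agent.H956.K1
end

-- part: H956/K1/Core
section
/-!
# `3.A₆` in dimension nine: residual cores (helper956)

`core_false` : the common part of the linear and the unitary case.
-/

set_option autoImplicit false
set_option maxRecDepth 20000

namespace Cfsg.Agent.H956.K1

open Matrix Cfsg Cfsg.Geo Cfsg.Agent.H173.Pres Cfsg.Agent.H920.Nine Cfsg.Agent.H956.Sep Cfsg.Agent.H915.LD

universe u v

theorem Cov.orderOf_a {P : Type*} [Group P] (C : Cov P) : orderOf C.a = 2 := by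
  apply orderOf_eq_prime C.a2
  intro h
  have := C.πa
  rw [h, map_one] at this
  revert this
  decide

theorem Cov.orderOf_b {P : Type*} [Group P] (C : Cov P) : orderOf C.b = 4 := by
  have : Fact (Nat.Prime 2) := ⟨Nat.prime_two⟩
  apply orderOf_eq_prime_pow (p := 2) (n := 1)
  · intro h
    rw [pow_one] at h
    have h1 := congrArg C.π h
    rw [map_pow, C.πb, map_one] at h1
    revert h1
    decide
  · exact C.b4

/-- a cover from a core with centre of order three -/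
theorem exists_cov_of_core {F : Type u} [Field F] {P : Subgroup (GL (Fin 9) F)} (hC : Core P)
    (e : Soc P ≃* alternatingGroup (Fin 6)) (hk : Nat.card ((scalars (Fin 9) F).subgroupOf P) = 3) :
    ∃ C : Cov P, C.π = e.toMonoidHom.comp (toSoc P) := by
  have h1 := ker_comp e
  apply exists_cov
  · exact e.surjective.comp (toSoc_surjective P)
  · rw [h1]
    exact scalars_le_center
  · rw [h1]
    exact hk
  · exact hC.commutator_top

/-- **The common part.** -/
theorem core_false {F : Type u} [Field F] {E : Type v} [Field E] [Fintype E] (f : F →+* E) (o : Circ E)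
    (hφ : ∀ ω : E, ω * ω = -ω - 1 → ∃ φ : E, φ * φ = φ + 1) (h3 : (3 : E) ≠ 0)
    {H P K : Subgroup (GL (Fin 9) F)} (hH : IsMaximalIn K H) (hR : IsResidualCore H P)
    (e : Soc P ≃* alternatingGroup (Fin 6)) (hk : Nat.card ((scalars (Fin 9) F).subgroupOf P) = 3)
    (h5 : (5 : F) = 0 → (∀ x ∈ P, orderOf x = 2 → tr x = -3) ∧ (∀ x ∈ P, orderOf x = 4 → tr x = 3))
    (hG : ∀ g : GL (Fin 9) E, g ∈ K.map (Matrix.GeneralLinearGroup.map f) ↔
      (g : Matrix (Fin 9) (Fin 9) E).det = 1 ∧ o.c9 g = g)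
    (hcard : 2 * Nat.card E ^ 18 < Nat.card K) : False := by
  have hC := core_of_residual hR
  obtain ⟨C, hCπ⟩ := exists_cov_of_core hC e hk
  have hinj := gmap_injective f
  let ε : P ≃* P.map (Matrix.GeneralLinearGroup.map f) := P.equivMapOfInjective _ hinj
  have hε : ∀ g : P, ((ε g : P.map (Matrix.GeneralLinearGroup.map f)) : GL (Fin 9) E) =
      Matrix.GeneralLinearGroup.map f (g : GL (Fin 9) F) := fun g => rfl
  have : Finite (P.map (Matrix.GeneralLinearGroup.map (n := Fin 9) f)) := inferInstance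
  have : Finite P := Finite.of_equiv _ ε.symm.toEquiv
  -- the scalar
  have hz : C.z ∈ (scalars (Fin 9) F).subgroupOf P := by
    have h1 := C.z_mem
    rw [hCπ, ker_comp e] at h1
    exact h1
  rw [Subgroup.mem_subgroupOf, mem_scalars_iff] at hz
  obtain ⟨c, hc⟩ := hz
  have hc3 : (c : F) ^ 3 = 1 := by
    have h1 := congrArg (fun g : P => ((g : GL (Fin 9) F) : Matrix (Fin 9) (Fin 9) F) 0 0) C.z_cube
    simp only [Subgroup.coe_pow, Units.val_pow_eq_pow_val, hc, smul_pow, one_pow, Matrix.smul_apply,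
      Matrix.one_apply_eq, smul_eq_mul, mul_one, Subgroup.coe_one, Units.val_one] at h1
    exact h1
  have hc1 : (c : F) ≠ 1 := by
    intro h
    apply C.z_ne_one
    apply Subtype.ext
    apply Units.ext
    rw [hc, h, one_smul]
    rfl
  have hω : (f c) * (f c) = -(f c) - 1 := by
    rw [← map_mul, ← map_one f, ← map_neg, ← map_sub]
    congr 1
    have h1 : ((c : F) - 1) * ((c : F) * c + c + 1) = 0 := by linear_combination hc3
    have h2 := (mul_eq_zero.1 h1).resolve_left (sub_ne_zero.2 hc1)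
    linear_combination h2
  obtain ⟨φ, hφ⟩ := hφ _ hω
  let p : Par E := ⟨φ, f c, hφ, hω, h3⟩
  have h5' : (5 : E) = 0 → (5 : F) = 0 := by
    intro h
    apply f.injective
    rw [map_zero, ← h]
    exact map_ofNat f 5
  refine kill o p (P := P.map (Matrix.GeneralLinearGroup.map f)) (H := H.map (Matrix.GeneralLinearGroup.map f))
    (C.transport ε) ?_ (span_map f hC.absIrred) ?_ (G := K.map (Matrix.GeneralLinearGroup.map f)) hG ?_ ?_ ?_ ?_ ?_
  · rw [C.transport_z, hε, val_gmap, hc]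
    ext i j
    rw [Matrix.map_apply, Matrix.smul_apply, Matrix.smul_apply, smul_eq_mul, smul_eq_mul, map_mul,
      Matrix.one_apply, Matrix.one_apply]
    split_ifs
    · rw [map_one]
    · rw [map_zero]
  · intro h
    obtain ⟨ha, hb⟩ := h5 (h5' h)
    have e1 : ∀ g : GL (Fin 9) F, ((Matrix.GeneralLinearGroup.map f g : GL (Fin 9) E) : Matrix (Fin 9) (Fin 9) E).trace =
        f (tr g) := by
      intro g
      rw [val_gmap]
      exact (AddMonoidHom.map_trace f.toAddMonoidHom _).symm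
    constructor
    · show ((Matrix.GeneralLinearGroup.map f (C.a : GL (Fin 9) F) : GL (Fin 9) E) : Matrix (Fin 9) (Fin 9) E).trace = _
      rw [e1, ha _ C.a.2 (by rw [Subgroup.orderOf_coe, C.orderOf_a]), map_neg]
      congr 1
      exact map_ofNat f 3
    · show ((Matrix.GeneralLinearGroup.map f (C.b : GL (Fin 9) F) : GL (Fin 9) E) : Matrix (Fin 9) (Fin 9) E).trace = _
      rw [e1, hb _ C.b.2 (by rw [Subgroup.orderOf_coe, C.orderOf_b])]
      exact map_ofNat f 3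
  · rwa [← Nat.card_congr (K.equivMapOfInjective _ hinj).toEquiv]
  · exact Subgroup.map_mono hH.1.le
  · intro M h1 h2
    have h4 : H ≤ M.comap (Matrix.GeneralLinearGroup.map f) := by
      rwa [← Subgroup.map_le_iff_le_comap]
    have h6 : M.comap (Matrix.GeneralLinearGroup.map f) ≤ K := by
      intro g hg
      obtain ⟨k, hk, hgk⟩ := h2 hg
      rwa [← hinj hgk]
    have h7 : M = (M.comap (Matrix.GeneralLinearGroup.map f)).map (Matrix.GeneralLinearGroup.map f) := by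
      rw [Subgroup.map_comap_eq_self]
      intro g hg
      obtain ⟨k, -, hgk⟩ := h2 hg
      exact ⟨k, hgk⟩
    rcases hH.2 _ h4 h6 with h | h
    · left
      rw [h7, h]
    · right
      rw [h7, h]
  · exact Subgroup.map_mono hR.le
  · rintro _ ⟨h, hh, rfl⟩ _ ⟨g, hg, rfl⟩
    exact ⟨h * g * h⁻¹, hR.normal h hh g hg, by rw [map_mul, map_mul, map_inv]⟩

end Cfsg.Agent.H956.K1
end

-- part: H956/K1/Circs
section
/-!
# `3.A₆` in dimension nine: the two involutory automorphisms (helper956)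
-/

set_option autoImplicit false

namespace Cfsg.Agent.H956.K1

open Matrix Cfsg Cfsg.Geo Cfsg.Agent.H920.Nine

universe u v

section circ

variable {E : Type v} [Field E] (σ : E →+* E) (hσ : ∀ x, σ (σ x) = x)

theorem val_map {n : Type*} [Fintype n] [DecidableEq n] (g : GL n E) :
    (Matrix.GeneralLinearGroup.map σ g : Matrix n n E) = (g : Matrix n n E).map σ := rfl

theorem map_scl {n : Type*} [Fintype n] [DecidableEq n] (c : Eˣ) :
    Matrix.GeneralLinearGroup.map σ (scl n c) = scl n (Units.map σ.toMonoidHom c) := by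
  apply Units.ext
  rw [val_map, val_scl, val_scl]
  ext i j
  rw [Matrix.map_apply, Matrix.smul_apply, Matrix.smul_apply, smul_eq_mul, smul_eq_mul, map_mul, Matrix.one_apply]
  split_ifs
  · rw [map_one]
    rfl
  · rw [map_zero]
    simp

include hσ in
theorem map_map_self {n : Type*} [Fintype n] [DecidableEq n] (M : Matrix n n E) : (M.map σ).map σ = M := by
  ext i j
  exact hσ _

theorem det_map_eq {n : Type*} [Fintype n] [DecidableEq n] (M : Matrix n n E) : (M.map σ).det = σ M.det :=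
  (RingHom.map_det σ M).symm

/-- the field automorphism -/
def circLin : Circ E where
  τ := Units.map σ.toMonoidHom
  c3 := Matrix.GeneralLinearGroup.map σ
  c9 := Matrix.GeneralLinearGroup.map σ
  inv9 g := Units.ext (by rw [val_map, val_map, map_map_self σ hσ])
  inv3 g := Units.ext (by rw [val_map, val_map, map_map_self σ hσ])
  c9_kr X Y := Units.ext (by rw [val_map, val_kr, val_kr, kron9_map, val_map, val_map])
  c9_sw := Units.ext (by rw [val_map, val_sw, swm_map])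
  c3_scl c := map_scl σ c
  c9_scl c := map_scl σ c
  det3 g hg := by rw [val_map, det_map_eq, hg, map_one]

/-- the transpose inverse -/
def ti {n : Type*} [Fintype n] [DecidableEq n] : GL n E →* GL n E := du (MonoidHom.id _)

theorem val_ti {n : Type*} [Fintype n] [DecidableEq n] (g : GL n E) :
    (ti g : Matrix n n E) = ((g⁻¹ : GL n E) : Matrix n n E)ᵀ := rfl

theorem ti_inv {n : Type*} [Fintype n] [DecidableEq n] (g : GL n E) :
    (((ti g)⁻¹ : GL n E) : Matrix n n E) = (g : Matrix n n E)ᵀ := rfl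

theorem ti_ti {n : Type*} [Fintype n] [DecidableEq n] (g : GL n E) : ti (ti g) = g :=
  Units.ext (by rw [val_ti, ti_inv, Matrix.transpose_transpose])

theorem ti_map {n : Type*} [Fintype n] [DecidableEq n] (g : GL n E) :
    ti (Matrix.GeneralLinearGroup.map σ g) = Matrix.GeneralLinearGroup.map σ (ti g) := by
  apply Units.ext
  rw [val_ti, val_map, val_ti, ← map_inv, val_map, Matrix.transpose_map]

theorem ti_kr (X Y : GL (Fin 3) E) : ti (kr X Y) = kr (ti X) (ti Y) := by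
  apply Units.ext
  rw [val_ti, kr_inv, val_kr, kron9_transpose, val_kr, val_ti, val_ti]

theorem ti_sw : ti (sw : GL (Fin 9) E) = sw := by
  apply Units.ext
  rw [val_ti, sw_inv, val_sw, swm_transpose]

theorem ti_scl {n : Type*} [Fintype n] [DecidableEq n] (c : Eˣ) : ti (scl n c) = scl n c⁻¹ := by
  apply Units.ext
  rw [val_ti, ← map_inv, val_scl, Matrix.transpose_smul, Matrix.transpose_one]

theorem ti_det {n : Type*} [Fintype n] [DecidableEq n] {g : GL n E} (h : (g : Matrix n n E).det = 1) :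
    (ti g : Matrix n n E).det = 1 := by
  have h1 : (g : Matrix n n E).det * ((g⁻¹ : GL n E) : Matrix n n E).det = 1 := by
    rw [← Matrix.det_mul, ← Units.val_mul, mul_inv_cancel, Units.val_one, Matrix.det_one]
  rw [h, one_mul] at h1
  rw [val_ti, Matrix.det_transpose, h1]

/-- the transpose inverse composed with the field automorphism -/
def circUni : Circ E where
  τ c := (Units.map σ.toMonoidHom c)⁻¹
  c3 := ti.comp (Matrix.GeneralLinearGroup.map σ)
  c9 := ti.comp (Matrix.GeneralLinearGroup.map σ)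
  inv9 g := by
    show ti (Matrix.GeneralLinearGroup.map σ (ti (Matrix.GeneralLinearGroup.map σ g))) = g
    rw [← ti_map, ti_ti]
    exact Units.ext (by rw [val_map, val_map, map_map_self σ hσ])
  inv3 g := by
    show ti (Matrix.GeneralLinearGroup.map σ (ti (Matrix.GeneralLinearGroup.map σ g))) = g
    rw [← ti_map, ti_ti]
    exact Units.ext (by rw [val_map, val_map, map_map_self σ hσ])
  c9_kr X Y := by
    show ti (Matrix.GeneralLinearGroup.map σ (kr X Y)) = kr (ti (Matrix.GeneralLinearGroup.map σ X))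
      (ti (Matrix.GeneralLinearGroup.map σ Y))
    rw [← ti_kr]
    congr 1
    exact Units.ext (by rw [val_map, val_kr, val_kr, kron9_map, val_map, val_map])
  c9_sw := by
    show ti (Matrix.GeneralLinearGroup.map σ sw) = sw
    have : Matrix.GeneralLinearGroup.map σ (sw : GL (Fin 9) E) = sw := Units.ext (by rw [val_map, val_sw, swm_map])
    rw [this, ti_sw]
  c3_scl c := by
    show ti (Matrix.GeneralLinearGroup.map σ (scl _ c)) = _
    rw [map_scl, ti_scl]
  c9_scl c := by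
    show ti (Matrix.GeneralLinearGroup.map σ (scl _ c)) = _
    rw [map_scl, ti_scl]
  det3 g hg := ti_det (by rw [val_map, det_map_eq, hg, map_one])

end circ

/-- a root of `x² - x - 1` in a field with `q²` elements -/
theorem exists_phi {E : Type v} [Field E] [Fintype E] {q : ℕ} (hE : Fintype.card E = q ^ 2) {ω : E}
    (hω : ω * ω = -ω - 1) : ∃ φ : E, φ * φ = φ + 1 := by
  by_cases h2 : (2 : E) = 0
  · exact ⟨ω, by linear_combination hω - (ω + 1) * h2⟩
  obtain ⟨σ, hσ⟩ := Cfsg.Agent.ClassicalGeometry.GUBasic.exists_powHom hE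
  have h5 : (5 : E) ^ q = 5 := by
    rw [← hσ]
    exact map_ofNat σ 5
  obtain ⟨s, hs⟩ : IsSquare (5 : E) := by
    by_cases h0 : (5 : E) = 0
    · exact ⟨0, by rw [h0, mul_zero]⟩
    have hch : ringChar E ≠ 2 := by
      intro h
      apply h2
      have := ringChar.Nat.cast_ringChar (R := E)
      rw [h] at this
      exact_mod_cast this
    rw [FiniteField.isSquare_iff hch h0, hE]
    have hq1 : (5 : E) ^ (q - 1) = 1 := by
      have hq : q ≠ 0 := by
        rintro rfl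
        have := Fintype.card_ne_zero (α := E)
        rw [hE] at this
        exact this rfl
      have h6 : (5 : E) ^ (q - 1) * 5 = 1 * 5 := by
        rw [← pow_succ, Nat.sub_add_cancel (by omega), h5, one_mul]
      exact mul_right_cancel₀ h0 h6
    have hodd : q % 2 = 1 := by
      have h7 := FiniteField.odd_card_of_char_ne_two hch
      rw [hE] at h7
      rcases Nat.mod_two_eq_zero_or_one q with h8 | h8
      · exfalso
        rw [pow_two, Nat.mul_mod, h8] at h7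
        omega
      · exact h8
    obtain ⟨k, rfl⟩ : ∃ k, q = 2 * k + 1 := ⟨q / 2, by omega⟩
    have h8 : (2 * k + 1) ^ 2 / 2 = (2 * k + 1 - 1) * (k + 1) := by
      have : (2 * k + 1) ^ 2 = 2 * ((2 * k) * (k + 1)) + 1 := by ring
      rw [this, Nat.add_sub_cancel]
      omega
    rw [h8, pow_mul, hq1, one_pow]
  refine ⟨(1 + s) / 2, ?_⟩
  field_simp
  linear_combination -hs

end Cfsg.Agent.H956.K1
end
end
end
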